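import Cfsg.Agent.FiLarge.Tables
import Cfsg.Agent.Unitary.Special
import Mathlib.Algebra.QuadraticAlgebra.Basic

/-!
An elementary abelian subgroup of order 81 in `PSU(4,3)` normalized by the alternating group of
degree six acting as on the heart of its permutation module over the field of three elements.
-/

set_option autoImplicit false
set_option maxRecDepth 100000

namespace CfsgLib.FiLarge

open Matrix

/-- The field with nine elements. -/
abbrev K9 : Type := QuadraticAlgebra (ZMod 3) 2 0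

instance k9Fact : Fact (∀ r : ZMod 3, r ^ 2 ≠ 2 + 0 * r) := ⟨by decide⟩
instance k9Prime : Fact (Nat.Prime 3) := ⟨Nat.prime_three⟩
instance k9Fintype : Fintype K9 := Fintype.ofEquiv _ (QuadraticAlgebra.equivProd (2 : ZMod 3) 0).symm

theorem card_K9 : Fintype.card K9 = 9 := rfl

theorem hK9 : Nat.card K9 = 3 ^ 2 := by rw [Nat.card_eq_fintype_card, card_K9]; rfl

theorem cube_add9 : ∀ x y : K9, (x + y) ^ 3 = x ^ 3 + y ^ 3 := by decide +kernel

/-- Decoding of a code. -/
def dec9 (c : ℕ) : K9 := ⟨((c % 3 : ℕ) : ZMod 3), ((c / 3 : ℕ) : ZMod 3)⟩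

theorem det_four (M : Matrix (Fin 4) (Fin 4) K9) : M.det =
    M 0 0 * (M 1 1 * (M 2 2 * M 3 3 - M 2 3 * M 3 2) - M 1 2 * (M 2 1 * M 3 3 - M 2 3 * M 3 1) +
      M 1 3 * (M 2 1 * M 3 2 - M 2 2 * M 3 1)) -
    M 0 1 * (M 1 0 * (M 2 2 * M 3 3 - M 2 3 * M 3 2) - M 1 2 * (M 2 0 * M 3 3 - M 2 3 * M 3 0) +
      M 1 3 * (M 2 0 * M 3 2 - M 2 2 * M 3 0)) +
    M 0 2 * (M 1 0 * (M 2 1 * M 3 3 - M 2 3 * M 3 1) - M 1 1 * (M 2 0 * M 3 3 - M 2 3 * M 3 0) +
      M 1 3 * (M 2 0 * M 3 1 - M 2 1 * M 3 0)) -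
    M 0 3 * (M 1 0 * (M 2 1 * M 3 2 - M 2 2 * M 3 1) - M 1 1 * (M 2 0 * M 3 2 - M 2 2 * M 3 0) +
      M 1 2 * (M 2 0 * M 3 1 - M 2 1 * M 3 0)) := by
  simp [Matrix.det_succ_row_zero, Fin.sum_univ_succ, Fin.succAbove]
  ring

section Transfer

variable {F F' : Type*} [Field F] [Field F'] {n q : ℕ}

open scoped Matrix

theorem map_mem_SU (e : F ≃+* F') (g : Cfsg.SU n F q) :
    Matrix.SpecialLinearGroup.map (e : F →+* F') g.1 ∈ Cfsg.SU n F' q := by
  intro u v
  have key : ∀ w : Fin n → F', (Cfsg.slToMat n F')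
      (Matrix.SpecialLinearGroup.map (e : F →+* F') g.1) *ᵥ w =
        fun i => e ((Cfsg.slToMat n F g.1 *ᵥ fun j => e.symm (w j)) i) := by
    intro w
    funext i
    simp only [Matrix.mulVec, dotProduct, map_sum, map_mul, RingEquiv.apply_symm_apply]
    rfl
  have hform : ∀ a b : Fin n → F,
      Cfsg.hermForm n F' q (fun i => e (a i)) (fun i => e (b i)) = e (Cfsg.hermForm n F q a b) := by
    intro a b
    simp only [Cfsg.hermForm, map_sum, map_mul, map_pow]
  rw [key u, key v, hform, g.2, ← hform]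
  simp only [RingEquiv.apply_symm_apply]

/-- Transport of the special unitary group along a field isomorphism. -/
def suCongr (e : F ≃+* F') : Cfsg.SU n F q ≃* Cfsg.SU n F' q where
  toFun g := ⟨_, map_mem_SU e g⟩
  invFun g := ⟨_, map_mem_SU e.symm g⟩
  left_inv g := by
    apply Subtype.ext
    apply Matrix.SpecialLinearGroup.ext
    intro i j
    exact e.symm_apply_apply _
  right_inv g := by
    apply Subtype.ext
    apply Matrix.SpecialLinearGroup.ext
    intro i j
    exact e.apply_symm_apply _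
  map_mul' a b := Subtype.ext (map_mul (Matrix.SpecialLinearGroup.map (e : F →+* F')) a.1 b.1)

/-- Transport of the projective special unitary group along a field isomorphism. -/
noncomputable def psuCongr (e : F ≃+* F') : Cfsg.PSU n F q ≃* Cfsg.PSU n F' q :=
  QuotientGroup.congr _ _ (suCongr e) (by
    ext x
    rw [Subgroup.mem_map]
    constructor
    · rintro ⟨z, hz, rfl⟩
      refine Subgroup.mem_center_iff.mpr fun g => ?_
      obtain ⟨g, rfl⟩ := (suCongr (n := n) (q := q) e).surjective g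
      change suCongr e g * suCongr e z = suCongr e z * suCongr e g
      rw [← map_mul, ← map_mul, Subgroup.mem_center_iff.mp hz g]
    · intro hx
      refine ⟨(suCongr e).symm x, Subgroup.mem_center_iff.mpr fun g => ?_,
        (suCongr e).apply_symm_apply x⟩
      apply (suCongr (n := n) (q := q) e).injective
      rw [map_mul, map_mul, MulEquiv.apply_symm_apply]
      exact Subgroup.mem_center_iff.mp hx _)

end Transfer

/-- The heart of the permutation module in difference coordinates. -/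
abbrev W : Type := Fin 4 → ZMod 3

/-- The alternating group of degree six. -/
abbrev A6 : Type := ↥(alternatingGroup (Fin 6))

/-- A vector with last coordinate zero representing an element of the heart. -/
def emb (y : W) : Fin 6 → ZMod 3 := ![y 0, y 1 - y 0, y 2 - y 1, y 3 - y 2, -y 3, 0]

/-- Difference coordinates. -/
def coords (v : Fin 6 → ZMod 3) : W :=
  ![v 0 - v 5, v 0 - v 5 + (v 1 - v 5), v 0 - v 5 + (v 1 - v 5) + (v 2 - v 5),
    v 0 - v 5 + (v 1 - v 5) + (v 2 - v 5) + (v 3 - v 5)]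

/-- Permutation of coordinates followed by normalization. -/
def actW (p : Equiv.Perm (Fin 6)) (y : W) : W := coords fun i => emb y (p.symm i)

theorem sum_emb (y : W) : ∑ i, emb y i = 0 := by
  simp only [emb, Fin.sum_univ_six, Matrix.cons_val]
  ring

theorem coords_emb (y : W) : coords (emb y) = y := by
  funext i
  fin_cases i <;> simp [coords, emb]

theorem zmod_six : (6 : ZMod 3) = 0 := by decide

theorem emb_coords (v : Fin 6 → ZMod 3) (h : ∑ i, v i = 0) (i : Fin 6) :
    emb (coords v) i = v i - v 5 := by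
  simp only [Fin.sum_univ_six] at h
  fin_cases i <;> simp [coords, emb]
  linear_combination -h + v 5 * zmod_six

theorem coords_sub_const (v : Fin 6 → ZMod 3) (c : ZMod 3) : coords (fun i => v i - c) = coords v := by
  funext i
  fin_cases i <;> simp [coords]

theorem actW_mul (p q : Equiv.Perm (Fin 6)) (y : W) : actW (p * q) y = actW p (actW q y) := by
  have hs : ∑ i, emb y (q.symm i) = 0 := (Equiv.sum_comp q.symm (emb y)).trans (sum_emb y)
  have h1 : (fun i => emb (actW q y) (p.symm i)) =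
      fun i => emb y ((p * q).symm i) - emb y (q.symm 5) := by
    funext i
    exact emb_coords _ hs (p.symm i)
  show coords _ = coords _
  rw [h1, coords_sub_const]

theorem actW_one (y : W) : actW 1 y = y := coords_emb y

theorem actW_add (p : Equiv.Perm (Fin 6)) (a b : W) : actW p (a + b) = actW p a + actW p b := by
  have h : ∀ i, emb (a + b) i = emb a i + emb b i := by
    intro i
    fin_cases i <;> simp [emb] <;> ring
  funext i
  fin_cases i <;> simp [actW, coords, h] <;> ring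

/-- The action on the heart. -/
def rho : A6 →* Equiv.Perm W where
  toFun p :=
    { toFun := actW p.1
      invFun := actW p.1⁻¹
      left_inv := fun y => by rw [← actW_mul, inv_mul_cancel, actW_one]
      right_inv := fun y => by rw [← actW_mul, mul_inv_cancel, actW_one] }
  map_one' := Equiv.ext actW_one
  map_mul' p q := Equiv.ext (actW_mul p.1 q.1)

theorem rho_add (p : A6) (a b : W) : rho p (a + b) = rho p a + rho p b := actW_add p.1 a b

/-- A three-cycle. -/
def p3 : Equiv.Perm (Fin 6) := Equiv.swap 0 1 * Equiv.swap 1 2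

/-- A five-cycle. -/
def p5 : Equiv.Perm (Fin 6) := Equiv.swap 1 2 * Equiv.swap 2 3 * Equiv.swap 3 4 * Equiv.swap 4 5

theorem p3_val : ∀ i, p3 i = ![1, 2, 0, 3, 4, 5] i := by decide

theorem p5_val : ∀ i, p5 i = ![0, 2, 3, 4, 5, 1] i := by decide

theorem p3_mem : Equiv.Perm.sign p3 = 1 := by decide
theorem p5_mem : Equiv.Perm.sign p5 = 1 := by decide

/-- The first generator. -/
def g3 : A6 := ⟨p3, p3_mem⟩

/-- The second generator. -/
def g5 : A6 := ⟨p5, p5_mem⟩

/-- Evaluation of a word on a point. -/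
def wordFun : List ℕ → Fin 6 → Fin 6
  | [], i => i
  | 0 :: l, i => ![1, 2, 0, 3, 4, 5] (wordFun l i)
  | _ :: l, i => ![0, 2, 3, 4, 5, 1] (wordFun l i)

/-- Evaluation of a word in the group. -/
def wordElt : List ℕ → A6
  | [] => 1
  | 0 :: l => g3 * wordElt l
  | _ :: l => g5 * wordElt l

/-- The number of a map. -/
def keyFun (f : Fin 6 → Fin 6) : ℕ :=
  ((((f 0).val * 6 + (f 1).val) * 6 + (f 2).val) * 6 + (f 3).val) * 36 + (f 4).val * 6 + (f 5).val

theorem wordElt_apply : ∀ (l : List ℕ) (i : Fin 6), (wordElt l).1 i = wordFun l i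
  | [], _ => rfl
  | 0 :: l, i => by
      show p3 ((wordElt l).1 i) = _
      rw [wordElt_apply l i, p3_val]
      rfl
  | (n + 1) :: l, i => by
      show p5 ((wordElt l).1 i) = _
      rw [wordElt_apply l i, p5_val]
      rfl

theorem wordElt_mem : ∀ l : List ℕ, wordElt l ∈ Subgroup.closure ({g3, g5} : Set A6)
  | [] => one_mem _
  | 0 :: l => mul_mem (Subgroup.subset_closure (Or.inl rfl)) (wordElt_mem l)
  | (_ + 1) :: l => mul_mem (Subgroup.subset_closure (Or.inr rfl)) (wordElt_mem l)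

theorem keys_sorted : ((altWords.map fun l => keyFun (wordFun l)).Pairwise (· < ·)) ∧
    altWords.length = 360 := by
  rw [← List.isChain_iff_pairwise]
  decide +kernel

theorem card_A6 : Nat.card A6 = 360 := by
  rw [nat_card_alternatingGroup, Nat.card_eq_fintype_card, Fintype.card_fin]
  rfl

theorem gen_A6 : Subgroup.closure ({g3, g5} : Set A6) = ⊤ := by
  set H := Subgroup.closure ({g3, g5} : Set A6)
  haveI : Fintype ↥H := Fintype.ofFinite _
  have hn : (altWords.map fun l => (⟨wordElt l, wordElt_mem l⟩ : H)).Nodup := by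
    refine List.Nodup.of_map (fun g : H => keyFun fun i => g.1.1 i) ?_
    rw [List.map_map]
    have e : ((fun g : H => keyFun fun i => g.1.1 i) ∘ fun l => ⟨wordElt l, wordElt_mem l⟩) =
        fun l => keyFun (wordFun l) := by
      funext l
      exact congrArg keyFun (funext fun i => wordElt_apply l i)
    rw [e]
    exact keys_sorted.1.imp ne_of_lt
  have h := hn.length_le_card
  rw [List.length_map, keys_sorted.2] at h
  exact Subgroup.eq_top_of_le_card H (by rw [card_A6, Nat.card_eq_fintype_card]; exact h)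

theorem rho_injective : Function.Injective rho := by
  haveI : IsSimpleGroup A6 := alternatingGroup.isSimpleGroup (by simp)
  rw [← MonoidHom.ker_eq_bot_iff]
  refine (IsSimpleGroup.eq_bot_or_eq_top_of_normal _ inferInstance).resolve_right fun h => ?_
  have h1 : rho g3 = 1 := MonoidHom.mem_ker.1 (h ▸ Subgroup.mem_top g3)
  have h2 := congrFun (congrArg (fun e : Equiv.Perm W => (e : W → W)) h1) ![1, 0, 0, 0]
  revert h2
  decide +kernel

/-- The pairing with a functional. -/
def dotW (l y : W) : ZMod 3 := ∑ i, l i * y i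

/-- The unit vectors. -/
def unitW (i : Fin 4) : W := Pi.single i 1

theorem no_invariant_functional : ∀ l : W, l ≠ 0 →
    ¬ ((∀ i, dotW l (rho g3 (unitW i)) = dotW l (unitW i) ∨
      ∀ i, dotW l (rho g3 (unitW i)) = -dotW l (unitW i)) ∧
     (∀ i, dotW l (rho g5 (unitW i)) = dotW l (unitW i) ∨
      ∀ i, dotW l (rho g5 (unitW i)) = -dotW l (unitW i))) := by
  decide +kernel

/-- An alternating form from six coefficients. -/
def altForm (c : Fin 6 → ZMod 3) (a b : W) : ZMod 3 :=
  c 0 * (a 0 * b 1 - a 1 * b 0) + c 1 * (a 0 * b 2 - a 2 * b 0) + c 2 * (a 0 * b 3 - a 3 * b 0) +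
  c 3 * (a 1 * b 2 - a 2 * b 1) + c 4 * (a 1 * b 3 - a 3 * b 1) + c 5 * (a 2 * b 3 - a 3 * b 2)

theorem no_invariant_form : ∀ c : Fin 6 → ZMod 3, c ≠ 0 →
    ¬ ∀ i j, altForm c (rho g3 (unitW i)) (rho g3 (unitW j)) = altForm c (unitW i) (unitW j) ∧
      altForm c (rho g5 (unitW i)) (rho g5 (unitW j)) = altForm c (unitW i) (unitW j) := by
  decide +kernel

/-- A matrix from codes. -/
def mat4 (l : List (List ℕ)) : Matrix (Fin 4) (Fin 4) K9 :=
  Matrix.of fun i j => dec9 ((l.getD i.val []).getD j.val 0)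

/-- The nilpotent matrices. -/
def nilMat (i : Fin 4) : Matrix (Fin 4) (Fin 4) K9 := mat4 (nilCodes.getD i.val [])

/-- The Levi matrices. -/
def leviMat (i : Fin 2) : Matrix (Fin 4) (Fin 4) K9 := mat4 (leviCodes.getD i.val [])

/-- The cast of the prime field. -/
def castK (a : ZMod 3) : K9 := ⟨a, 0⟩

/-- The nilpotent part attached to a vector. -/
def nilSum (y : W) : Matrix (Fin 4) (Fin 4) K9 :=
  castK (y 0) • nilMat 0 + castK (y 1) • nilMat 1 + castK (y 2) • nilMat 2 + castK (y 3) • nilMat 3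

/-- The unipotent matrix attached to a vector. -/
def uniMat (y : W) : Matrix (Fin 4) (Fin 4) K9 := 1 + nilSum y

theorem castK_add (a b : ZMod 3) : castK (a + b) = castK a + castK b :=
  QuadraticAlgebra.ext rfl (add_zero (0 : ZMod 3)).symm

theorem castK_mul : ∀ a b : ZMod 3, castK (a * b) = castK a * castK b := by decide +kernel

theorem nil_mul : ∀ i j : Fin 4, nilMat i * nilMat j = 0 := by decide +kernel

theorem nilSum_add (a b : W) : nilSum (a + b) = nilSum a + nilSum b := by
  simp only [nilSum, Pi.add_apply, castK_add, add_smul]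
  abel

theorem uniMat_add (a b : W) : uniMat (a + b) = uniMat a * uniMat b := by
  have h : nilSum a * nilSum b = 0 := by
    simp [nilSum, mul_add, add_mul, nil_mul]
  simp only [uniMat, nilSum_add, mul_add, add_mul, one_mul, mul_one, h, add_zero]
  abel

/-- Determinant one and orthonormal columns. -/
def isSU (M : Matrix (Fin 4) (Fin 4) K9) : Prop :=
  (M 0 0 * (M 1 1 * (M 2 2 * M 3 3 - M 2 3 * M 3 2) - M 1 2 * (M 2 1 * M 3 3 - M 2 3 * M 3 1) +
      M 1 3 * (M 2 1 * M 3 2 - M 2 2 * M 3 1)) -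
    M 0 1 * (M 1 0 * (M 2 2 * M 3 3 - M 2 3 * M 3 2) - M 1 2 * (M 2 0 * M 3 3 - M 2 3 * M 3 0) +
      M 1 3 * (M 2 0 * M 3 2 - M 2 2 * M 3 0)) +
    M 0 2 * (M 1 0 * (M 2 1 * M 3 3 - M 2 3 * M 3 1) - M 1 1 * (M 2 0 * M 3 3 - M 2 3 * M 3 0) +
      M 1 3 * (M 2 0 * M 3 1 - M 2 1 * M 3 0)) -
    M 0 3 * (M 1 0 * (M 2 1 * M 3 2 - M 2 2 * M 3 1) - M 1 1 * (M 2 0 * M 3 2 - M 2 2 * M 3 0) +
      M 1 2 * (M 2 0 * M 3 1 - M 2 1 * M 3 0)) = 1) ∧
  ∀ k m : Fin 4, M 0 k * M 0 m ^ 3 + M 1 k * M 1 m ^ 3 + M 2 k * M 2 m ^ 3 + M 3 k * M 3 m ^ 3 =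
    if k = m then 1 else 0

instance (M : Matrix (Fin 4) (Fin 4) K9) : Decidable (isSU M) := by unfold isSU; infer_instance

theorem isSU_det {M : Matrix (Fin 4) (Fin 4) K9} (h : isSU M) : M.det = 1 := (det_four M).trans h.1

theorem mem_SU {M : Matrix (Fin 4) (Fin 4) K9} (h : isSU M) :
    (⟨M, isSU_det h⟩ : Matrix.SpecialLinearGroup (Fin 4) K9) ∈ Cfsg.SU 4 K9 3 := by
  intro u v
  show Cfsg.hermForm 4 K9 3 (M *ᵥ u) (M *ᵥ v) = Cfsg.hermForm 4 K9 3 u v
  have h00 := h.2 0 0
  have h01 := h.2 0 1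
  have h02 := h.2 0 2
  have h03 := h.2 0 3
  have h10 := h.2 1 0
  have h11 := h.2 1 1
  have h12 := h.2 1 2
  have h13 := h.2 1 3
  have h20 := h.2 2 0
  have h21 := h.2 2 1
  have h22 := h.2 2 2
  have h23 := h.2 2 3
  have h30 := h.2 3 0
  have h31 := h.2 3 1
  have h32 := h.2 3 2
  have h33 := h.2 3 3
  simp only [Fin.reduceEq, if_true, if_false] at h00 h01 h02 h03 h10 h11 h12 h13 h20 h21 h22 h23 h30 h31 h32 h33
  simp only [Cfsg.hermForm, Matrix.mulVec, dotProduct, Fin.sum_univ_four, cube_add9, mul_pow]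
  linear_combination u 0 * v 0 ^ 3 * h00 + u 0 * v 1 ^ 3 * h01 + u 0 * v 2 ^ 3 * h02 + u 0 * v 3 ^ 3 * h03 +
    u 1 * v 0 ^ 3 * h10 + u 1 * v 1 ^ 3 * h11 + u 1 * v 2 ^ 3 * h12 + u 1 * v 3 ^ 3 * h13 +
    u 2 * v 0 ^ 3 * h20 + u 2 * v 1 ^ 3 * h21 + u 2 * v 2 ^ 3 * h22 + u 2 * v 3 ^ 3 * h23 +
    u 3 * v 0 ^ 3 * h30 + u 3 * v 1 ^ 3 * h31 + u 3 * v 2 ^ 3 * h32 + u 3 * v 3 ^ 3 * h33

theorem uniMat_isSU : ∀ y : W, isSU (uniMat y) := by decide +kernel

theorem leviMat_isSU : ∀ i : Fin 2, isSU (leviMat i) := by decide +kernel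

/-- The unipotent element attached to a vector. -/
def uniElt (y : W) : Cfsg.SU 4 K9 3 := ⟨⟨uniMat y, isSU_det (uniMat_isSU y)⟩, mem_SU (uniMat_isSU y)⟩

/-- The Levi elements. -/
def leviElt (i : Fin 2) : Cfsg.SU 4 K9 3 :=
  ⟨⟨leviMat i, isSU_det (leviMat_isSU i)⟩, mem_SU (leviMat_isSU i)⟩

theorem uniElt_add (a b : W) : uniElt (a + b) = uniElt a * uniElt b :=
  Subtype.ext (Subtype.ext (uniMat_add a b))

theorem levi_conj : ∀ i : Fin 4,
    leviMat 0 * nilMat i = nilSum (rho g3 (unitW i)) * leviMat 0 ∧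
    leviMat 1 * nilMat i = nilSum (rho g5 (unitW i)) * leviMat 1 := by decide +kernel

theorem nilSum_unit : ∀ i : Fin 4, nilSum (unitW i) = nilMat i := by decide +kernel

theorem expand (y : W) :
    y = y 0 • unitW 0 + y 1 • unitW 1 + y 2 • unitW 2 + y 3 • unitW 3 := by
  funext i
  fin_cases i <;> simp [unitW]

theorem rho_smul (p : A6) (c : ZMod 3) (a : W) : rho p (c • a) = c • rho p a := by
  have h0 : rho p 0 = 0 := by
    have h := rho_add p 0 0
    rw [add_zero] at h
    exact add_eq_left.1 h.symm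
  rcases (by decide : ∀ c : ZMod 3, c = 0 ∨ c = 1 ∨ c = 1 + 1) c with rfl | rfl | rfl
  · simpa using h0
  · simp
  · simp only [add_smul, one_smul, rho_add]

theorem nilSum_smul (c : ZMod 3) (a : W) : nilSum (c • a) = castK c • nilSum a := by
  simp [nilSum, smul_add, smul_smul, castK_mul]

theorem levi_uni (p : A6) (M : Matrix (Fin 4) (Fin 4) K9)
    (h : ∀ i, M * nilMat i = nilSum (rho p (unitW i)) * M) (y : W) :
    M * uniMat y = uniMat (rho p y) * M := by
  have h1 : M * nilSum y = nilSum (rho p y) * M := by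
    conv_rhs => rw [expand y]
    simp only [rho_add, rho_smul, nilSum_add, nilSum_smul, add_mul, Matrix.smul_mul, ← h]
    simp only [nilSum, mul_add, Matrix.mul_smul]
  simp only [uniMat, mul_add, add_mul, mul_one, one_mul, h1]

theorem uniMat_scalar : ∀ y : W, y ≠ 0 → ∀ a : K9, uniMat y ≠ a • (1 : Matrix (Fin 4) (Fin 4) K9) := by
  decide +kernel

theorem exists_model_K9 : ∃ L : W → Cfsg.PSU 4 K9 3, (∀ a b, L (a + b) = L a * L b) ∧
    Function.Injective L ∧ ∀ p : A6, ∃ n, ∀ y, n * L y * n⁻¹ = L (rho p y) := by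
  let L : W → Cfsg.PSU 4 K9 3 := fun y => QuotientGroup.mk (uniElt y)
  have hadd : ∀ a b, L (a + b) = L a * L b := fun a b => by
    show QuotientGroup.mk _ = _
    rw [uniElt_add]
    rfl
  refine ⟨L, hadd, fun a b h => ?_, fun p => ?_⟩
  · have h0 : L 0 = 1 := by
      have h9 := hadd 0 0
      rw [add_zero] at h9
      exact mul_left_cancel (h9.symm.trans (mul_one _).symm)
    have h1 : L (a - b) = 1 := by
      have h2 := hadd (a - b) b
      rw [sub_add_cancel, h] at h2
      exact right_eq_mul.1 h2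
    obtain ⟨c, hc⟩ := (CfsgLib.Unitary.mem_center_SU_iff hK9 (by norm_num)).1
      ((QuotientGroup.eq_one_iff _).1 h1)
    by_contra hab
    exact uniMat_scalar (a - b) (sub_ne_zero.2 hab) c hc
  · have hp : p ∈ Subgroup.closure ({g3, g5} : Set A6) := gen_A6 ▸ Subgroup.mem_top p
    induction hp using Subgroup.closure_induction with
    | mem q hq =>
      obtain ⟨i, hi⟩ : ∃ i : Fin 2, ∀ y, leviMat i * uniMat y = uniMat (rho q y) * leviMat i := by
        rcases hq with rfl | rfl
        · exact ⟨0, levi_uni _ _ fun i => (levi_conj i).1⟩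
        · exact ⟨1, levi_uni _ _ fun i => (levi_conj i).2⟩
      refine ⟨QuotientGroup.mk (leviElt i), fun y => ?_⟩
      rw [mul_inv_eq_iff_eq_mul]
      show QuotientGroup.mk (leviElt i * uniElt y) = QuotientGroup.mk (uniElt (rho q y) * leviElt i)
      congr 1
      exact Subtype.ext (Subtype.ext (hi y))
    | one => exact ⟨1, fun y => by simp⟩
    | mul a b _ _ ha hb =>
      obtain ⟨n, hn⟩ := ha
      obtain ⟨m, hm⟩ := hb
      refine ⟨n * m, fun y => ?_⟩
      rw [map_mul, Equiv.Perm.mul_apply, ← hn, ← hm]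
      group
    | inv a _ ha =>
      obtain ⟨n, hn⟩ := ha
      refine ⟨n⁻¹, fun y => ?_⟩
      have h := hn ((rho a⁻¹) y)
      rw [map_inv, Equiv.Perm.coe_inv, Equiv.apply_symm_apply] at h
      rw [map_inv, Equiv.Perm.coe_inv, ← h]
      group

theorem exists_model (K : Type) [Field K] [Fintype K] (hK : Fintype.card K = 9) :
    ∃ L : W → Cfsg.PSU 4 K 3, (∀ a b, L (a + b) = L a * L b) ∧ Function.Injective L ∧
      ∀ p : A6, ∃ n, ∀ y, n * L y * n⁻¹ = L (rho p y) := by
  let e : K9 ≃+* K := FiniteField.ringEquivOfCardEq (by rw [card_K9, hK])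
  let f := psuCongr (n := 4) (q := 3) e
  obtain ⟨L, h1, h2, h3⟩ := exists_model_K9
  refine ⟨fun y => f (L y), fun a b => by simp only [h1, map_mul], f.injective.comp h2, fun p => ?_⟩
  obtain ⟨n, hn⟩ := h3 p
  exact ⟨f n, fun y => by rw [← map_inv, ← map_mul, ← map_mul, hn]⟩

end CfsgLib.FiLarge
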