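import Mathlib.Algebra.QuadraticAlgebra.Basic
import Mathlib.Data.ZMod.Basic
import Mathlib.Algebra.Module.LinearMap.End
import Mathlib.Tactic

/-!
The six-dimensional space over the field of four elements and the standard form of the setting.
-/

set_option autoImplicit false

namespace CfsgLib.FiLarge

/-- The field with four elements. -/
abbrev F4 : Type := QuadraticAlgebra (ZMod 2) 1 1

instance f4Fact : Fact (∀ r : ZMod 2, r ^ 2 ≠ 1 + 1 * r) := ⟨by decide⟩
instance f4Prime : Fact (Nat.Prime 2) := ⟨by norm_num⟩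
instance f4Fintype : Fintype F4 := Fintype.ofEquiv _ (QuadraticAlgebra.equivProd (1 : ZMod 2) 1).symm

theorem card_F4 : Fintype.card F4 = 4 := rfl

/-- The root of unity of order three. -/
def om : F4 := ⟨0, 1⟩

/-- A power of the root of unity. -/
def omp (c : ZMod 3) : F4 := if c = 0 then 1 else if c = 1 then om else om * om

theorem omp_add : ∀ a b : ZMod 3, omp (a + b) = omp a * omp b := by decide +kernel

theorem omp_ne : ∀ a : ZMod 3, omp a ≠ 0 := by decide +kernel

theorem omp_inj : ∀ a b : ZMod 3, omp a = omp b → a = b := by decide +kernel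

theorem exists_omp : ∀ a : F4, a ≠ 0 → ∃ c, omp c = a := by decide +kernel

theorem omp_zero : omp 0 = 1 := rfl

/-- The space. -/
abbrev V6 : Type := Fin 6 → F4

/-- The parity of the support. -/
def qn (a : V6) : ZMod 2 := ∑ i, if a i = 0 then 0 else 1

/-- Multiplication by monomial phases. -/
def dmul (v : Fin 6 → ZMod 3) (a : V6) : V6 := fun i => omp (v i) * a i

/-- The standard form of the quotient of an involution centraliser of large Fischer type. -/
structure Std (C : Type*) [Group C] where
  /-- The action. -/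
  r : C →* (V6 ≃ₗ[ZMod 2] V6)
  inj : Function.Injective r
  inv : ∀ c a, qn (r c a) = qn a
  /-- The subgroup of index two. -/
  M : Subgroup C
  idx : M.index = 2
  /-- The scalar. -/
  x : C
  x_mem : x ∈ M
  x_act : ∀ a, r x a = om • a
  central : ∀ c ∈ M, c * x = x * c
  semi : ∀ c, c * x * c⁻¹ = x ∨ c * x * c⁻¹ = x⁻¹
  card : Nat.card C = 19595520
  diag : ∀ v : Fin 6 → ZMod 3, ∑ i, v i = 0 → ∃ c ∈ M, ∀ a, r c a = dmul v a
  perm : ∀ τ : Equiv.Perm (Fin 6), Equiv.Perm.sign τ = 1 → ∃ c ∈ M, ∀ a, r c a = fun i => a (τ i)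

end CfsgLib.FiLarge
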