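import Cfsg.Agent.FiLarge.Model
import Cfsg.Agent.FiLarge.Field
import Mathlib.GroupTheory.Perm.Cycle.Type

/-!
The orbits on nonzero singular vectors: two, of lengths 378 and 1701, through an element of order
seven without fixed vectors.
-/

set_option autoImplicit false
set_option maxRecDepth 100000

namespace CfsgLib.FiLarge

/-- The exponent of a field element, zero at zero. -/
def logF (a : F4) : ZMod 3 := if a = om then 1 else if a = om * om then 2 else 0

/-- The normal forms of the five monomial classes. -/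
def nf : Fin 5 → V6 :=
  ![![1, 1, 0, 0, 0, 0], ![1, 1, 1, 1, 0, 0], ![1, 1, 1, 1, 1, 1], ![om, 1, 1, 1, 1, 1],
    ![om * om, 1, 1, 1, 1, 1]]

/-- The size of the support. -/
def suppN (a : V6) : ℕ := ∑ i, if a i = 0 then 0 else 1

/-- The monomial class. -/
def kind (a : V6) : Option (Fin 5) :=
  if suppN a = 2 then some 0 else if suppN a = 4 then some 1
  else if suppN a = 6 then
    (if ∑ i, logF (a i) = 0 then some 2 else if ∑ i, logF (a i) = 1 then some 3 else some 4)
  else none

/-- The sizes of the classes. -/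
def sizeK : Fin 5 → ℕ := ![135, 1215, 243, 243, 243]

/-- Words moving a support to an initial segment, by the code of the support. -/
def suppWords : List (List ℕ) := [[], [], [0, 0], [], [0], [0], [0, 0], [], [0, 0, 1, 1, 1], [1, 1, 1], [1, 1, 0, 1], [1, 0, 1, 0, 1], [1, 1, 1, 0], [1, 1, 1, 1], [1, 1, 1, 1, 0], [], [0, 0, 1, 1], [1, 1], [1, 0, 1], [1, 0, 1], [1, 1, 0], [1, 0, 1, 0], [1, 0, 1, 0, 0], [1, 1, 0, 1, 1, 1], [1, 0, 0, 1, 1], [1, 1, 1], [1, 1, 0, 1], [1, 1, 0, 1], [1, 1, 1, 0], [1, 1, 1, 1], [1, 1, 1, 1, 0], [], [0, 0, 1], [1], [1, 0, 0], [1], [1, 0], [1, 0], [1, 0, 0], [1], [1, 0, 1, 1], [1, 0, 1, 1], [1, 0, 1, 1, 0, 0], [1, 1, 0, 1, 1, 0, 0], [1, 0, 1, 1, 0], [1, 1, 0, 1, 1], [1, 1, 0, 1, 1, 0], [1], [1, 0, 0, 1], [1, 1], [1, 1, 0, 0], [1, 1], [1, 1, 0], [1, 1, 0], [1, 1, 0, 0], [1, 1], [1, 1, 0, 0, 1], [1, 1, 1], [1, 1, 1, 0, 0], [1, 1, 1], [1, 1, 1, 0], [1, 1, 1, 0], [1, 1, 1, 0, 0], []]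

/-- The code of a support. -/
def suppCode (a : V6) : ℕ := ∑ i : Fin 6, if a i = 0 then 0 else 2 ^ i.val

/-- The first zero coordinate, or the first coordinate. -/
def zeroAt (a : V6) : Fin 6 :=
  if a 0 = 0 then 0 else if a 1 = 0 then 1 else if a 2 = 0 then 2 else if a 3 = 0 then 3
  else if a 4 = 0 then 4 else if a 5 = 0 then 5 else 0

/-- The phases. -/
def phases (a : V6) (k : Fin 5) : Fin 6 → ZMod 3 :=
  let w := suppWords.getD (suppCode a) []
  let b : Fin 6 → ZMod 3 := fun i => logF (a i) - logF (nf k (wordFun w i))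
  fun i => if i = zeroAt a then b i - ∑ j, b j else b i

theorem kind_ok : ∀ a : V6, ∀ k, kind a = some k →
    ∑ i, phases a k i = 0 ∧
      dmul (phases a k) (fun i => nf k (wordFun (suppWords.getD (suppCode a) []) i)) = a := by
  decide +kernel

theorem singular_iff : ∀ a : V6, (qn a = 0 ∧ a ≠ 0) ↔ (kind a).isSome = true := by decide +kernel

theorem kind_nf : ∀ k, kind (nf k) = some k := by decide +kernel

theorem kind_card : ∀ k, (Finset.univ.filter fun a : V6 => kind a = some k).card = sizeK k := by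
  decide +kernel

theorem singular_card : (Finset.univ.filter fun a : V6 => qn a = 0).card = 2080 := by decide +kernel

theorem unions : ∀ I : Finset (Fin 5), I.Nonempty → (∑ k ∈ I, sizeK k) % 7 = 0 →
    19595520 % (∑ k ∈ I, sizeK k) = 0 →
    ((0 ∈ I ∧ ∑ k ∈ I, sizeK k = 378 ∧ ∃ k, k ≠ 0 ∧ k ≠ 1 ∧ k ∉ I) ∨ (0 ∉ I ∧ ∑ k ∈ I, sizeK k = 1701)) := by
  decide +kernel

/-- The vector of support two. -/
def v2 : V6 := nf 0

/-- The sign of the form. -/
def chi (a : V6) : ℤ := if qn a = 0 then 1 else -1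

/-- The sign of the polar form. -/
def eps (a b : V6) : ℤ := chi (a + b) * chi a * chi b

theorem eps_prod (u v : V6) : eps u v = ∏ i : Fin 6,
    (if u i = 0 then 1 else if v i = 0 then 1 else if u i = v i then 1 else -1 : ℤ) := by
  have hc : ∀ w : V6, chi w = ∏ i : Fin 6, (if w i = 0 then 1 else -1 : ℤ) := by
    intro w
    have key : ∀ s : Finset (Fin 6), (if ∑ i ∈ s, (if w i = 0 then (0 : ZMod 2) else 1) = 0 then (1 : ℤ) else -1) =
        ∏ i ∈ s, (if w i = 0 then 1 else -1 : ℤ) := by
      intro s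
      induction s using Finset.induction with
      | empty => simp
      | insert j s hj ih =>
        rw [Finset.sum_insert hj, Finset.prod_insert hj, ← ih]
        generalize (∑ i ∈ s, if w i = 0 then (0 : ZMod 2) else 1) = t
        clear ih
        revert t
        by_cases hw : w j = 0 <;> simp only [hw, if_true, if_false] <;> decide
    exact key Finset.univ
  simp only [eps, hc, ← Finset.prod_mul_distrib]
  refine Finset.prod_congr rfl fun i _ => ?_
  exact (by decide +kernel : ∀ s t : F4, (if s + t = 0 then (1 : ℤ) else -1) *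
    (if s = 0 then 1 else -1) * (if t = 0 then 1 else -1) =
    if s = 0 then 1 else if t = 0 then 1 else if s = t then 1 else -1) (u i) (v i)

theorem eps_add (a b c : V6) : eps (a + b) c = eps a c * eps b c := by
  rw [eps_prod, eps_prod, eps_prod, ← Finset.prod_mul_distrib]
  refine Finset.prod_congr rfl fun i _ => ?_
  exact (by decide +kernel : ∀ s s' t : F4,
    (if s + s' = 0 then (1 : ℤ) else if t = 0 then 1 else if s + s' = t then 1 else -1) =
    (if s = 0 then 1 else if t = 0 then 1 else if s = t then 1 else -1) *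
    (if s' = 0 then 1 else if t = 0 then 1 else if s' = t then 1 else -1)) (a i) (b i) (c i)

namespace Std

variable {C : Type*} [Group C] [Finite C] (T : Std C)

theorem r_one (a : V6) : T.r 1 a = a := by rw [map_one]; rfl

theorem r_mul (c d : C) (a : V6) : T.r (c * d) a = T.r c (T.r d a) := by rw [map_mul]; rfl

theorem exists_mono {a : V6} {k : Fin 5} (h : kind a = some k) : ∃ c ∈ T.M, T.r c (nf k) = a := by
  obtain ⟨h1, h2⟩ := kind_ok a k h
  set w := suppWords.getD (suppCode a) []
  obtain ⟨c, hc, hcp⟩ := T.perm (wordElt w).1 (wordElt w).2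
  obtain ⟨d, hd, hdp⟩ := T.diag _ h1
  refine ⟨d * c, mul_mem hd hc, ?_⟩
  rw [r_mul, hcp, hdp]
  conv_rhs => rw [← h2]
  congr 1
  funext i
  rw [wordElt_apply]

theorem card_M : Nat.card T.M = 9797760 := by
  have h := Subgroup.index_mul_card T.M
  rw [T.idx, T.card] at h
  omega

/-- The stabiliser of a vector. -/
def stab (a : V6) : Subgroup C where
  carrier := {c | T.r c a = a}
  one_mem' := T.r_one a
  mul_mem' := fun {c d} (hc : T.r c a = a) (hd : T.r d a = a) => show T.r (c * d) a = a by
    rw [r_mul, hd, hc]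
  inv_mem' := fun {c} (hc : T.r c a = a) => show T.r c⁻¹ a = a by
    conv_lhs => rw [← hc]
    rw [← r_mul, inv_mul_cancel, r_one]

theorem mem_stab {c : C} {a : V6} : c ∈ T.stab a ↔ T.r c a = a := Iff.rfl

open Classical in
/-- The orbit of a vector under a subgroup. -/
noncomputable def orb (H : Subgroup C) (a : V6) : Finset V6 :=
  Finset.univ.filter fun b => ∃ c ∈ H, T.r c a = b

theorem mem_orb {H : Subgroup C} {a b : V6} : b ∈ T.orb H a ↔ ∃ c ∈ H, T.r c a = b := by
  classical
  simp [orb]

theorem card_orb (H : Subgroup C) (a : V6) :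
    (T.orb H a).card * Nat.card ↥(T.stab a ⊓ H) = Nat.card H := by
  classical
  haveI : Fintype H := Fintype.ofFinite _
  letI : MulAction H V6 :=
    { smul := fun c b => T.r c.1 b
      one_smul := fun b => T.r_one b
      mul_smul := fun c d b => T.r_mul c.1 d.1 b }
  have h := MulAction.card_orbit_mul_card_stabilizer_eq_card_group H a
  rw [← Nat.card_eq_fintype_card, ← Nat.card_eq_fintype_card, ← Nat.card_eq_fintype_card] at h
  rw [← h]
  congr 1
  · rw [← Nat.card_eq_finsetCard]
    refine Nat.card_congr (Equiv.subtypeEquivRight fun b => ?_)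
    rw [mem_orb, MulAction.mem_orbit_iff]
    exact ⟨fun ⟨c, hc, e⟩ => ⟨⟨c, hc⟩, e⟩, fun ⟨c, e⟩ => ⟨c.1, c.2, e⟩⟩
  · exact Nat.card_congr
      { toFun := fun c => ⟨⟨c.1, c.2.2⟩, c.2.1⟩
        invFun := fun c => ⟨c.1.1, c.2, c.1.2⟩
        left_inv := fun c => rfl
        right_inv := fun c => rfl }

theorem om_fix {a : V6} (h : om • a = a) : a = 0 := by
  funext i
  have h1 : om * a i = a i := congrFun h i
  exact ((by decide +kernel : ∀ t : F4, om * t = t → t = 0)) _ h1

theorem exists_fpf : ∃ g ∈ T.M, g ^ 7 = 1 ∧ ∀ a, T.r g a = a → a = 0 := by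
  classical
  haveI : Fact (Nat.Prime 7) := ⟨by norm_num⟩
  haveI : Fact (Nat.Prime 3) := ⟨Nat.prime_three⟩
  obtain ⟨g, hg⟩ := exists_prime_orderOf_dvd_card' 7 (G := T.M) (by rw [T.card_M]; norm_num)
  have hg7 : (g : C) ^ 7 = 1 := by
    rw [← hg, ← Subgroup.coe_pow, pow_orderOf_eq_one, Subgroup.coe_one]
  refine ⟨g, g.2, hg7, ?_⟩
  let F : Submodule (ZMod 2) V6 := LinearMap.ker ((T.r (g : C)).toLinearMap - LinearMap.id)
  have hF : ∀ a, a ∈ F ↔ T.r (g : C) a = a := fun a => by
    simp [F, LinearMap.mem_ker, sub_eq_zero]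
  have hd : Nat.card F = 2 ^ Module.finrank (ZMod 2) F := by
    have h := Module.natCard_eq_pow_finrank (K := ZMod 2) (V := F)
    rwa [Nat.card_zmod] at h
  have hxg : ∀ a, T.r (g : C) (om • a) = om • T.r (g : C) a := fun a => by
    rw [← T.x_act, ← T.x_act, ← r_mul, ← r_mul, T.central _ g.2]
  let sg : Equiv.Perm V6 := (T.r (g : C)).toEquiv
  have hsg : sg ^ 7 ^ 1 = 1 := by
    have h : ∀ n a, (sg ^ n) a = T.r ((g : C) ^ n) a := by
      intro n
      induction n with
      | zero => intro a; simp [r_one]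
      | succ n ih => intro a; rw [pow_succ', pow_succ', Equiv.Perm.mul_apply, ih, r_mul]; rfl
    refine Equiv.ext fun a => ?_
    rw [pow_one, h, hg7, r_one]
    rfl
  have h7 : Nat.card F % 7 = 4096 % 7 := by
    have h := Equiv.Perm.card_compl_support_modEq (p := 7) (n := 1) hsg
    rw [show Fintype.card V6 = 4096 by simp [card_F4]] at h
    rw [← h, ← Nat.card_eq_finsetCard]
    congr 1
    exact Nat.card_congr (Equiv.subtypeEquivRight fun a => by simp [hF, sg])
  have hom : ∀ a ∈ F, om • a ∈ F := fun a ha => by rw [hF] at ha ⊢; rw [hxg, ha]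
  have hom3 : ∀ a : V6, om • om • om • a = a := fun a => by
    funext i
    show om * (om * (om * a i)) = a i
    rw [← mul_assoc, ← mul_assoc, show om * om * om = 1 by decide +kernel, one_mul]
  have hmod3 : ∀ P : V6 → Prop, (∀ a, P a → P (om • a)) → P 0 → Nat.card {a : F // P a.1} % 3 = 1 := by
    intro P hP hP0
    let so : Equiv.Perm {a : F // P a.1} :=
      { toFun := fun a => ⟨⟨om • a.1.1, hom _ a.1.2⟩, hP _ a.2⟩
        invFun := fun a => ⟨⟨om • om • a.1.1, hom _ (hom _ a.1.2)⟩, hP _ (hP _ a.2)⟩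
        left_inv := fun a => Subtype.ext (Subtype.ext (hom3 _))
        right_inv := fun a => Subtype.ext (Subtype.ext (hom3 _)) }
    have hso : so ^ 3 ^ 1 = 1 := Equiv.ext fun a => Subtype.ext (Subtype.ext (hom3 _))
    have h := Equiv.Perm.card_compl_support_modEq (p := 3) (n := 1) hso
    have hc : so.supportᶜ = {⟨0, hP0⟩} := by
      ext a
      simp only [Finset.mem_compl, Equiv.Perm.mem_support, not_not, Finset.mem_singleton]
      constructor
      · intro e
        exact Subtype.ext (Subtype.ext (om_fix (congrArg (fun u => u.1.1) e)))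
      · rintro rfl
        exact Subtype.ext (Subtype.ext (smul_zero _))
    rw [hc, Finset.card_singleton, ← Nat.card_eq_fintype_card] at h
    exact h.symm
  have h3 : Nat.card F % 3 = 1 := by
    have h := hmod3 (fun _ => True) (fun _ _ => trivial) trivial
    rwa [Nat.card_congr (Equiv.subtypeUnivEquiv fun _ => trivial)] at h
  have hle : Module.finrank (ZMod 2) F ≤ 12 := by
    have h := Nat.card_le_card_of_injective _ (Subtype.val_injective : Function.Injective (Subtype.val : F → V6))
    rw [hd, Nat.card_eq_fintype_card, show Fintype.card V6 = 2 ^ 12 by simp [card_F4]] at h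
    exact (Nat.pow_le_pow_iff_right one_lt_two).1 h
  rw [hd] at h7 h3
  have hcases : Module.finrank (ZMod 2) F = 0 ∨ Module.finrank (ZMod 2) F = 6 ∨
      Module.finrank (ZMod 2) F = 12 := by
    revert hle h7 h3
    generalize Module.finrank (ZMod 2) F = d
    intro h7 h3 hle
    interval_cases d <;> omega
  rcases hcases with h | h | h
  · intro a ha
    rw [h, pow_zero] at hd
    haveI := (Nat.card_eq_one_iff_unique.1 hd).1
    exact congrArg Subtype.val (Subsingleton.elim (⟨a, (hF a).2 ha⟩ : F) 0)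
  · exfalso
    rw [h] at hd
    -- the restricted form is nondegenerate
    have hsymm : ∀ a b, eps a b = eps b a := fun a b => by simp only [eps, add_comm a b]; ring
    have hchig : ∀ a, chi (T.r (g : C) a) = chi a := fun a => by simp only [chi, T.inv]
    have hepsg : ∀ a b, eps (T.r (g : C) a) (T.r (g : C) b) = eps a b := fun a b => by
      simp only [eps, ← map_add, hchig]
    have hnd : ∀ w ∈ F, w ≠ 0 → ∃ u ∈ F, eps u w = -1 := by
      intro w hw hw0
      obtain ⟨i, hi⟩ := Function.ne_iff.1 hw0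
      have hwi : w i ≠ 0 := hi
      obtain ⟨u, hu⟩ : ∃ u : V6, eps u w = -1 := by
        refine ⟨Pi.single i (om * w i), ?_⟩
        rw [eps_prod, Finset.prod_eq_single i]
        · rw [Pi.single_eq_same]
          revert hwi
          generalize w i = t
          revert t
          decide +kernel
        · intro j _ hj
          rw [Pi.single_eq_of_ne hj, if_pos rfl]
        · simp
      let gp : ℕ → V6 := fun k => T.r ((g : C) ^ k) u
      let avg := ∑ k ∈ Finset.range 7, gp k
      have havg : avg ∈ F := by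
        rw [hF]
        show T.r (g : C) (∑ k ∈ Finset.range 7, gp k) = _
        rw [map_sum]
        have h1 : ∀ k, T.r (g : C) (gp k) = gp (k + 1) := fun k => by
          show _ = T.r ((g : C) ^ (k + 1)) u
          rw [pow_succ', r_mul]
        rw [Finset.sum_congr rfl fun k _ => h1 k]
        show ∑ k ∈ Finset.range 7, gp (k + 1) = ∑ k ∈ Finset.range 7, gp k
        have h7' : gp 7 = gp 0 := by show T.r ((g : C) ^ 7) u = T.r ((g : C) ^ 0) u; rw [hg7, pow_zero]
        simp only [Finset.sum_range_succ, Finset.sum_range_zero, h7']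
        abel
      refine ⟨avg, havg, ?_⟩
      have hk : ∀ k, eps (gp k) w = -1 := by
        intro k
        have hwk : T.r ((g : C) ^ k) w = w := by
          induction k with
          | zero => rw [pow_zero, r_one]
          | succ k ih => rw [pow_succ, r_mul, (hF w).1 hw, ih]
        show eps (T.r ((g : C) ^ k) u) w = -1
        rw [← hwk]
        simp only [eps, chi, ← map_add, T.inv]
        exact hu
      show eps (∑ k ∈ Finset.range 7, gp k) w = -1
      simp only [Finset.sum_range_succ, Finset.sum_range_zero, zero_add, eps_add, hk]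
      norm_num
    -- the sum of the signs
    haveI : Fintype F := Fintype.ofFinite _
    let S : ℤ := ∑ u : F, chi u.1
    have hS : S * S = 64 := by
      have h1 : S * S = ∑ u : F, ∑ w : F, chi w.1 * eps u.1 w.1 := by
        rw [Finset.sum_mul_sum]
        refine Finset.sum_congr rfl fun u _ => ?_
        rw [← Equiv.sum_comp (Equiv.addLeft u)]
        refine Finset.sum_congr rfl fun w _ => ?_
        simp only [Equiv.coe_addLeft, eps, Submodule.coe_add]
        have hsq : chi w.1 * chi w.1 = 1 := by unfold chi; split_ifs <;> norm_num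
        linear_combination (-(chi (u.1 + w.1) * chi u.1)) * hsq
      rw [h1, Finset.sum_comm, Finset.sum_eq_single (0 : F)]
      · have h0 : ∀ u : V6, eps u 0 = 1 := fun u => by
          simp only [eps, add_zero]
          have : chi (0 : V6) = 1 := by decide +kernel
          rw [this, mul_one]
          unfold chi; split_ifs <;> norm_num
        have hc0 : chi (0 : V6) = 1 := by decide +kernel
        simp only [hc0, ZeroMemClass.coe_zero, h0, mul_one, Finset.sum_const, Finset.card_univ]
        rw [← Nat.card_eq_fintype_card, hd]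
        norm_num
      · intro w _ hw
        rw [← Finset.mul_sum]
        refine mul_eq_zero_of_right _ ?_
        obtain ⟨u0, hu0, hu0w⟩ := hnd w.1 w.2 (fun e => hw (Subtype.ext e))
        have h2 : ∑ u : F, eps u.1 w.1 = -∑ u : F, eps u.1 w.1 := by
          conv_lhs => rw [← Equiv.sum_comp (Equiv.addLeft (⟨u0, hu0⟩ : F))]
          rw [← Finset.sum_neg_distrib]
          refine Finset.sum_congr rfl fun u _ => ?_
          simp only [Equiv.coe_addLeft, Submodule.coe_add, eps_add, hu0w, neg_one_mul]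
        linarith
      · simp
    let s := Nat.card {u : F // qn u.1 = 0}
    have hSs : S = 2 * (s : ℤ) - 64 := by
      have : S = ∑ u : F, (2 * (if qn u.1 = 0 then (1 : ℤ) else 0) - 1) :=
        Finset.sum_congr rfl fun u _ => by unfold chi; split_ifs <;> norm_num
      rw [this, Finset.sum_sub_distrib, ← Finset.mul_sum, Finset.sum_boole, Finset.sum_const,
        Finset.card_univ, ← Nat.card_eq_fintype_card, hd]
      simp [s, Nat.card_eq_fintype_card, Fintype.card_subtype]
    have hs7 : s % 7 = 1 := by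
      let ss : Equiv.Perm {a : V6 // qn a = 0} :=
        Equiv.subtypeEquiv sg fun a => by simp [sg, T.inv]
      have hss : ss ^ 7 ^ 1 = 1 := by
        refine Equiv.ext fun a => Subtype.ext ?_
        have h : ∀ n, ((ss ^ n) a).1 = (sg ^ n) a.1 := by
          intro n
          induction n with
          | zero => rfl
          | succ n ih => rw [pow_succ', pow_succ', Equiv.Perm.mul_apply, Equiv.Perm.mul_apply, ← ih]; rfl
        rw [h, hsg]
        rfl
      have h := Equiv.Perm.card_compl_support_modEq (p := 7) (n := 1) hss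
      rw [Fintype.card_subtype, singular_card] at h
      have hc : ss.supportᶜ.card = s := by
        rw [← Nat.card_eq_finsetCard]
        refine Nat.card_congr
          { toFun := fun a => ⟨⟨a.1.1, (hF _).2 ?_⟩, a.1.2⟩
            invFun := fun u => ⟨⟨u.1.1, u.2⟩, ?_⟩
            left_inv := fun a => rfl
            right_inv := fun u => rfl }
        · have := a.2
          simp only [Finset.mem_compl, Equiv.Perm.mem_support, not_not] at this
          exact congrArg Subtype.val this
        · simp only [Finset.mem_compl, Equiv.Perm.mem_support, not_not]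
          exact Subtype.ext ((hF _).1 u.1.2)
      rw [hc] at h
      exact h
    have hs3 : s % 3 = 1 := hmod3 (fun a => qn a = 0)
      (fun a ha => by rw [← T.x_act, T.inv, ha]) (by decide +kernel)
    rw [hSs] at hS
    have : (s : ℤ) = 36 ∨ (s : ℤ) = 28 := by
      have h1 : (2 * (s : ℤ) - 72) * (2 * (s : ℤ) - 56) = 0 := by linear_combination hS
      rcases mul_eq_zero.1 h1 with e | e
      · left; omega
      · right; omega
    rcases this with e | e <;> omega
  · exfalso
    have hfull : F = ⊤ := Submodule.eq_top_of_finrank_eq (by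
      rw [h, Module.finrank_pi_fintype]
      have : Module.finrank (ZMod 2) F4 = 2 := QuadraticAlgebra.finrank_eq_two _ _
      simp [this])
    have hg1 : (g : C) = 1 := T.inj (LinearEquiv.ext fun a => by
      rw [r_one]; exact (hF a).1 (hfull ▸ trivial))
    rw [show g = 1 from Subtype.ext hg1, orderOf_one] at hg
    norm_num at hg

theorem exists_I {H : Subgroup C} (hH : T.M ≤ H) {a : V6} (ha : qn a = 0) (ha0 : a ≠ 0) :
    ∃ I : Finset (Fin 5), (T.orb H a).card = ∑ k ∈ I, sizeK k ∧ (∀ k, k ∈ I ↔ nf k ∈ T.orb H a) ∧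
      ((0 ∈ I ∧ (T.orb H a).card = 378 ∧ ∃ k, k ≠ 0 ∧ k ≠ 1 ∧ k ∉ I) ∨
        (0 ∉ I ∧ (T.orb H a).card = 1701)) := by
  classical
  set O := T.orb H a
  let I := Finset.univ.filter fun k => nf k ∈ O
  have hkind : ∀ b ∈ O, ∃ k, kind b = some k := by
    intro b hb
    obtain ⟨c, -, rfl⟩ := T.mem_orb.1 hb
    exact Option.isSome_iff_exists.1 ((singular_iff _).1
      ⟨by rw [T.inv, ha], (LinearEquiv.map_ne_zero_iff _).2 ha0⟩)
  have hclosed : ∀ b k, kind b = some k → (b ∈ O ↔ nf k ∈ O) := by
    intro b k hk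
    obtain ⟨d, hd, hdb⟩ := T.exists_mono hk
    constructor
    · intro hb
      obtain ⟨c, hc, rfl⟩ := T.mem_orb.1 hb
      refine T.mem_orb.2 ⟨d⁻¹ * c, mul_mem (inv_mem (hH hd)) hc, ?_⟩
      rw [r_mul, ← hdb, ← r_mul, inv_mul_cancel, r_one]
    · intro hn
      obtain ⟨c, hc, hcn⟩ := T.mem_orb.1 hn
      exact T.mem_orb.2 ⟨d * c, mul_mem (hH hd) hc, by rw [r_mul, hcn, hdb]⟩
  have hsum : O.card = ∑ k ∈ I, sizeK k := by
    rw [← Finset.sum_congr rfl fun k _ => kind_card k, ← Finset.card_biUnion]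
    · congr 1
      ext b
      simp only [Finset.mem_biUnion, Finset.mem_filter, Finset.mem_univ, true_and, I]
      constructor
      · intro hb
        obtain ⟨k, hk⟩ := hkind b hb
        exact ⟨k, (hclosed b k hk).1 hb, hk⟩
      · rintro ⟨k, hk, hb⟩
        exact (hclosed b k hb).2 hk
    · intro k _ l _ hkl
      exact Finset.disjoint_left.2 fun b hb hb' => hkl (Option.some_injective _
        ((Finset.mem_filter.1 hb).2.symm.trans (Finset.mem_filter.1 hb').2))
  obtain ⟨g, hgM, hg7, hfix⟩ := T.exists_fpf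
  have h7 : O.card % 7 = 0 := by
    haveI : Fact (Nat.Prime 7) := ⟨by norm_num⟩
    have hmem : ∀ n b, b ∈ O → T.r (g ^ n) b ∈ O := by
      intro n b hb
      obtain ⟨c, hc, rfl⟩ := T.mem_orb.1 hb
      exact T.mem_orb.2 ⟨g ^ n * c, mul_mem (pow_mem (hH hgM) n) hc, r_mul T _ _ _⟩
    let σ : Equiv.Perm O :=
      { toFun := fun b => ⟨T.r g b.1, by simpa using hmem 1 _ b.2⟩
        invFun := fun b => ⟨T.r (g ^ 6) b.1, hmem 6 _ b.2⟩
        left_inv := fun b => Subtype.ext (by
          show T.r (g ^ 6) (T.r g b.1) = b.1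
          rw [← r_mul, ← pow_succ, hg7, r_one])
        right_inv := fun b => Subtype.ext (by
          show T.r g (T.r (g ^ 6) b.1) = b.1
          rw [← r_mul, ← pow_succ', hg7, r_one]) }
    have hσ : σ ^ 7 ^ 1 = 1 := by
      refine Equiv.ext fun b => Subtype.ext ?_
      have h : ∀ n, ((σ ^ n) b).1 = T.r (g ^ n) b.1 := by
        intro n
        induction n with
        | zero => simp [r_one]
        | succ n ih => rw [pow_succ', pow_succ', Equiv.Perm.mul_apply, r_mul, ← ih]; rfl
      rw [pow_one, h, hg7, r_one]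
      rfl
    have h := Equiv.Perm.card_compl_support_modEq (p := 7) (n := 1) hσ
    have hc : σ.supportᶜ = ∅ := by
      refine Finset.eq_empty_of_forall_notMem fun b hb => ?_
      simp only [Finset.mem_compl, Equiv.Perm.mem_support, not_not] at hb
      obtain ⟨k, hk⟩ := hkind b.1 b.2
      exact ((singular_iff b.1).2 (by rw [hk]; rfl)).2 (hfix _ (congrArg Subtype.val hb))
    rw [hc, Finset.card_empty, Fintype.card_coe] at h
    exact h.symm
  have hdvd : O.card ∣ 19595520 := by
    rw [← T.card]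
    exact (Dvd.intro _ (T.card_orb H a)).trans (Subgroup.card_subgroup_dvd_card H)
  have hne : I.Nonempty := by
    obtain ⟨k, hk⟩ := hkind a (T.mem_orb.2 ⟨1, one_mem _, T.r_one a⟩)
    exact ⟨k, Finset.mem_filter.2 ⟨Finset.mem_univ _, (hclosed a k hk).1 (T.mem_orb.2 ⟨1, one_mem _, T.r_one a⟩)⟩⟩
  refine ⟨I, hsum, fun k => by simp [I], ?_⟩
  rw [hsum]
  rw [hsum] at h7 hdvd
  exact unions I hne h7 (Nat.mod_eq_zero_of_dvd hdvd)

theorem v2_sing : qn v2 = 0 ∧ v2 ≠ 0 := (singular_iff v2).2 (by decide +kernel)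

theorem card_small {H : Subgroup C} (hH : T.M ≤ H) :
    (T.orb H v2).card = 378 ∧ ∃ k, k ≠ 0 ∧ k ≠ 1 ∧ nf k ∉ T.orb H v2 := by
  obtain ⟨I, -, hI, h | h⟩ := T.exists_I hH v2_sing.1 v2_sing.2
  · obtain ⟨k, h1, h2, h3⟩ := h.2.2
    exact ⟨h.2.1, k, h1, h2, fun e => h3 ((hI k).2 e)⟩
  · exact absurd ((hI 0).2 (T.mem_orb.2 ⟨1, one_mem _, T.r_one _⟩)) h.1

theorem small_M {a : V6} (ha : a ∈ T.orb ⊤ v2) : a ∈ T.orb T.M v2 := by
  have h : T.orb T.M v2 = T.orb ⊤ v2 := by
    refine Finset.eq_of_subset_of_card_le (fun b hb => ?_) ?_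
    · obtain ⟨c, -, e⟩ := T.mem_orb.1 hb
      exact T.mem_orb.2 ⟨c, Subgroup.mem_top c, e⟩
    · rw [(T.card_small le_rfl).1, (T.card_small le_top).1]
  rwa [h]

theorem large_orb {a : V6} (ha : qn a = 0) (ha0 : a ≠ 0) (hA : a ∉ T.orb ⊤ v2) :
    (T.orb ⊤ a).card = 1701 := by
  obtain ⟨I, -, hI, h | h⟩ := T.exists_I le_top ha ha0
  · exfalso
    obtain ⟨c, -, hc⟩ := T.mem_orb.1 ((hI 0).1 h.1)
    exact hA (T.mem_orb.2 ⟨c⁻¹, Subgroup.mem_top _, by
      show T.r c⁻¹ (nf 0) = a
      rw [← hc, ← r_mul, inv_mul_cancel, r_one]⟩)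
  · exact h.2

theorem large_trans {a b : V6} (ha : qn a = 0) (ha0 : a ≠ 0) (hA : a ∉ T.orb ⊤ v2)
    (hb : qn b = 0) (hb0 : b ≠ 0) (hB : b ∉ T.orb ⊤ v2) : ∃ c, T.r c a = b := by
  classical
  by_contra hno
  push Not at hno
  have hdis : ∀ u w, w ∉ T.orb ⊤ u → Disjoint (T.orb ⊤ u) (T.orb ⊤ w) := by
    intro u w hw
    refine Finset.disjoint_left.2 fun y hy hy' => hw ?_
    obtain ⟨c, -, hc⟩ := T.mem_orb.1 hy
    obtain ⟨d, -, hd⟩ := T.mem_orb.1 hy'
    exact T.mem_orb.2 ⟨d⁻¹ * c, Subgroup.mem_top _, by rw [r_mul, hc, ← hd, ← r_mul, inv_mul_cancel, r_one]⟩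
  have hab : b ∉ T.orb ⊤ a := fun h => by
    obtain ⟨c, -, hc⟩ := T.mem_orb.1 h
    exact hno c hc
  have h1 := Finset.card_union_of_disjoint (hdis a b hab)
  have hsub : T.orb ⊤ a ∪ T.orb ⊤ b ⊆ Finset.univ.filter fun y : V6 => qn y = 0 := by
    intro y hy
    refine Finset.mem_filter.2 ⟨Finset.mem_univ _, ?_⟩
    rcases Finset.mem_union.1 hy with h | h <;> obtain ⟨c, -, rfl⟩ := T.mem_orb.1 h <;> rw [T.inv]
    exacts [ha, hb]
  have h2 := Finset.card_le_card hsub
  rw [singular_card, h1, T.large_orb ha ha0 hA, T.large_orb hb hb0 hB] at h2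
  omega

end Std

end CfsgLib.FiLarge
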