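import Cfsg.Agent.FiLarge.Setting
import Cfsg.Agent.FiLarge.Orbits

/-!
Lifts of singular vectors, and copies of the alternating group fixing a vector of full support.
-/

set_option autoImplicit false

namespace CfsgLib.FiLarge

open CfsgLib Subgroup

variable {G : Type*} [Group G] {z : G} {Q : Subgroup (centralizer ({z} : Set G))} [Q.Normal]

namespace Dat

variable (D : Dat z Q)

/-- The underlying element. -/
abbrev val (a : Q) : G := ((a : centralizer ({z} : Set G)) : G)

include D in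
theorem zQ : z ∈ Q.map (centralizer ({z} : Set G)).subtype := D.pre.gen.mem

theorem eq_of_π {a b : Q} (h : D.π a = D.π b) : val b = val a ∨ val b = val a * z := by
  have h0 : D.π (a⁻¹ * b) = 0 := by
    have h1 : D.π a⁻¹ + D.π a = 0 := by
      rw [← D.π_mul, inv_mul_cancel]
      exact (D.π_eq_zero 1).2 (Or.inl rfl)
    rw [D.π_mul, ← h, h1]
  have e0 : val (a⁻¹ * b) = (val a)⁻¹ * val b := rfl
  rcases (D.π_eq_zero _).1 h0 with e | e <;> rw [show ((((a⁻¹ * b : Q) : centralizer ({z} : Set G))) : G) = _ from e0] at e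
  · exact Or.inl (inv_mul_eq_one.1 e).symm
  · exact Or.inr (inv_mul_eq_iff_eq_mul.1 e)

theorem π_ne_zero {a : Q} (h1 : val a ≠ 1) (hz : val a ≠ z) : D.π a ≠ 0 := fun e =>
  ((D.π_eq_zero a).1 e).elim h1 hz

include D in
theorem flip {a : Q} (h1 : val a ≠ 1) (hz : val a ≠ z) :
    ∃ q : Q, val q * val a * (val q)⁻¹ = val a * z := by
  obtain ⟨x, hx, e⟩ := Extra2.exists_conj_mul D.pre.gen (mem_map_of_mem _ a.2) h1 hz
  obtain ⟨q, hq, rfl⟩ := hx
  exact ⟨⟨q, hq⟩, e⟩

theorem π_inner (q a : Q) : D.T.r (QuotientGroup.mk (q : centralizer ({z} : Set G))) (D.π a) = D.π a := by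
  rw [(QuotientGroup.eq_one_iff _).2 q.2, map_one]; rfl

theorem π_conj_eq {c : centralizer ({z} : Set G)} {a b : Q}
    (h : (c : G) * val a * (c : G)⁻¹ = val b) : D.T.r (QuotientGroup.mk c) (D.π a) = D.π b := by
  rw [← D.act]
  congr 1
  exact Subtype.ext (Subtype.ext h)

/-- An element of the quotient moving one class to another lifts to an element moving representatives. -/
theorem exists_conj {x : (centralizer ({z} : Set G)) ⧸ Q} {a b : Q} (hb1 : val b ≠ 1) (hbz : val b ≠ z)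
    (h : D.T.r x (D.π a) = D.π b) :
    ∃ c : centralizer ({z} : Set G), QuotientGroup.mk c = x ∧ (c : G) * val a * (c : G)⁻¹ = val b := by
  obtain ⟨c, rfl⟩ := QuotientGroup.mk_surjective x
  rw [← D.act] at h
  have hc : val (MulAut.conjNormal c a) = (c : G) * val a * (c : G)⁻¹ := rfl
  rcases D.eq_of_π h with e | e
  · exact ⟨c, rfl, hc.symm.trans e.symm⟩
  · obtain ⟨q, hq⟩ := D.flip hb1 hbz
    refine ⟨(q : centralizer ({z} : Set G)) * c, ?_, ?_⟩
    · show QuotientGroup.mk' Q _ = _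
      rw [map_mul, show QuotientGroup.mk' Q (q : centralizer ({z} : Set G)) = 1 from
        (QuotientGroup.eq_one_iff _).2 q.2, one_mul]
      rfl
    · show (val q * (c : G)) * val a * (val q * (c : G))⁻¹ = val b
      rw [show val q * (c : G) * val a * (val q * (c : G))⁻¹ =
        val q * ((c : G) * val a * (c : G)⁻¹) * (val q)⁻¹ by group, ← hc]
      rw [hc] at e ⊢
      have hcz : Commute (val q) z := D.pre.gen.comm_z _ (mem_map_of_mem _ q.2)
      have e' : (c : G) * val a * (c : G)⁻¹ = val b * z⁻¹ := eq_mul_inv_of_mul_eq e.symm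
      rw [e']
      calc val q * (val b * z⁻¹) * (val q)⁻¹ = (val q * val b * (val q)⁻¹) * (val q * z⁻¹ * (val q)⁻¹) := by
            group
        _ = val b * z * z⁻¹ := by rw [hq, hcz.inv_right.eq, mul_inv_cancel_right]
        _ = val b := mul_inv_cancel_right _ _

theorem exists_lift {v : V6} (hv : qn v = 0) (hv0 : v ≠ 0) :
    ∃ a : Q, D.π a = v ∧ orderOf (a : centralizer ({z} : Set G)) = 2 ∧ val a ≠ z := by
  obtain ⟨a, rfl⟩ := D.π_surj v
  refine ⟨a, rfl, orderOf_eq_prime ?_ ?_, fun e => hv0 ((D.π_eq_zero a).2 (Or.inr e))⟩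
  · have h := (D.sq_iff a).2 hv
    rw [pow_two]
    exact congrArg Subtype.val h
  · exact fun e => hv0 ((D.π_eq_zero a).2 (Or.inl (congrArg Subtype.val e)))

theorem sing_of_order {a : Q} (h2 : orderOf (a : centralizer ({z} : Set G)) = 2) (hz : val a ≠ z) :
    qn (D.π a) = 0 ∧ D.π a ≠ 0 := by
  have h1 : (a : centralizer ({z} : Set G)) ≠ 1 := fun e => by rw [e, orderOf_one] at h2; norm_num at h2
  refine ⟨(D.sq_iff a).1 (Subtype.ext ?_), D.π_ne_zero (fun e => h1 (Subtype.ext e)) hz⟩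
  have h3 := pow_orderOf_eq_one (a : centralizer ({z} : Set G))
  rw [h2, pow_two] at h3
  exact h3

end Dat

/-- The twisted permutation fixing a vector of full support. -/
def twist (v : V6) (τ : Equiv.Perm (Fin 6)) (a : V6) : V6 :=
  fun i => omp (logF (v i) - logF (v (τ i))) * a (τ i)

theorem omp_logF : ∀ x : F4, x ≠ 0 → omp (logF x) = x := by decide +kernel

namespace Std

variable {C : Type*} [Group C] (T : Std C)

theorem exists_twist (v : V6) (τ : A6) : ∃ c ∈ T.M, ∀ a, T.r c a = twist v τ.1.symm a := by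
  have hsgn : Equiv.Perm.sign τ.1.symm = 1 := by
    rw [Equiv.Perm.sign_symm]; exact τ.2
  obtain ⟨c, hc, hcp⟩ := T.perm τ.1.symm hsgn
  obtain ⟨d, hd, hdp⟩ := T.diag (fun i => logF (v i) - logF (v (τ.1.symm i))) (by
    rw [Finset.sum_sub_distrib, Equiv.sum_comp τ.1.symm fun i => logF (v i), sub_self])
  refine ⟨d * c, mul_mem hd hc, fun a => ?_⟩
  rw [map_mul, LinearEquiv.mul_apply, hcp, hdp]
  rfl

/-- The copy of the alternating group fixing a vector of full support. -/
noncomputable def twistHom (v : V6) : A6 →* C where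
  toFun τ := (T.exists_twist v τ).choose
  map_one' := T.inj (LinearEquiv.ext fun a => by
    rw [(T.exists_twist v 1).choose_spec.2, map_one]
    funext i
    show omp (logF (v i) - logF (v i)) * a i = a i
    rw [sub_self, omp_zero, one_mul])
  map_mul' σ τ := T.inj (LinearEquiv.ext fun a => by
    rw [(T.exists_twist v (σ * τ)).choose_spec.2, map_mul, LinearEquiv.mul_apply,
      (T.exists_twist v τ).choose_spec.2, (T.exists_twist v σ).choose_spec.2]
    funext i
    show omp (logF (v i) - logF (v (τ.1.symm (σ.1.symm i)))) * a (τ.1.symm (σ.1.symm i)) =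
      omp (logF (v i) - logF (v (σ.1.symm i))) *
        (omp (logF (v (σ.1.symm i)) - logF (v (τ.1.symm (σ.1.symm i)))) * a (τ.1.symm (σ.1.symm i)))
    rw [← mul_assoc, ← omp_add, sub_add_sub_cancel])

theorem twistHom_act (v : V6) (τ : A6) (a : V6) : T.r (T.twistHom v τ) a = twist v τ.1.symm a :=
  (T.exists_twist v τ).choose_spec.2 a

theorem twistHom_mem (v : V6) (τ : A6) : T.twistHom v τ ∈ T.M :=
  (T.exists_twist v τ).choose_spec.1

theorem twistHom_fix {v : V6} (hv : ∀ i, v i ≠ 0) (τ : A6) : T.r (T.twistHom v τ) v = v := by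
  rw [twistHom_act]
  funext i
  show omp (logF (v i) - logF (v (τ.1.symm i))) * v (τ.1.symm i) = v i
  calc omp (logF (v i) - logF (v (τ.1.symm i))) * v (τ.1.symm i)
      = omp (logF (v i) - logF (v (τ.1.symm i))) * omp (logF (v (τ.1.symm i))) := by rw [omp_logF _ (hv _)]
    _ = v i := by rw [← omp_add, sub_add_cancel, omp_logF _ (hv _)]

theorem twistHom_injective (v : V6) : Function.Injective (T.twistHom v) := by
  intro σ τ h
  have h1 : ∀ a, twist v σ.1.symm a = twist v τ.1.symm a := fun a => by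
    rw [← T.twistHom_act, h, T.twistHom_act]
  refine Subtype.ext (Equiv.symm_bijective.injective (Equiv.ext fun i => ?_))
  by_contra hne
  have h2 := congrFun (h1 (Pi.single (σ.1.symm i) 1)) i
  simp only [twist, Pi.single_eq_same, mul_one, Pi.single_eq_of_ne (Ne.symm hne), mul_zero] at h2
  exact omp_ne _ h2

theorem exists_full [Finite C] : (∃ v, (∀ i, v i ≠ 0) ∧ qn v = 0 ∧ v ∈ T.orb ⊤ v2) ∧
    ∃ v, (∀ i, v i ≠ 0) ∧ qn v = 0 ∧ v ∉ T.orb ⊤ v2 := by
  have hfull : ∀ k : Fin 5, k ≠ 0 → k ≠ 1 → (∀ i, nf k i ≠ 0) ∧ qn (nf k) = 0 := by decide +kernel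
  constructor
  · obtain ⟨I, hsum, hI, h | h⟩ := T.exists_I (le_top : T.M ≤ ⊤) v2_sing.1 v2_sing.2
    · have hk : ∀ I : Finset (Fin 5), ∑ k ∈ I, sizeK k = 378 → ∃ k ∈ I, k ≠ 0 ∧ k ≠ 1 := by decide +kernel
      obtain ⟨k, hkI, h0, h1⟩ := hk I (hsum.symm.trans h.2.1)
      exact ⟨nf k, (hfull k h0 h1).1, (hfull k h0 h1).2, (hI k).1 hkI⟩
    · exact absurd ((hI 0).2 (T.mem_orb.2 ⟨1, one_mem _, T.r_one _⟩)) h.1
  · obtain ⟨k, h0, h1, hk⟩ := (T.card_small (le_top : T.M ≤ ⊤)).2
    exact ⟨nf k, (hfull k h0 h1).1, (hfull k h0 h1).2, hk⟩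

theorem card_stab [Finite C] {a : V6} (ha : qn a = 0) (ha0 : a ≠ 0) :
    (a ∈ T.orb ⊤ v2 ∧ Nat.card (T.stab a) = 51840) ∨ (a ∉ T.orb ⊤ v2 ∧ Nat.card (T.stab a) = 11520) := by
  have h := T.card_orb ⊤ a
  rw [inf_top_eq, Subgroup.card_top, T.card] at h
  by_cases hA : a ∈ T.orb ⊤ v2
  · refine Or.inl ⟨hA, ?_⟩
    have hE : T.orb ⊤ a = T.orb ⊤ v2 := by
      obtain ⟨c, -, rfl⟩ := T.mem_orb.1 hA
      ext b
      constructor
      · intro hb
        obtain ⟨d, -, hd⟩ := T.mem_orb.1 hb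
        exact T.mem_orb.2 ⟨d * c, mem_top _, by rw [r_mul, hd]⟩
      · intro hb
        obtain ⟨d, -, hd⟩ := T.mem_orb.1 hb
        exact T.mem_orb.2 ⟨d * c⁻¹, mem_top _, by rw [← r_mul, inv_mul_cancel_right, hd]⟩
    rw [hE, (T.card_small le_top).1] at h
    omega
  · refine Or.inr ⟨hA, ?_⟩
    rw [T.large_orb ha ha0 hA] at h
    omega

end Std

end CfsgLib.FiLarge
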