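import Cfsg.Agent.FiLarge.SylowChecks

/-!
Candidates for an involution of the trace fixed by a dihedral group of order eight of permutations.
-/

set_option autoImplicit false
set_option maxRecDepth 1000000

namespace CfsgLib.FiLarge.Eleven

/-- The matrices constant on the orbitals of the dihedral group. -/
def candM (a b d g : F4) : Fin 6 → Fin 6 → F4 :=
  let e := d * d
  ![![a, b, a + 1, b, d, d], ![b, a, b, a + 1, d, d], ![a + 1, b, a, b, d, d], ![b, a + 1, b, a, d, d],
    ![e, e, e, e, g, g + 1], ![e, e, e, e, g + 1, g]]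

/-- Apply a matrix. -/
def mapply (A : Fin 6 → Fin 6 → F4) (w : V6) : V6 := fun i => ∑ j, w j * A i j

/-- The code of a matrix. -/
def mcode (A : Fin 6 → Fin 6 → F4) : List ℕ :=
  (List.range 12).map fun k => enc (mapply A (dec (2 ^ k)))

/-- The code of a coordinate permutation. -/
def pmcode (τ : Fin 6 → Fin 6) : List ℕ :=
  (List.range 12).map fun k => enc fun i => dec (2 ^ k) (τ i)

/-- Auxiliary even permutations with their inverses. -/
def aux : Fin 7 → (Fin 6 → Fin 6) × (Fin 6 → Fin 6) :=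
  ![(![0, 1, 4, 2, 3, 5], ![0, 1, 3, 4, 2, 5]),
    (![5, 4, 3, 2, 0, 1], ![4, 5, 3, 2, 1, 0]),
    (![3, 2, 5, 4, 0, 1], ![4, 5, 1, 0, 3, 2]),
    (![3, 2, 1, 0, 4, 5], ![3, 2, 1, 0, 4, 5]),
    (![5, 3, 4, 2, 1, 0], ![5, 4, 3, 1, 2, 0]),
    (![3, 5, 4, 2, 0, 1], ![4, 5, 3, 0, 2, 1]),
    (![0, 1, 2, 5, 3, 4], ![0, 1, 2, 4, 5, 3])]

/-- Conjugate of a code by an auxiliary permutation. -/
noncomputable def cjc (k : Fin 7) (M : List ℕ) : List ℕ :=
  mul (mul (pmcode (aux k).1) M) (pmcode (aux k).2)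

/-- The code of the transvection at the all-ones vector. -/
def tvCode : List ℕ := mcode fun i j => (if i = j then 1 else 0) + 1

/-- Words giving the transvection in the degenerate cases. -/
def words : List (List (Fin 7)) := [[1, 2, 3], [1], [1, 4, 5]]

/-- The product of conjugates. -/
noncomputable def wcode (M : List ℕ) : List (Fin 7) → List ℕ
  | [] => el 0
  | k :: ks => mul (cjc k M) (wcode M ks)

theorem mcode_good (a b d g : F4) : Good (mcode (candM a b d g)) :=
  ⟨by simp [mcode], fun c hc => by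
    obtain ⟨k, -, rfl⟩ := List.mem_map.1 hc
    exact enc_lt _⟩

theorem pmcode_good : ∀ k : Fin 7, Good (pmcode (aux k).1) ∧ Good (pmcode (aux k).2) ∧
    ∀ i, (aux k).1 ((aux k).2 i) = i ∧ (aux k).2 ((aux k).1 i) = i := by decide +kernel

theorem cand_cases : ∀ a b d g : F4, a * a = a → b * b = b → g * g = g →
    let M := mcode (candM a b d g)
    mul M (cjc 0 M) = mul (cjc 0 M) M →
      M = el 0 ∨ (a = 0 ∧ b = 1 ∧ g = 1 ∧ (d = om ∨ d = om * om)) ∨ ∃ w ∈ words, wcode M w = tvCode := by
  decide +kernel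

theorem good_code : mcode (candM 0 1 om 1) = gn 2 ∧ cjc 6 (gn 2) = gn 3 := by
  decide +kernel

theorem cand_frob : ∀ a b d g : F4, ∀ i j,
    candM a b d g i j * candM a b d g i j = candM (a * a) (b * b) (d * d) (g * g) i j := by
  have h : ∀ x : F4, (x + 1) * (x + 1) = x * x + 1 := by decide +kernel
  intro a b d g i j
  fin_cases i <;> fin_cases j <;> simp [candM, h]

end CfsgLib.FiLarge.Eleven
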