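import Cfsg.Agent.FiLarge.CentXPair

/-!
The centraliser of an element of order three lifting the scalar.
-/

set_option autoImplicit false
set_option linter.style.haveILetI false

namespace CfsgLib.FiLarge.CentX

open CfsgLib Subgroup

variable {G : Type*} [Group G] {z : G} {Q : Subgroup (centralizer ({z} : Set G))} [Q.Normal]

/-- An element of order three lifting the scalar. -/
structure Scal (D : Dat z Q) where
  /-- The element. -/
  x0 : centralizer ({z} : Set G)
  cube : x0 ^ 3 = 1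
  mk_x0 : QuotientGroup.mk' Q x0 = D.T.x

namespace Scal

variable {D : Dat z Q} (S : Scal D)

theorem x_ne_one : D.T.x ≠ 1 := by
  intro e
  have h := D.T.x_act (fun _ => 1)
  rw [e, map_one] at h
  exact absurd (congrFun h 0) (by decide +kernel)

/-- The centraliser of the element. -/
abbrev H : Subgroup (centralizer ({z} : Set G)) :=
  centralizer ({S.x0} : Set (centralizer ({z} : Set G)))

theorem x0_mem : S.x0 ∈ S.H := mem_centralizer_singleton_iff.2 rfl

/-- The central involution as an element of its centraliser. -/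
abbrev zC : centralizer ({z} : Set G) := ⟨z, mem_centralizer_singleton_iff.2 rfl⟩

theorem zC_mem_Q (D : Dat z Q) : (zC : centralizer ({z} : Set G)) ∈ Q := by
  obtain ⟨a, ha, e⟩ := D.zQ
  rwa [show (zC : centralizer ({z} : Set G)) = a from Subtype.ext e.symm]

theorem zC_comm (c : centralizer ({z} : Set G)) : Commute zC c :=
  Subtype.ext (mem_centralizer_singleton_iff.1 c.2).symm

theorem zC_mem : zC ∈ S.H := mem_centralizer_singleton_iff.2 (zC_comm S.x0).eq

theorem zC_sq (D : Dat z Q) : (zC : centralizer ({z} : Set G)) * zC = 1 := Subtype.ext D.pre.gen.sq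

theorem zC_ne (D : Dat z Q) : (zC : centralizer ({z} : Set G)) ≠ 1 := fun e =>
  D.pre.gen.ne_one (congrArg Subtype.val e)

/-- Conjugation by the element multiplies coordinates by the scalar. -/
theorem act (a : Q) : D.π (MulAut.conjNormal S.x0 a) = om • D.π a := by
  rw [D.act]
  show D.T.r (QuotientGroup.mk' Q S.x0) (D.π a) = _
  rw [S.mk_x0, D.T.x_act]

theorem inter {a : centralizer ({z} : Set G)} (ha : a ∈ Q) (hH : a ∈ S.H) : a = 1 ∨ a = zC := by
  have h : MulAut.conjNormal S.x0 (⟨a, ha⟩ : Q) = ⟨a, ha⟩ := Subtype.ext (by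
    rw [MulAut.conjNormal_apply]
    exact mul_inv_eq_iff_eq_mul.2 (mem_centralizer_singleton_iff.1 hH).symm)
  have h1 := S.act ⟨a, ha⟩
  rw [h] at h1
  have h0 : D.π ⟨a, ha⟩ = 0 := by
    funext i
    have h2 : D.π ⟨a, ha⟩ i = om * D.π ⟨a, ha⟩ i := congrFun h1 i
    exact (by decide +kernel : ∀ t : F4, t = om * t → t = 0) _ h2
  exact ((D.π_eq_zero _).1 h0).imp (fun e => Subtype.ext e) (fun e => Subtype.ext e)

theorem mk_comm {h : centralizer ({z} : Set G)} (hh : h ∈ S.H) :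
    QuotientGroup.mk' Q h * D.T.x = D.T.x * QuotientGroup.mk' Q h := by
  rw [← S.mk_x0, ← map_mul, ← map_mul, mem_centralizer_singleton_iff.1 hh]

/-- The preimage of the scalar subgroup. -/
abbrev N1 (D : Dat z Q) : Subgroup (centralizer ({z} : Set G)) :=
  (zpowers D.T.x).comap (QuotientGroup.mk' Q)

include S in
theorem orderOf_x : orderOf D.T.x = 3 := by
  haveI : Fact (Nat.Prime 3) := ⟨Nat.prime_three⟩
  exact orderOf_eq_prime (by rw [← S.mk_x0, ← map_pow, S.cube, map_one]) x_ne_one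

theorem orderOf_x0 : orderOf S.x0 = 3 := by
  haveI : Fact (Nat.Prime 3) := ⟨Nat.prime_three⟩
  refine orderOf_eq_prime S.cube fun e => x_ne_one (D := D) ?_
  rw [← S.mk_x0, e, map_one]

include S in
theorem card_N1 [Finite G] : Nat.card (N1 D) = 3 * 2 ^ 13 := by
  let f := (QuotientGroup.mk' Q).comp (N1 D).subtype
  have hr : f.range = zpowers D.T.x := by
    rw [MonoidHom.range_comp, range_subtype]
    exact map_comap_eq_self_of_surjective (QuotientGroup.mk'_surjective Q) _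
  have hk : f.ker = Q.subgroupOf (N1 D) := by
    ext a
    rw [MonoidHom.mem_ker, mem_subgroupOf]
    exact QuotientGroup.eq_one_iff _
  have h := Subgroup.card_mul_index f.ker
  rw [Subgroup.index_ker, hr, Nat.card_zpowers, S.orderOf_x, hk,
    Nat.card_congr (subgroupOfEquivOfLe (le_comap_mk' D)).toEquiv, D.cardQ] at h
  omega
where
  le_comap_mk' (D : Dat z Q) : Q ≤ N1 D := fun a ha => by
    show QuotientGroup.mk' Q a ∈ zpowers D.T.x
    rw [show QuotientGroup.mk' Q a = 1 from (QuotientGroup.eq_one_iff a).2 ha]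
    exact one_mem _

theorem N1_decomp {n : centralizer ({z} : Set G)} (hn : n ∈ N1 D) :
    ∃ k : ℤ, n * (S.x0 ^ k)⁻¹ ∈ Q := by
  obtain ⟨k, hk⟩ := mem_zpowers_iff.1 hn
  refine ⟨k, (QuotientGroup.eq_one_iff _).1 ?_⟩
  show QuotientGroup.mk' Q _ = 1
  rw [map_mul, map_inv, map_zpow, S.mk_x0, hk, mul_inv_cancel]

/-- Elements centralising the scalar modulo the kernel lift to the centraliser. -/
theorem exists_lift [Finite G] {c : centralizer ({z} : Set G)}
    (hc : QuotientGroup.mk' Q c * D.T.x = D.T.x * QuotientGroup.mk' Q c) :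
    ∃ q ∈ Q, q * c ∈ S.H := by
  haveI : Fact (Nat.Prime 3) := ⟨Nat.prime_three⟩
  set y := c * S.x0 * c⁻¹
  have hy : QuotientGroup.mk' Q y = D.T.x := by
    rw [map_mul, map_mul, map_inv, S.mk_x0, hc, mul_inv_cancel_right]
  have hy3 : y ^ 3 = 1 := by rw [conj_pow, S.cube, mul_one, mul_inv_cancel]
  have hoy : orderOf y = 3 := orderOf_eq_prime hy3 fun e => x_ne_one (D := D) (by rw [← hy, e, map_one])
  have hxN : S.x0 ∈ N1 D := by
    show QuotientGroup.mk' Q S.x0 ∈ zpowers D.T.x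
    rw [S.mk_x0]; exact mem_zpowers _
  have hyN : y ∈ N1 D := by
    show QuotientGroup.mk' Q y ∈ zpowers D.T.x
    rw [hy]; exact mem_zpowers _
  have hfac : 3 ^ (Nat.card (N1 D)).factorization 3 = 3 := by
    rw [S.card_N1, Nat.factorization_mul (by norm_num) (by norm_num), Nat.Prime.factorization Nat.prime_three,
      Nat.Prime.factorization_pow Nat.prime_two]
    simp
  let PX : Sylow 3 (N1 D) := Sylow.ofCard (zpowers (⟨S.x0, hxN⟩ : N1 D))
    (by rw [Nat.card_zpowers, Subgroup.orderOf_mk, S.orderOf_x0, hfac])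
  let PY : Sylow 3 (N1 D) := Sylow.ofCard (zpowers (⟨y, hyN⟩ : N1 D))
    (by rw [Nat.card_zpowers, Subgroup.orderOf_mk, hoy, hfac])
  obtain ⟨n, hn⟩ := MulAction.exists_smul_eq (N1 D) PY PX
  have hmem : n * ⟨y, hyN⟩ * n⁻¹ ∈ zpowers (⟨S.x0, hxN⟩ : N1 D) := by
    have h : n * ⟨y, hyN⟩ * n⁻¹ ∈ (PX : Subgroup (N1 D)) := by
      rw [← hn, Sylow.coe_subgroup_smul]
      exact mem_map_of_mem (MulAut.conj n).toMonoidHom (mem_zpowers _)
    exact h
  obtain ⟨j, hj⟩ := mem_zpowers_iff.1 hmem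
  have hj' : (n : centralizer ({z} : Set G)) * y * (n : centralizer ({z} : Set G))⁻¹ = S.x0 ^ j :=
    (congrArg Subtype.val hj).symm
  obtain ⟨k, hk⟩ := S.N1_decomp n.2
  have hn' : (n : centralizer ({z} : Set G)) = n * (S.x0 ^ k)⁻¹ * S.x0 ^ k := by group
  refine ⟨(S.x0 ^ k)⁻¹ * (n * (S.x0 ^ k)⁻¹) * S.x0 ^ k, ?_, mem_centralizer_singleton_iff.2 ?_⟩
  · have := (inferInstance : Q.Normal).conj_mem _ hk (S.x0 ^ k)⁻¹
    rwa [inv_inv] at this
  · have hq : (S.x0 ^ k)⁻¹ * (n * (S.x0 ^ k)⁻¹) * S.x0 ^ k = (S.x0 ^ k)⁻¹ * n := by group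
    rw [hq]
    have e1 : D.T.x ^ j = D.T.x := by
      have h := congrArg (QuotientGroup.mk' Q) hj'
      obtain ⟨i, hi⟩ := mem_zpowers_iff.1 n.2
      rw [map_mul, map_mul, map_inv, map_zpow, S.mk_x0, hy, ← hi] at h
      rw [← h, ← zpow_one D.T.x, ← zpow_mul, one_mul, ← zpow_add, ← zpow_neg, ← zpow_add]
      simp
    have e2 : S.x0 ^ j = S.x0 := by
      have hd := orderOf_dvd_iff_zpow_eq_one.2 (show D.T.x ^ (j - 1) = 1 by
        rw [zpow_sub, e1, zpow_one, mul_inv_cancel])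
      rw [S.orderOf_x, ← S.orderOf_x0] at hd
      have := orderOf_dvd_iff_zpow_eq_one.1 hd
      rwa [zpow_sub, zpow_one, mul_inv_eq_one] at this
    have e3 : (S.x0 ^ k)⁻¹ * n * c * S.x0 * ((S.x0 ^ k)⁻¹ * n * c)⁻¹ = S.x0 := by
      calc (S.x0 ^ k)⁻¹ * n * c * S.x0 * ((S.x0 ^ k)⁻¹ * n * c)⁻¹
          = (S.x0 ^ k)⁻¹ * (n * y * (n : centralizer ({z} : Set G))⁻¹) * S.x0 ^ k := by
            simp only [y]; group
        _ = S.x0 := by rw [hj', e2]; group
    exact mul_inv_eq_iff_eq_mul.1 e3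

/-- The centraliser maps onto the centraliser of the scalar. -/
theorem exists_mem [Finite G] {e : (centralizer ({z} : Set G)) ⧸ Q} (he : e * D.T.x = D.T.x * e) :
    ∃ h ∈ S.H, QuotientGroup.mk' Q h = e := by
  obtain ⟨c, rfl⟩ := QuotientGroup.mk'_surjective Q e
  obtain ⟨q, hq, hqc⟩ := S.exists_lift he
  refine ⟨q * c, hqc, ?_⟩
  rw [map_mul, show QuotientGroup.mk' Q q = 1 from (QuotientGroup.eq_one_iff q).2 hq, one_mul]

end Scal

end CfsgLib.FiLarge.CentX
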