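import Cfsg.Agent.FiLarge.CentXSplit

/-!
The centraliser of a subgroup of order three covering the scalar is a covering of `PSU(4,3)` with
centre cyclic of order six.
-/

set_option autoImplicit false
set_option maxRecDepth 100000
set_option linter.style.haveILetI false
set_option linter.unusedSectionVars false

namespace CfsgLib.FiLarge.CentX

open CfsgLib Subgroup
open scoped commutatorElement

variable {G : Type*} [Group G] [Finite G] {z : G} {Q : Subgroup (centralizer ({z} : Set G))} [Q.Normal]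

theorem exists_fused (D : Dat z Q)
    (h : Cfsg.IsExtraspecialCentralizerSetting z Q 6) : Nonempty (Fused D) := by
  obtain ⟨-, -, -, -, g, ⟨hq, hmem⟩, hne⟩ := h
  let s : Q := ⟨⟨g * z * g⁻¹, hq⟩, hmem⟩
  have hs1 : Dat.val s ≠ 1 := fun e => by
    have e' : g * z * g⁻¹ = 1 := e
    rw [mul_inv_eq_one, mul_eq_left] at e'
    exact D.pre.gen.ne_one e'
  have hsq : qn (D.π s) = 0 :=
    (D.sq_iff s).1 (Subtype.ext (Subtype.ext (D.pre' (g := g) (s := s) rfl).gen.sq))
  have hlarge := (D.pair_main (g := g) (s := s) rfl hs1 hne).1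
  obtain ⟨-, v, hv, hvq, hvl⟩ := D.T.exists_full
  obtain ⟨e, he⟩ := D.T.large_trans hsq (D.π_ne_zero hs1 hne) hlarge hvq
    (fun e => hv 0 (congrFun e 0)) hvl
  obtain ⟨c, rfl⟩ := QuotientGroup.mk'_surjective Q e
  refine ⟨⟨(c : G) * g, MulAut.conjNormal c s, ?_, ?_⟩⟩
  · show (c : G) * g * z * ((c : G) * g)⁻¹ = (c : G) * (g * z * g⁻¹) * (c : G)⁻¹
    group
  · intro i
    rw [D.act]
    show D.T.r (QuotientGroup.mk' Q c) (D.π s) i ≠ 0
    rw [he]
    exact hv i

theorem zC_mem_commutator {D : Dat z Q} (S : Scal D) (P : Fused D)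
    (hcov : ∀ h ∈ S.H, h ∈ ⁅S.H, S.H⁆ ∨ h * Scal.zC ∈ ⁅S.H, S.H⁆) : Scal.zC ∈ ⁅S.H, S.H⁆ := by
  by_cases hs : Dat.val P.s ∈ P.P0 S
  · obtain ⟨q, hq⟩ := D.flip P.ne_one P.ne_z
    let zQ : Q := ⟨Scal.zC, Scal.zC_mem_Q D⟩
    have hπ : D.π (P.s * zQ) = D.π P.s := by
      rw [D.π_mul, (D.π_eq_zero zQ).2 (Or.inr rfl), add_zero]
    let P' : Fused D :=
      { g := Dat.val q * P.g
        s := P.s * zQ
        hg := by
          calc Dat.val q * P.g * z * (Dat.val q * P.g)⁻¹
              = Dat.val q * (P.g * z * P.g⁻¹) * (Dat.val q)⁻¹ := by group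
            _ = Dat.val P.s * z := by rw [P.hg, hq]
        full := fun i => by rw [hπ]; exact P.full i }
    refine P'.zC_mem_commutator S (fun h => D.pre.gen.ne_one ?_) hcov
    have h1 := P.orb_mul S P.s_mem_W P.z_mem_W
    rw [hs.2, Fused.orb_z, one_mul] at h1
    exact h1.symm.trans h.2
  · exact P.zC_mem_commutator S hs hcov

theorem index_two_sq {C : Type*} [Group C] {M : Subgroup C} (h : M.index = 2) {y : C} (h3 : y ^ 3 ∈ M) :
    y ∈ M := by
  have h2 : y * y ∈ M := mul_self_mem_of_index_two h y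
  rwa [pow_succ, pow_two, mul_mem_cancel_left h2] at h3

/-- A normal subgroup of the size of the preimage of the scalar subgroup is that preimage. -/
theorem normal_unique {N M : Subgroup (centralizer ({z} : Set G))} [N.Normal] (hM : M.index = 2)
    (hQN : Q ≤ N) (hNM : N ≤ M) (hNc : Nat.card N = 3 * Nat.card Q) (hQc : Nat.card Q = 2 ^ 13)
    [IsSimpleGroup (↥M ⧸ N.subgroupOf M)] (hc : Nat.card (↥M ⧸ N.subgroupOf M) = 3265920)
    {Y : Subgroup (centralizer ({z} : Set G))} [Y.Normal] (hQY : Q ≤ Y)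
    (hY : Nat.card Y = 3 * Nat.card Q) : Y = N := by
  have hidx : (Q.subgroupOf Y).index = 3 := by
    have h := Subgroup.index_mul_card (Q.subgroupOf Y)
    rw [Nat.card_congr (subgroupOfEquivOfLe hQY).toEquiv, hY] at h
    exact Nat.eq_of_mul_eq_mul_right Nat.card_pos h
  have hYM : Y ≤ M := fun y hy => by
    refine index_two_sq hM (hNM (hQN ?_))
    have h := Subgroup.pow_index_mem (Q.subgroupOf Y) (⟨y, hy⟩ : Y)
    rw [hidx] at h
    exact h
  let f := QuotientGroup.mk' (N.subgroupOf M)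
  have hn : ((Y.subgroupOf M).map f).Normal :=
    Subgroup.Normal.map (inferInstance) f (QuotientGroup.mk'_surjective _)
  refine Subgroup.eq_of_le_of_card_ge ?_ (by rw [hY, hNc])
  rcases IsSimpleGroup.eq_bot_or_eq_top_of_normal _ hn with h | h
  · intro y hy
    have h1 : f ⟨y, hYM hy⟩ = 1 :=
      (Subgroup.eq_bot_iff_forall _).1 h _ (mem_map_of_mem _ (show (⟨y, hYM hy⟩ : M) ∈ Y.subgroupOf M from hy))
    exact (QuotientGroup.eq_one_iff (⟨y, hYM hy⟩ : M)).1 h1
  · exfalso
    have hd := Subgroup.card_map_dvd (Y.subgroupOf M) f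
    rw [h, Subgroup.card_top, hc, Nat.card_congr (subgroupOfEquivOfLe hYM).toEquiv, hY, hQc] at hd
    norm_num at hd

theorem commutator_x (D : Dat z Q) : ∃ c ∈ D.T.M, ∃ d ∈ D.T.M, ⁅c, d⁆ = D.T.x := by
  obtain ⟨c, hc, hcp⟩ := D.T.perm
    (Equiv.swap 0 1 * Equiv.swap 1 2 * (Equiv.swap 3 4 * Equiv.swap 4 5)) (by decide +kernel)
  obtain ⟨d, hd, hdp⟩ := D.T.diag ![0, 1, 2, 0, 1, 2] (by decide +kernel)
  refine ⟨c, hc, d, hd, ?_⟩
  have h : c * d = D.T.x * (d * c) := D.T.inj (LinearEquiv.ext fun a => by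
    rw [Std.r_mul, Std.r_mul, Std.r_mul, D.T.x_act, hdp, hcp, hdp, hcp]
    funext i
    have key : ∀ j : Fin 6, omp ((![0, 1, 2, 0, 1, 2] : Fin 6 → ZMod 3)
        ((Equiv.swap 0 1 * Equiv.swap 1 2 * (Equiv.swap 3 4 * Equiv.swap 4 5) : Equiv.Perm (Fin 6)) j)) =
        om * omp ((![0, 1, 2, 0, 1, 2] : Fin 6 → ZMod 3) j) := by decide +kernel
    show omp ((![0, 1, 2, 0, 1, 2] : Fin 6 → ZMod 3)
        ((Equiv.swap 0 1 * Equiv.swap 1 2 * (Equiv.swap 3 4 * Equiv.swap 4 5) : Equiv.Perm (Fin 6)) i)) *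
        a ((Equiv.swap 0 1 * Equiv.swap 1 2 * (Equiv.swap 3 4 * Equiv.swap 4 5) : Equiv.Perm (Fin 6)) i) =
      om * (omp ((![0, 1, 2, 0, 1, 2] : Fin 6 → ZMod 3) i) * _)
    rw [key i]
    exact mul_assoc _ _ _)
  rw [commutatorElement_def, h]
  group

/-- The structure of the centraliser. -/
theorem structure_centralizer (hF : Cfsg.IsOfLargeFischerTypeAt z Q)
    (X : Subgroup (centralizer ({z} : Set G))) (hX : Nat.card X = 3) (hXQ : (X ⊔ Q).Normal) :
    Cfsg.IsQuasisimple ↥(centralizer (X : Set (centralizer ({z} : Set G)))) ∧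
      IsCyclic ↥(center ↥(centralizer (X : Set (centralizer ({z} : Set G))))) ∧
      Nat.card ↥(center ↥(centralizer (X : Set (centralizer ({z} : Set G))))) = 6 ∧
      ∃ (K : Type) (_ : Field K) (_ : Fintype K), Fintype.card K = 9 ∧
        Nonempty (↥(centralizer (X : Set (centralizer ({z} : Set G)))) ⧸
          center ↥(centralizer (X : Set (centralizer ({z} : Set G)))) ≃* Cfsg.PSU 4 K 3) := by
  obtain ⟨D⟩ := exists_dat hF
  obtain ⟨hset, N, M, hN, hM, hQN, hNM, hNc, ⟨K, iF, iFt, hK, ⟨iso⟩⟩, hMidx⟩ := hF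
  obtain ⟨P⟩ := exists_fused D hset
  haveI := hN
  haveI := hM
  haveI := hXQ
  have hF3 : Nat.card K = 3 ^ 2 := by rw [Nat.card_eq_fintype_card, hK]; rfl
  have hcP : Nat.card (↥M ⧸ N.subgroupOf M) = 3265920 := by
    rw [Nat.card_congr iso.toEquiv, card_psu43 hK]
  haveI : IsSimpleGroup (Cfsg.PSU 4 K 3) := Unitary.isSimpleGroup_PSU hF3 (by norm_num) (by omega)
  haveI : Nontrivial (↥M ⧸ N.subgroupOf M) :=
    Finite.one_lt_card_iff_nontrivial.1 (by rw [hcP]; norm_num)
  haveI hsimp : IsSimpleGroup (↥M ⧸ N.subgroupOf M) := iso.isSimpleGroup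
  -- the element of order three
  let mk := QuotientGroup.mk' Q
  haveI : Fact (Nat.Prime 3) := ⟨Nat.prime_three⟩
  have hXQ0 : X ⊓ Q = ⊥ := inf_eq_bot_of_coprime (by rw [hX, D.cardQ]; norm_num)
  have hXc : Nat.card (X.map mk) = 3 := by
    have hinj : Function.Injective (mk.comp X.subtype) := fun a b e => by
      refine Subtype.ext (inv_mul_eq_one.1 ?_)
      have h1 : (a : centralizer ({z} : Set G))⁻¹ * b ∈ X ⊓ Q := Subgroup.mem_inf.2
        ⟨mul_mem (inv_mem a.2) b.2, (QuotientGroup.eq_one_iff _).1 (by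
          show mk _ = 1
          rw [map_mul, map_inv, show mk (a : centralizer ({z} : Set G)) = mk b from e, inv_mul_cancel])⟩
      rw [hXQ0] at h1
      exact h1
    rw [← hX, Nat.card_congr (MonoidHom.ofInjective hinj).toEquiv, MonoidHom.range_comp, range_subtype]
  have hXQc : Nat.card ↥(X ⊔ Q) = 3 * Nat.card Q := by
    have h := Subgroup.index_mul_card (Q.subgroupOf (X ⊔ Q))
    rw [Nat.card_congr (subgroupOfEquivOfLe le_sup_right).toEquiv] at h
    rw [← h]
    congr 1
    have h2 := Subgroup.relIndex_ker (K := X ⊔ Q) mk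
    rw [QuotientGroup.ker_mk', Subgroup.map_sup, show Q.map mk = ⊥ from
      (Subgroup.map_eq_bot_iff _).2 (QuotientGroup.ker_mk' Q).ge, sup_bot_eq] at h2
    exact h2.trans hXc
  have hXN : X ⊔ Q = N := normal_unique hMidx hQN hNM hNc D.cardQ hcP le_sup_right hXQc
  haveI hzn : (zpowers D.T.x).Normal := ⟨fun y hy g => by
    obtain ⟨k, rfl⟩ := mem_zpowers_iff.1 hy
    rw [← conj_zpow]
    rcases D.T.semi g with e | e <;> rw [e]
    exacts [zpow_mem (mem_zpowers _) k, zpow_mem (inv_mem (mem_zpowers _)) k]⟩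
  have hx3 : orderOf D.T.x = 3 := by
    refine orderOf_eq_prime (D.T.inj (LinearEquiv.ext fun a => ?_)) Scal.x_ne_one
    rw [pow_succ, pow_two, Std.r_mul, Std.r_mul, D.T.x_act, D.T.x_act, D.T.x_act, smul_smul, smul_smul,
      show om * om * om = (1 : F4) by decide +kernel, one_smul, Std.r_one]
  set N1 := Scal.N1 D with hN1
  have hQN1 : Q ≤ N1 := fun a ha => by
    show mk a ∈ zpowers D.T.x
    rw [show mk a = 1 from (QuotientGroup.eq_one_iff a).2 ha]
    exact one_mem _
  have hN1c : Nat.card N1 = 3 * Nat.card Q := by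
    have h := Subgroup.index_mul_card (Q.subgroupOf N1)
    rw [Nat.card_congr (subgroupOfEquivOfLe hQN1).toEquiv] at h
    rw [← h]
    congr 1
    have h2 := Subgroup.relIndex_ker (K := N1) mk
    rw [QuotientGroup.ker_mk', map_comap_eq_self_of_surjective (QuotientGroup.mk'_surjective Q),
      Nat.card_zpowers, hx3] at h2
    exact h2
  have hN1N : N1 = N := normal_unique hMidx hQN hNM hNc D.cardQ hcP hQN1 hN1c
  obtain ⟨x0, hx0X, hx0⟩ : ∃ x0 ∈ X, mk x0 = D.T.x := by
    obtain ⟨c, hc⟩ := QuotientGroup.mk'_surjective Q D.T.x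
    have hcN : c ∈ X ⊔ Q := by
      rw [hXN, ← hN1N]
      show mk c ∈ zpowers D.T.x
      rw [show mk c = D.T.x from hc]
      exact mem_zpowers _
    have := mem_map_of_mem mk hcN
    rw [Subgroup.map_sup, show Q.map mk = ⊥ from
      (Subgroup.map_eq_bot_iff _).2 (QuotientGroup.ker_mk' Q).ge, sup_bot_eq, show mk c = D.T.x from hc] at this
    exact this
  have hcube : x0 ^ 3 = 1 := by
    have h := pow_card_eq_one' (x := (⟨x0, hx0X⟩ : X))
    rw [hX] at h
    exact congrArg Subtype.val h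
  let S : Scal D := ⟨x0, hcube, hx0⟩
  have hXz : zpowers x0 = X := Subgroup.eq_of_le_of_card_ge (zpowers_le.2 hx0X) (by
    rw [hX, Nat.card_zpowers, S.orderOf_x0])
  have hcent : centralizer (X : Set (centralizer ({z} : Set G))) = S.H := by
    rw [← hXz, zpowers_eq_closure, centralizer_closure]
  rw [hcent]
  -- the linear subgroup
  haveI := Subgroup.normal_of_index_eq_two D.T.idx
  have hCx : centralizer ({D.T.x} : Set _) = D.T.M := by
    have hle : D.T.M ≤ centralizer ({D.T.x} : Set _) := fun c hc =>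
      mem_centralizer_singleton_iff.2 (D.T.central c hc)
    have hd := Subgroup.index_dvd_of_le hle
    rw [D.T.idx] at hd
    rcases (Nat.dvd_prime Nat.prime_two).1 hd with e | e
    · exfalso
      obtain ⟨c, hc⟩ := P.exists_not_comm
      rw [index_eq_one] at e
      exact hc (mul_inv_eq_iff_eq_mul.2 (mem_centralizer_singleton_iff.1 (e ▸ mem_top c : c ∈ centralizer _)))
    · have h := Subgroup.relIndex_mul_index hle
      rw [D.T.idx, e] at h
      exact le_antisymm (Subgroup.relIndex_eq_one.1 (by omega)) hle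
  set M1 := D.T.M.comap mk with hM1
  have hM1i : M1.index = 2 := by
    rw [hM1, index_comap_of_surjective _ (QuotientGroup.mk'_surjective Q), D.T.idx]
  haveI := Subgroup.normal_of_index_eq_two hM1i
  have hNM1 : N ≤ M1 := hN1N ▸ Subgroup.comap_mono (zpowers_le.2 D.T.x_mem)
  have hMM1 : M = M1 := by
    have hle : M ≤ M1 := by
      rcases IsSimpleGroup.eq_bot_or_eq_top_of_normal _ (Subgroup.Normal.map
        (inferInstance : (M1.subgroupOf M).Normal) (QuotientGroup.mk' (N.subgroupOf M))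
        (QuotientGroup.mk'_surjective _)) with h | h
      · exfalso
        have hle' : M1.subgroupOf M ≤ N.subgroupOf M := by
          rw [Subgroup.map_eq_bot_iff, QuotientGroup.ker_mk'] at h
          exact h
        have hd := Subgroup.index_dvd_of_le hle'
        rw [← Subgroup.index_eq_card] at hcP
        rw [hcP] at hd
        have hd2 := hd.trans (Subgroup.relIndex_dvd_index_of_normal M1 M)
        rw [hM1i] at hd2
        norm_num at hd2
      · intro m hm
        obtain ⟨m', hm', e⟩ := (h ▸ mem_top (QuotientGroup.mk' (N.subgroupOf M) ⟨m, hm⟩) :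
          QuotientGroup.mk' (N.subgroupOf M) ⟨m, hm⟩ ∈ (M1.subgroupOf M).map _)
        have h' := QuotientGroup.eq.1 e
        replace hm' : (m' : centralizer ({z} : Set G)) ∈ M1 := hm'
        rw [mem_subgroupOf] at h'
        have := mul_mem hm' (hNM1 h')
        simpa using this
    have h := Subgroup.relIndex_mul_index hle
    rw [hMidx, hM1i] at h
    exact le_antisymm hle (Subgroup.relIndex_eq_one.1 (by omega))
  have hHM : S.H ≤ M := fun h hh => by
    rw [hMM1]
    show mk h ∈ D.T.M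
    rw [← hCx]
    exact mem_centralizer_singleton_iff.2 (S.mk_comm hh)
  let ψ : ↥S.H →* ↥M ⧸ N.subgroupOf M :=
    (QuotientGroup.mk' (N.subgroupOf M)).comp (Subgroup.inclusion hHM)
  have hψs : Function.Surjective ψ := by
    intro e
    obtain ⟨⟨m, hm⟩, rfl⟩ := QuotientGroup.mk'_surjective _ e
    obtain ⟨h, hh, he⟩ := S.exists_mem (e := mk m) (mem_centralizer_singleton_iff.1 (by
      rw [hCx]; rw [hMM1] at hm; exact hm))
    refine ⟨⟨h, hh⟩, QuotientGroup.eq.2 ?_⟩
    show h⁻¹ * m ∈ N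
    refine hQN ((QuotientGroup.eq_one_iff _).1 ?_)
    show mk _ = 1
    rw [map_mul, map_inv, show mk h = mk m from he, inv_mul_cancel]
  -- the kernel
  have hz2 := Scal.zC_sq D
  have hzc : ∀ c : centralizer ({z} : Set G), Commute Scal.zC c := Scal.zC_comm
  have hker : ∀ h : S.H, ψ h = 1 → ∃ k : ℤ, (h : centralizer ({z} : Set G)) = x0 ^ k ∨
      (h : centralizer ({z} : Set G)) = Scal.zC * x0 ^ k := by
    intro h hh
    have hN' : (h : centralizer ({z} : Set G)) ∈ N :=
      (QuotientGroup.eq_one_iff (Subgroup.inclusion hHM h)).1 hh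
    rw [← hN1N] at hN'
    obtain ⟨k, hk⟩ := S.N1_decomp hN'
    refine ⟨k, ?_⟩
    rcases S.inter hk (mul_mem h.2 (inv_mem (zpow_mem S.x0_mem k))) with e | e
    · exact Or.inl (mul_inv_eq_one.1 e)
    · exact Or.inr (mul_inv_eq_iff_eq_mul.1 e)
  set H' := ⁅S.H, S.H⁆
  have hnab : ¬ (∀ a b : ↥M ⧸ N.subgroupOf M, a * b = b * a) := by
    intro hab
    letI : CommGroup (↥M ⧸ N.subgroupOf M) := { (inferInstance : Group _) with mul_comm := hab }
    have hp : (Nat.card (↥M ⧸ N.subgroupOf M)).Prime := IsSimpleGroup.prime_card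
    rw [hcP] at hp
    norm_num at hp
  have hcomm : commutator (↥M ⧸ N.subgroupOf M) = ⊤ := by
    refine (IsSimpleGroup.eq_bot_or_eq_top_of_normal _ inferInstance).resolve_left fun h => hnab fun a b => ?_
    refine commutatorElement_eq_one_iff_mul_comm.1 ((Subgroup.eq_bot_iff_forall _).1 h _ ?_)
    exact Subgroup.commutator_mem_commutator (mem_top a) (mem_top b)
  have hrep : ∀ h : S.H, ∃ d : S.H, (d : centralizer ({z} : Set G)) ∈ H' ∧ ψ (d⁻¹ * h) = 1 := by
    intro h
    have h1 : ψ h ∈ (commutator ↥S.H).map ψ := by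
      rw [map_commutator_eq, MonoidHom.range_eq_top.2 hψs, ← _root_.commutator_def, hcomm]
      exact mem_top _
    obtain ⟨d, hd, e⟩ := h1
    refine ⟨d, ?_, by rw [map_mul, map_inv, e, inv_mul_cancel]⟩
    have h2 := mem_map_of_mem S.H.subtype hd
    rwa [map_subtype_commutator] at h2
  have hB : ∀ a b : centralizer ({z} : Set G), (a ∈ H' ∨ a * Scal.zC ∈ H') →
      (b ∈ H' ∨ b * Scal.zC ∈ H') → (a * b ∈ H' ∨ a * b * Scal.zC ∈ H') := by
    rintro a b (ha | ha) (hb | hb)
    · exact Or.inl (mul_mem ha hb)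
    · exact Or.inr (by rw [mul_assoc]; exact mul_mem ha hb)
    · refine Or.inr ?_
      rw [mul_assoc, ← (hzc b).eq, ← mul_assoc]
      exact mul_mem ha hb
    · refine Or.inl ?_
      have := mul_mem ha hb
      rwa [mul_assoc, ← mul_assoc Scal.zC, (hzc b).eq, mul_assoc b, hz2, mul_one] at this
  have hBx : x0 ∈ H' ∨ x0 * Scal.zC ∈ H' := by
    obtain ⟨c, hc, d, hd, hcd⟩ := commutator_x D
    obtain ⟨h1, hh1, e1⟩ := S.exists_mem (D.T.central c hc)
    obtain ⟨h2, hh2, e2⟩ := S.exists_mem (D.T.central d hd)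
    have hm : ⁅h1, h2⁆ ∈ H' := Subgroup.commutator_mem_commutator hh1 hh2
    have hin : ⁅h1, h2⁆⁻¹ * x0 ∈ Q := (QuotientGroup.eq_one_iff _).1 (by
      show mk _ = 1
      rw [map_mul, map_inv, map_commutatorElement, show mk h1 = c from e1, show mk h2 = d from e2, hcd,
        show mk x0 = D.T.x from hx0, inv_mul_cancel])
    have hinH : ⁅h1, h2⁆⁻¹ * x0 ∈ S.H := by
      refine mul_mem (inv_mem ?_) S.x0_mem
      rw [commutatorElement_def]
      exact mul_mem (mul_mem (mul_mem hh1 hh2) (inv_mem hh1)) (inv_mem hh2)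
    rcases S.inter hin hinH with e | e
    · exact Or.inl (inv_mul_eq_one.1 e ▸ hm)
    · refine Or.inr ?_
      rw [inv_mul_eq_iff_eq_mul.1 e, mul_assoc, hz2, mul_one]
      exact hm
  have hBpow : ∀ n : ℕ, x0 ^ n ∈ H' ∨ x0 ^ n * Scal.zC ∈ H' := by
    intro n
    induction n with
    | zero => exact Or.inl (by rw [pow_zero]; exact one_mem _)
    | succ n ih => rw [pow_succ]; exact hB _ _ ih hBx
  have hfin : ∀ k : ℤ, ∃ n : ℕ, x0 ^ k = x0 ^ n := fun k => by
    obtain ⟨n, hn⟩ := (isOfFinOrder_of_finite x0).mem_powers_iff_mem_zpowers.2 (zpow_mem (mem_zpowers x0) k)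
    exact ⟨n, hn.symm⟩
  have hcov : ∀ h ∈ S.H, h ∈ H' ∨ h * Scal.zC ∈ H' := by
    intro h hh
    obtain ⟨d, hd, hdk⟩ := hrep ⟨h, hh⟩
    obtain ⟨k, hk⟩ := hker _ hdk
    obtain ⟨n, hn⟩ := hfin k
    have hk' : (d : centralizer ({z} : Set G))⁻¹ * h ∈ H' ∨
        (d : centralizer ({z} : Set G))⁻¹ * h * Scal.zC ∈ H' := by
      rcases hk with e | e
      · rw [show (d : centralizer ({z} : Set G))⁻¹ * h = _ from e, hn]
        exact hBpow n
      · rw [show (d : centralizer ({z} : Set G))⁻¹ * h = _ from e, hn, (hzc _).eq]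
        rcases hBpow n with b | b
        · exact Or.inr (by rw [mul_assoc, hz2, mul_one]; exact b)
        · exact Or.inl b
    have := hB _ _ (Or.inl hd) hk'
    rwa [mul_inv_cancel_left] at this
  have hzH' : Scal.zC ∈ H' := zC_mem_commutator S P hcov
  have hall : S.H ≤ H' := fun h hh => by
    rcases hcov h hh with e | e
    · exact e
    · have := mul_mem e hzH'
      rwa [mul_assoc, hz2, mul_one] at this
  have hperf : Group.IsPerfect ↥S.H := by
    rw [Subgroup.isPerfect_iff]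
    refine le_antisymm ?_ hall
    exact commutator_le.2 fun a ha b hb => by
      rw [commutatorElement_def]
      exact mul_mem (mul_mem (mul_mem ha hb) (inv_mem ha)) (inv_mem hb)
  -- the centre
  let g0 : S.H := ⟨Scal.zC * x0, mul_mem S.zC_mem S.x0_mem⟩
  have hg0c : g0 ∈ center ↥S.H := mem_center_iff.2 fun h => Subtype.ext (by
    show (h : centralizer ({z} : Set G)) * (Scal.zC * x0) = Scal.zC * x0 * (h : centralizer ({z} : Set G))
    rw [← mul_assoc, ← (hzc _).eq, mul_assoc, mem_centralizer_singleton_iff.1 h.2, mul_assoc])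
  have hg0k : ψ g0 = 1 := by
    refine (QuotientGroup.eq_one_iff _).2 ?_
    show Scal.zC * x0 ∈ N
    refine mul_mem (hQN (Scal.zC_mem_Q D)) ?_
    rw [← hN1N]
    show mk x0 ∈ zpowers D.T.x
    rw [show mk x0 = D.T.x from hx0]
    exact mem_zpowers _
  have hcx : Commute (Scal.zC : centralizer ({z} : Set G)) x0 := hzc x0
  have hsix : orderOf g0 = 6 := by
    rw [← Subgroup.orderOf_coe]
    show orderOf (Scal.zC * x0) = 6
    have h2 : orderOf (Scal.zC : centralizer ({z} : Set G)) = 2 :=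
      orderOf_eq_prime (by rw [pow_two, hz2]) (Scal.zC_ne D)
    rw [hcx.orderOf_mul_eq_mul_orderOf_of_coprime (by rw [h2, show orderOf x0 = 3 from S.orderOf_x0]; norm_num),
      h2, show orderOf x0 = 3 from S.orderOf_x0]
  have hkerz : ∀ h, ψ h = 1 → h ∈ zpowers g0 := by
    intro h hh
    have h3 : g0 ^ 3 = ⟨Scal.zC, S.zC_mem⟩ := Subtype.ext (by
      show (Scal.zC * x0) ^ 3 = Scal.zC
      rw [hcx.mul_pow, hcube, mul_one, pow_succ, pow_two, hz2, one_mul])
    have h4 : g0 ^ 4 = ⟨x0, S.x0_mem⟩ := Subtype.ext (by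
      show (Scal.zC * x0) ^ 4 = x0
      rw [hcx.mul_pow, pow_succ x0, hcube, one_mul, show 4 = 2 * 2 by norm_num, pow_mul, pow_two Scal.zC, hz2,
        one_pow, one_mul])
    obtain ⟨k, e | e⟩ := hker h hh
    · rw [show h = (g0 ^ 4) ^ k by rw [h4]; exact Subtype.ext e]
      exact zpow_mem (pow_mem (mem_zpowers _) 4) k
    · rw [show h = g0 ^ 3 * (g0 ^ 4) ^ k by rw [h3, h4]; exact Subtype.ext e]
      exact mul_mem (pow_mem (mem_zpowers _) 3) (zpow_mem (pow_mem (mem_zpowers _) 4) k)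
  have hcenK : center ↥S.H ≤ ψ.ker := by
    intro h hh
    have hn : (center (↥M ⧸ N.subgroupOf M)) = ⊥ :=
      (IsSimpleGroup.eq_bot_or_eq_top_of_normal _ inferInstance).resolve_right fun e => hnab fun a b =>
        (mem_center_iff.1 (e ▸ mem_top b : b ∈ center _) a)
    refine MonoidHom.mem_ker.2 ((Subgroup.eq_bot_iff_forall _).1 hn _ (mem_center_iff.2 fun e => ?_))
    obtain ⟨w, rfl⟩ := hψs e
    rw [← map_mul, ← map_mul, mem_center_iff.1 hh w]
  have hcen : center ↥S.H = zpowers g0 :=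
    le_antisymm (fun h hh => hkerz h (MonoidHom.mem_ker.1 (hcenK hh))) (zpowers_le.2 hg0c)
  have hcenker : center ↥S.H = ψ.ker :=
    le_antisymm hcenK fun h hh => hcen ▸ hkerz h (MonoidHom.mem_ker.1 hh)
  let e0 : ↥S.H ⧸ center ↥S.H ≃* ↥M ⧸ N.subgroupOf M :=
    (QuotientGroup.quotientMulEquivOfEq hcenker).trans (QuotientGroup.quotientKerEquivOfSurjective ψ hψs)
  refine ⟨⟨hperf, ?_⟩, ?_, ?_, K, iF, iFt, hK, ⟨e0.trans iso⟩⟩
  · haveI : Nontrivial (↥S.H ⧸ center ↥S.H) := e0.toEquiv.nontrivial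
    exact e0.isSimpleGroup
  · rw [hcen]; infer_instance
  · rw [hcen, Nat.card_zpowers, hsix]

end CfsgLib.FiLarge.CentX
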