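import Cfsg.Agent.FiLarge.Basic

/-!
Two fused central involutions: the intersection of their kernels has order `2^7`, and the trace of
the second kernel is an elementary abelian group of order 32 with quotient the alternating group
of degree six in the stabiliser.
-/

set_option autoImplicit false
set_option quotPrecheck false
set_option linter.style.haveILetI false

namespace CfsgLib.FiLarge

open CfsgLib Subgroup

variable {G : Type*} [Group G] [Finite G] {z : G} {Q : Subgroup (centralizer ({z} : Set G))} [Q.Normal]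
  (D : Dat z Q) {g : G} {s : Q}

local notation "QG" => Q.map (centralizer ({z} : Set G)).subtype
local notation "QS" => (Q.map (centralizer ({z} : Set G)).subtype).map (MulAut.conj g).toMonoidHom
local notation "EE" => (((Q.map (centralizer ({z} : Set G)).subtype).map (MulAut.conj g).toMonoidHom ⊓
  centralizer ({z} : Set G)).subgroupOf (centralizer ({z} : Set G))).map (QuotientGroup.mk' Q)

namespace Dat

theorem stab_eq (hs : val s ≠ 1) (hsz : val s ≠ z) :
    ((centralizer ({z} : Set G) ⊓ centralizer ({val s} : Set G)).subgroupOf (centralizer ({z} : Set G))).map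
      (QuotientGroup.mk' Q) = D.T.stab (D.π s) := by
  ext x
  constructor
  · rintro ⟨c, hc, rfl⟩
    have h := mem_centralizer_singleton_iff.1 (Subgroup.mem_inf.1 hc).2
    refine D.π_conj_eq ?_
    show (c : G) * val s * (c : G)⁻¹ = val s
    exact mul_inv_eq_iff_eq_mul.2 h
  · intro hx
    obtain ⟨c, hc, e⟩ := D.exists_conj hs hsz hx
    refine ⟨c, Subgroup.mem_inf.2 ⟨c.2, mem_centralizer_singleton_iff.2 ?_⟩, hc⟩
    exact mul_inv_eq_iff_eq_mul.1 e

theorem alt_nonabelian : g3 * g5 ≠ g5 * g3 := by decide +kernel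

include D in
theorem pre' (hg : g * z * g⁻¹ = val s) : LargeExtra.Pre QS (val s) := hg ▸ LargeExtra.pre_conj D.pre g

include D in
theorem z_mem (hg : g * z * g⁻¹ = val s) : z ∈ QS :=
  D.pre.center_mem_conj (hg ▸ mem_map_of_mem _ s.2)

include D in
theorem comm_sq_eq {X : Subgroup G} {w : G} (hX : Extra2.Gen X w) (hw : w ∈ QG) {a b : G} (ha : a ∈ X)
    (hb : b ∈ X) : a * a ∈ QG ∧ a * b * a⁻¹ * b⁻¹ ∈ QG := by
  constructor
  · rcases hX.square a ha with e | e <;> rw [e]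
    exacts [one_mem _, hw]
  · rcases hX.comm a ha b hb with e | e <;> rw [e]
    exacts [one_mem _, hw]

include D in
theorem meet_elementary (hg : g * z * g⁻¹ = val s) (hsz : val s ≠ z) :
    Cfsg.IsElementaryAbelian 2 (QG ⊓ QS) := by
  have h' := D.pre' hg
  have hzs : ∀ y, (y = 1 ∨ y = z) → (y = 1 ∨ y = val s) → y = 1 := by
    rintro y (rfl | rfl) (e | e)
    exacts [rfl, rfl, e, absurd e.symm hsz]
  refine ⟨⟨⟨fun a b => Subtype.ext ?_⟩⟩, fun a ha => ?_⟩
  · have h := hzs _ (D.pre.gen.comm a a.2.1 b b.2.1) (h'.gen.comm a a.2.2 b b.2.2)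
    exact mul_inv_eq_iff_eq_mul.1 (mul_inv_eq_one.1 h)
  · rw [pow_two]
    exact hzs _ (D.pre.gen.square a ha.1) (h'.gen.square a ha.2)

include D in
theorem card_QG : Nat.card QG = 2 ^ 13 := by
  rw [card_map_of_injective (centralizer ({z} : Set G)).subtype_injective, D.cardQ]

include D in
theorem card_meet_le (hg : g * z * g⁻¹ = val s) (hsz : val s ≠ z) : Nat.card ↥(QG ⊓ QS) ≤ 2 ^ 7 := by
  have hle : QG ⊓ QS ≤ QG ⊓ centralizer ((QG ⊓ QS : Subgroup G) : Set G) := by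
    refine le_inf inf_le_left fun a ha => mem_centralizer_iff.2 fun b hb => ?_
    have h := (D.meet_elementary hg hsz).1.1.1 ⟨b, hb⟩ ⟨a, ha⟩
    exact congrArg Subtype.val h
  have hzR : z ∈ QG ⊓ QS := ⟨D.pre.gen.mem, D.z_mem hg⟩
  have h := Extra2.card_mul_card_centralizer D.pre.gen hzR inf_le_left
  have h2 := Subgroup.card_le_of_le hle
  rw [D.card_QG] at h
  nlinarith

include D in
theorem EE_le_stab (hg : g * z * g⁻¹ = val s) (hs : val s ≠ 1) (hsz : val s ≠ z) :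
    EE ≤ D.T.stab (D.π s) := by
  rw [← D.stab_eq hs hsz]
  refine map_mono fun c hc => Subgroup.mem_inf.2 ⟨c.2, mem_centralizer_singleton_iff.2 ?_⟩
  exact ((D.pre' hg).gen.comm_z _ (Subgroup.mem_inf.1 hc).1).eq

include D in
theorem EE_normalised (hg : g * z * g⁻¹ = val s) (hs : val s ≠ 1) (hsz : val s ≠ z) {x y : _}
    (hx : x ∈ D.T.stab (D.π s)) (hy : y ∈ EE) : x * y * x⁻¹ ∈ EE := by
  rw [← D.stab_eq hs hsz] at hx
  obtain ⟨c, hc, rfl⟩ := hx
  obtain ⟨b, hb, rfl⟩ := hy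
  refine ⟨c * b * c⁻¹, Subgroup.mem_inf.2 ⟨?_, (c * b * c⁻¹).2⟩, by simp⟩
  exact (D.pre' hg).conj_mem (mem_centralizer_singleton_iff.1 (Subgroup.mem_inf.1 hc).2)
    (Subgroup.mem_inf.1 hb).1

include D in
theorem EE_elementary (hg : g * z * g⁻¹ = val s) : Cfsg.IsElementaryAbelian 2 EE := by
  have h' := D.pre' hg
  have hsQ : val s ∈ QG := mem_map_of_mem _ s.2
  have hq : ∀ c : centralizer ({z} : Set G), (c : G) ∈ QG → QuotientGroup.mk' Q c = 1 := by
    rintro c ⟨q, hq, e⟩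
    rw [← (Subtype.ext e : q = c)]
    exact (QuotientGroup.eq_one_iff q).2 hq
  refine ⟨⟨⟨?_⟩⟩, ?_⟩
  · rintro ⟨_, a, ha, rfl⟩ ⟨_, b, hb, rfl⟩
    refine Subtype.ext ?_
    show QuotientGroup.mk' Q a * QuotientGroup.mk' Q b = QuotientGroup.mk' Q b * QuotientGroup.mk' Q a
    have h := hq (a * b * a⁻¹ * b⁻¹)
      (D.comm_sq_eq h'.gen hsQ (Subgroup.mem_inf.1 ha).1 (Subgroup.mem_inf.1 hb).1).2
    simp only [map_mul, map_inv] at h
    exact mul_inv_eq_iff_eq_mul.1 (mul_inv_eq_one.1 h)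
  · rintro _ ⟨a, ha, rfl⟩
    rw [pow_two, ← map_mul]
    exact hq _ (D.comm_sq_eq h'.gen hsQ (Subgroup.mem_inf.1 ha).1 (Subgroup.mem_inf.1 ha).1).1

include D in
theorem card_EE_mul (hg : g * z * g⁻¹ = val s) :
    2 ^ 12 ≤ Nat.card EE * Nat.card ↥(QG ⊓ QS) := by
  have h1 := Extra2.card_le_two_mul (D.pre' hg).gen QS le_rfl (D.z_mem hg)
  rw [card_map_of_injective (MulAut.conj g).injective, D.card_QG] at h1
  set B := (QS ⊓ centralizer ({z} : Set G)).subgroupOf (centralizer ({z} : Set G))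
  have hB : Nat.card B = Nat.card ↥(QS ⊓ centralizer ({z} : Set G)) :=
    Nat.card_congr (subgroupOfEquivOfLe inf_le_right).toEquiv
  let f : B →* _ ⧸ Q := (QuotientGroup.mk' Q).comp B.subtype
  have hr : f.range = EE := by rw [MonoidHom.range_comp, range_subtype]
  let j : f.ker → ↥(QG ⊓ QS) := fun b => ⟨((b.1 : centralizer ({z} : Set G)) : G),
    ⟨mem_map_of_mem _ ((QuotientGroup.eq_one_iff _).1 (MonoidHom.mem_ker.1 b.2)), (Subgroup.mem_inf.1 b.1.2).1⟩⟩
  have hj : Function.Injective j := fun a b e =>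
    Subtype.ext (Subtype.ext (Subtype.ext (show a.1.1.1 = b.1.1.1 from congrArg (fun u : ↥(QG ⊓ QS) => (u : G)) e)))
  have h2 := Nat.card_le_card_of_injective j hj
  have h3 := Subgroup.card_mul_index f.ker
  rw [Subgroup.index_ker, hr, hB] at h3
  nlinarith

/-- The trace of the second kernel and the stabiliser. -/
theorem pair_main (hg : g * z * g⁻¹ = val s) (hs : val s ≠ 1) (hsz : val s ≠ z) :
    D.π s ∉ D.T.orb ⊤ v2 ∧ Nat.card ↥(QG ⊓ QS) = 2 ^ 7 ∧ Nat.card EE = 32 ∧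
      ∃ _ : ((EE).subgroupOf (D.T.stab (D.π s))).Normal,
        Nonempty (↥(D.T.stab (D.π s)) ⧸ (EE).subgroupOf (D.T.stab (D.π s)) ≃* A6) := by
  have hq : qn (D.π s) = 0 := by
    refine (D.sq_iff s).1 (Subtype.ext (Subtype.ext ?_))
    exact (D.pre' hg).gen.sq
  have h0 := D.π_ne_zero hs hsz
  obtain ⟨v, hv, hvq, c, hc⟩ : ∃ v : V6, (∀ i, v i ≠ 0) ∧ qn v = 0 ∧ ∃ c, D.T.r c (D.π s) = v := by
    obtain ⟨⟨v, h1, h2, h3⟩, w, k1, k2, k3⟩ := D.T.exists_full
    by_cases hA : D.π s ∈ D.T.orb ⊤ v2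
    · obtain ⟨a, -, ha⟩ := D.T.mem_orb.1 hA
      obtain ⟨b, -, hb⟩ := D.T.mem_orb.1 h3
      exact ⟨v, h1, h2, b * a⁻¹, by rw [Std.r_mul, ← ha, ← Std.r_mul D.T a⁻¹, inv_mul_cancel, Std.r_one, hb]⟩
    · exact ⟨w, k1, k2, D.T.large_trans hq h0 hA k2 (fun e => k1 0 (congrFun e 0)) k3⟩
  have hmem : ∀ τ : A6, c⁻¹ * D.T.twistHom v τ * c ∈ D.T.stab (D.π s) := fun τ => by
    rw [Std.mem_stab, Std.r_mul, Std.r_mul, hc, D.T.twistHom_fix hv, ← hc, ← Std.r_mul, inv_mul_cancel,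
      Std.r_one]
  let ψ : A6 →* ↥(D.T.stab (D.π s)) :=
    { toFun := fun τ => ⟨_, hmem τ⟩
      map_one' := Subtype.ext (by simp)
      map_mul' := fun σ τ => Subtype.ext (by
        show c⁻¹ * D.T.twistHom v (σ * τ) * c = c⁻¹ * D.T.twistHom v σ * c * (c⁻¹ * D.T.twistHom v τ * c)
        rw [map_mul]; group) }
  have hψ : Function.Injective ψ := fun σ τ h => by
    refine D.T.twistHom_injective v ?_
    have e : c⁻¹ * D.T.twistHom v σ * c = c⁻¹ * D.T.twistHom v τ * c := congrArg Subtype.val h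
    exact mul_left_cancel (mul_right_cancel e)
  set K := (EE).subgroupOf (D.T.stab (D.π s))
  haveI hK : K.Normal := ⟨fun y hy x => D.EE_normalised hg hs hsz x.2 hy⟩
  let φ := (QuotientGroup.mk' K).comp ψ
  haveI : IsSimpleGroup A6 := alternatingGroup.isSimpleGroup (by simp)
  have hφ : Function.Injective φ := by
    rw [← MonoidHom.ker_eq_bot_iff]
    refine (IsSimpleGroup.eq_bot_or_eq_top_of_normal _ inferInstance).resolve_right fun h => ?_
    have hin : ∀ τ, ψ τ ∈ K := fun τ =>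
      (QuotientGroup.eq_one_iff _).1 (MonoidHom.mem_ker.1 (h ▸ mem_top τ : τ ∈ φ.ker))
    refine alt_nonabelian (hψ ?_)
    rw [map_mul, map_mul]
    refine Subtype.ext ?_
    have e := congrArg Subtype.val ((D.EE_elementary hg).1.1.1 ⟨(ψ g3).1, hin g3⟩ ⟨(ψ g5).1, hin g5⟩)
    exact e
  have hKcard : Nat.card K = Nat.card EE :=
    Nat.card_congr (subgroupOfEquivOfLe (D.EE_le_stab hg hs hsz)).toEquiv
  have hdvd : 360 * Nat.card EE ∣ Nat.card ↥(D.T.stab (D.π s)) := by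
    rw [Subgroup.card_eq_card_quotient_mul_card_subgroup K, hKcard]
    refine Nat.mul_dvd_mul_right ?_ _
    rw [← card_A6]
    exact Subgroup.card_dvd_of_injective φ hφ
  have hle := D.card_meet_le hg hsz
  have hmul := D.card_EE_mul hg
  have h32 : 32 ≤ Nat.card EE := by nlinarith
  obtain ⟨n, hn⟩ : ∃ n, Nat.card EE = 2 ^ n := by
    haveI : Fact (Nat.Prime 2) := ⟨Nat.prime_two⟩
    refine IsPGroup.iff_card.1 fun x => ⟨1, Subtype.ext ?_⟩
    exact (D.EE_elementary hg).2 x.1 x.2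
  rcases D.T.card_stab hq h0 with ⟨-, hS⟩ | ⟨hA, hS⟩
  · exfalso
    rw [hS, hn] at hdvd
    rw [hn] at h32
    have hn5 : 5 ≤ n := (Nat.pow_le_pow_iff_right (a := 2) one_lt_two).1 h32
    have : 360 * 2 ^ 5 ∣ 51840 := (Nat.mul_dvd_mul_left 360 (pow_dvd_pow 2 hn5)).trans hdvd
    norm_num at this
  · have he : Nat.card EE = 32 := by
      rw [hS] at hdvd
      have := Nat.le_of_dvd (by norm_num) hdvd
      omega
    refine ⟨hA, by rw [he] at hmul; omega, he, hK, ⟨(MulEquiv.ofBijective φ ?_).symm⟩⟩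
    refine (Nat.bijective_iff_injective_and_card φ).2 ⟨hφ, ?_⟩
    have h := Subgroup.card_eq_card_quotient_mul_card_subgroup K
    rw [hKcard, he, hS] at h
    rw [card_A6]
    omega

end Dat

end CfsgLib.FiLarge
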