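import Cfsg.Agent.FiLarge.CentXVec
import Cfsg.Agent.FiLarge.Pair

/-!
The trace of a fused kernel on the coordinate space: its linear part moves the vectors orthogonal
to the line of the fused involution along that line, and it contains an element inverting the
scalar.
-/

set_option autoImplicit false
set_option quotPrecheck false
set_option linter.style.haveILetI false

namespace CfsgLib.FiLarge.CentX

open CfsgLib Subgroup

variable {G : Type*} [Group G] {z : G} {Q : Subgroup (centralizer ({z} : Set G))} [Q.Normal]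

/-- A conjugate of the central involution in the kernel with coordinates of full support. -/
structure Fused (D : Dat z Q) where
  /-- The conjugating element. -/
  g : G
  /-- The conjugate. -/
  s : Q
  hg : g * z * g⁻¹ = Dat.val s
  full : ∀ i, D.π s i ≠ 0

namespace Fused

variable [Finite G] {D : Dat z Q} (P : Fused D)

local notation "QG" => Q.map (centralizer ({z} : Set G)).subtype
local notation "QS" => (Q.map (centralizer ({z} : Set G)).subtype).map (MulAut.conj P.g).toMonoidHom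
local notation "EE" => (((Q.map (centralizer ({z} : Set G)).subtype).map (MulAut.conj P.g).toMonoidHom ⊓
  centralizer ({z} : Set G)).subgroupOf (centralizer ({z} : Set G))).map (QuotientGroup.mk' Q)

/-- The coordinate vector of the conjugate. -/
abbrev v : V6 := D.π P.s

theorem ne_one : Dat.val P.s ≠ 1 := by
  intro e
  have h := P.hg
  rw [e, mul_inv_eq_one, mul_eq_left] at h
  exact D.pre.gen.ne_one h

theorem ne_z : Dat.val P.s ≠ z := fun e => P.full 0 (by rw [(D.π_eq_zero P.s).2 (Or.inr e)]; rfl)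

theorem qv : qn P.v = 0 := by
  refine (D.sq_iff P.s).1 (Subtype.ext (Subtype.ext ?_))
  exact (D.pre' P.hg).gen.sq

theorem v_large : P.v ∉ D.T.orb ⊤ v2 := (D.pair_main P.hg P.ne_one P.ne_z).1

theorem card_EE : Nat.card EE = 32 := (D.pair_main P.hg P.ne_one P.ne_z).2.2.1

/-- The action in the coordinates adapted to the conjugate. -/
def rv (c : (centralizer ({z} : Set G)) ⧸ Q) (b : V6) : V6 :=
  mv P.v (mv P.v (D.T.r c (mv P.v b)))

theorem mv_rv (c : (centralizer ({z} : Set G)) ⧸ Q) (b : V6) :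
    mv P.v (P.rv c b) = D.T.r c (mv P.v b) := mv_inv P.full _

theorem rv_mul (c d : (centralizer ({z} : Set G)) ⧸ Q) (b : V6) :
    P.rv (c * d) b = P.rv c (P.rv d b) := by
  rw [rv, rv, mv_rv, Std.r_mul]

theorem rv_one (b : V6) : P.rv 1 b = b := by
  show mv P.v (mv P.v (D.T.r 1 (mv P.v b))) = b
  rw [map_one]
  exact mv_inv P.full b

/-- The small orbit in adapted coordinates. -/
def small (b : V6) : Prop := mv P.v b ∈ D.T.orb ⊤ v2

theorem kind_orbit {a b : V6} {k : Fin 5} (ha : kind a = some k) (hb : kind b = some k)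
    (h : a ∈ D.T.orb ⊤ v2) : b ∈ D.T.orb ⊤ v2 := by
  obtain ⟨c, -, hc⟩ := D.T.exists_mono ha
  obtain ⟨d, -, hd⟩ := D.T.exists_mono hb
  obtain ⟨e, -, he⟩ := D.T.mem_orb.1 h
  exact D.T.mem_orb.2 ⟨d * c⁻¹ * e, mem_top _, by
    rw [Std.r_mul, he, ← hc, Std.r_mul, ← Std.r_mul D.T c⁻¹, inv_mul_cancel, Std.r_one, hd]⟩

theorem orbit : Orbit P.small := by
  have h2 : ∀ a : V6, suppN a = 2 → kind a = some 0 := fun a h => by simp [kind, h]
  have h4 : ∀ a : V6, suppN a = 4 → kind a = some 1 := fun a h => by simp [kind, h]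
  have hv2 : kind v2 = some 0 := kind_nf 0
  have h0 : v2 ∈ D.T.orb ⊤ v2 := D.T.mem_orb.2 ⟨1, one_mem _, D.T.r_one _⟩
  have h1 : nf 1 ∉ D.T.orb ⊤ v2 := by
    intro hm
    obtain ⟨I, hsum, hI, -⟩ := D.T.exists_I (le_top : D.T.M ≤ ⊤) Std.v2_sing.1 Std.v2_sing.2
    rw [(D.T.card_small le_top).1] at hsum
    have hk : ∀ I : Finset (Fin 5), (378 : ℕ) = ∑ k ∈ I, sizeK k → 1 ∈ I → False := by decide +kernel
    exact hk I hsum ((hI 1).2 hm)
  refine ⟨fun i => ?_, fun i hi => h1 ?_, ?_, fun hb => P.v_large ?_⟩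
  · exact kind_orbit (D := D) hv2 (h2 _ (by rw [suppN_mv P.full, (suppN_pv i).1])) h0
  · exact kind_orbit (D := D) (h4 _ (by rw [suppN_mv P.full, (suppN_pv i).2])) (kind_nf 1) hi
  · exact kind_orbit (D := D) hv2 (h2 _ (by rw [suppN_mv P.full, suppN_bb])) h0
  · obtain ⟨k, hk⟩ := Option.isSome_iff_exists.1 ((singular_iff P.v).1
      ⟨P.qv, fun e => P.full 0 (congrFun e 0)⟩)
    exact kind_orbit (D := D) ((kind_bb _ P.full P.qv).trans hk) hk hb

theorem linear {c : (centralizer ({z} : Set G)) ⧸ Q} (hc : c * D.T.x = D.T.x * c) (l : F4) (a : V6) :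
    D.T.r c (l • a) = l • D.T.r c a := by
  have h : ∀ u, D.T.r c (om • u) = om • D.T.r c u := fun u => by
    rw [← D.T.x_act, ← D.T.x_act, ← LinearEquiv.mul_apply, ← LinearEquiv.mul_apply, ← map_mul,
      ← map_mul, hc]
  rcases f4_cases l with rfl | rfl | rfl | rfl
  · rw [zero_smul, zero_smul, map_zero]
  · rw [one_smul, one_smul]
  · exact h a
  · rw [add_smul, add_smul, one_smul, one_smul, map_add, h]

theorem good {c : (centralizer ({z} : Set G)) ⧸ Q} (hc : c * D.T.x = D.T.x * c)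
    (hv : c ∈ D.T.stab P.v) : Good P.small (P.rv c) where
  add a b := by simp only [rv, mv_add, map_add]
  smul l a := by simp only [rv, mv_smul, linear (D := D) hc]
  form a := by rw [rv, qn_mv P.full, qn_mv P.full, D.T.inv, qn_mv P.full]
  one := by
    show mv P.v (mv P.v (D.T.r c (mv P.v one6))) = one6
    rw [mv_one, show D.T.r c P.v = P.v from hv]
    nth_rewrite 3 [← mv_one P.v]
    exact mv_inv P.full one6
  small a ha := by
    show mv P.v (P.rv c a) ∈ _
    rw [mv_rv]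
    obtain ⟨d, -, hd⟩ := D.T.mem_orb.1 ha
    exact D.T.mem_orb.2 ⟨c * d, mem_top _, by rw [Std.r_mul, hd]⟩

/-- The adapted image of the intersection of the kernels. -/
def lag : AddSubgroup V6 where
  carrier := {b | ∃ a : Q, Dat.val a ∈ QS ∧ D.π a = mv P.v b}
  zero_mem' := ⟨1, one_mem QS, by
    rw [(D.π_eq_zero 1).2 (Or.inl rfl)]; exact funext fun i => (mul_zero _).symm⟩
  add_mem' := by
    rintro b b' ⟨a, ha, e⟩ ⟨a', ha', e'⟩
    exact ⟨a * a', mul_mem ha ha', by rw [D.π_mul, e, e', mv_add]⟩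
  neg_mem' := by
    intro b hb
    rwa [neg_eq_of_add_eq_zero_left (v6_same b)]

theorem twist_eq (τ : Equiv.Perm (Fin 6)) (b : V6) :
    twist P.v τ (mv P.v b) = mv P.v fun i => b (τ i) := by
  funext i
  show omp (logF (P.v i) - logF (P.v (τ i))) * (P.v (τ i) * b (τ i)) = P.v i * b (τ i)
  rw [← mul_assoc]
  congr 1
  calc omp (logF (P.v i) - logF (P.v (τ i))) * P.v (τ i)
      = omp (logF (P.v i) - logF (P.v (τ i))) * omp (logF (P.v (τ i))) := by rw [omp_logF _ (P.full _)]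
    _ = P.v i := by rw [← omp_add, sub_add_cancel, omp_logF _ (P.full _)]

theorem rv_twist (τ : A6) (b : V6) :
    P.rv (D.T.twistHom P.v τ) b = fun i => b (τ.1.symm i) := by
  rw [rv, Std.twistHom_act, twist_eq]
  exact mv_inv P.full _

theorem lag_lag : Lag P.lag where
  sing := by
    rintro b ⟨a, ha, e⟩
    rw [← qn_mv P.full b, ← e]
    refine (D.sq_iff a).1 (Subtype.ext (Subtype.ext ?_))
    have h := (D.meet_elementary P.hg P.ne_z).2 (Dat.val a) ⟨mem_map_of_mem _ a.2, ha⟩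
    rwa [pow_two] at h
  perm := by
    rintro b ⟨a, ha, e⟩ k
    obtain ⟨c, hc, hcs⟩ := D.exists_conj P.ne_one P.ne_z
      (D.T.twistHom_fix P.full ⟨tau k, tau_even k⟩)
    refine ⟨MulAut.conjNormal c a, (D.pre' P.hg).conj_mem ?_ ha, ?_⟩
    · exact mul_inv_eq_iff_eq_mul.1 hcs
    · rw [D.act, hc, Std.twistHom_act, e, twist_eq]

/-- The linear part of the trace of the fused kernel. -/
def Rb : Subgroup ((centralizer ({z} : Set G)) ⧸ Q) :=
  EE ⊓ centralizer ({D.T.x} : Set ((centralizer ({z} : Set G)) ⧸ Q))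

theorem Rb_le_stab {e : (centralizer ({z} : Set G)) ⧸ Q} (he : e ∈ P.Rb) : e ∈ D.T.stab P.v :=
  D.EE_le_stab P.hg P.ne_one P.ne_z he.1

theorem good_Rb {e : (centralizer ({z} : Set G)) ⧸ Q} (he : e ∈ P.Rb) : Good P.small (P.rv e) :=
  P.good (mem_centralizer_singleton_iff.1 he.2) (P.Rb_le_stab he)

theorem moves {e : (centralizer ({z} : Set G)) ⧸ Q} (he : e ∈ P.Rb) : Moves P.lag (P.rv e) := by
  intro d hd
  obtain ⟨c, hc, hce⟩ := he.1
  obtain ⟨q, hq⟩ := D.π_surj (mv P.v d)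
  have hqs : Dat.val q * Dat.val P.s = Dat.val P.s * Dat.val q := by
    refine congrArg Dat.val ((D.comm_iff q P.s).2 ?_)
    rw [hq, qn_mv P.full, P.qv, add_zero]
    conv_lhs => rw [show mv P.v d + D.π P.s = mv P.v (d + (1 : F4) • one6) by
      rw [mv_add, one_smul, mv_one]]
    rw [qn_mv P.full, add_comm, (sum_qn d hd 1).1]
  refine ⟨MulAut.conjNormal c q * q⁻¹, ?_, ?_⟩
  · show (c : G) * Dat.val q * (c : G)⁻¹ * (Dat.val q)⁻¹ ∈ QS
    rw [show (c : G) * Dat.val q * (c : G)⁻¹ * (Dat.val q)⁻¹ =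
      (c : G) * (Dat.val q * (c : G)⁻¹ * (Dat.val q)⁻¹) by group]
    exact mul_mem (Subgroup.mem_inf.1 hc).1
      ((D.pre' P.hg).conj_mem hqs (inv_mem (Subgroup.mem_inf.1 hc).1))
  · have hqi : D.π q⁻¹ = D.π q := by
      have h := D.π_mul q⁻¹ q
      rw [inv_mul_cancel, (D.π_eq_zero 1).2 (Or.inl rfl)] at h
      rw [eq_neg_of_add_eq_zero_left h.symm, neg_eq_of_add_eq_zero_left (v6_same _)]
    rw [D.π_mul, D.act, hqi, hq, mv_add, mv_rv]
    exact congrArg (fun y => D.T.r y (mv P.v d) + mv P.v d) hce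

/-- The displacement of an element. -/
def dis (e : (centralizer ({z} : Set G)) ⧸ Q) (i : Fin 5) : F4 := mu (P.rv e) i

theorem dis_mul {e e' : (centralizer ({z} : Set G)) ⧸ Q} (he : e ∈ P.Rb) (he' : e' ∈ P.Rb) (i : Fin 5) :
    P.dis (e * e') i = P.dis e i + P.dis e' i := by
  rw [dis, show P.rv (e * e') = fun a => P.rv e (P.rv e' a) from funext (P.rv_mul e e'),
    mu_comp P.lag_lag (P.good_Rb he) (P.moves he) (P.good_Rb he') (P.moves he')]
  rfl

theorem dis_one (i : Fin 5) : P.dis 1 i = 0 := by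
  show (P.rv 1 (pv i) + pv i) 0 = 0
  rw [rv_one, v6_same]; rfl

theorem eq_one_of_dis {e : (centralizer ({z} : Set G)) ⧸ Q} (he : e ∈ P.Rb)
    (h : ∀ i : Fin 4, P.dis e i.castSucc = 0) : e = 1 := by
  refine D.T.inj (LinearEquiv.ext fun a => ?_)
  have h1 := ext_of_mu P.orbit P.lag_lag (P.good_Rb he) (P.moves he) h (mv P.v (mv P.v a))
  rw [rv, mv_inv P.full] at h1
  have h2 := congrArg (mv P.v) h1
  rw [mv_inv P.full, mv_inv P.full] at h2
  rw [h2, map_one]
  rfl

theorem dis_line (i : Fin 5) : ∃ m : F4, m ≠ 0 ∧ m ≠ 1 ∧ ∀ e ∈ P.Rb, P.dis e i = 0 ∨ P.dis e i = m := by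
  by_cases h : ∃ e ∈ P.Rb, P.dis e i ≠ 0
  · obtain ⟨e, he, h0⟩ := h
    have h1 : ∀ y ∈ P.Rb, P.dis y i ≠ 1 := fun y hy =>
      mu_ne_one P.orbit P.lag_lag (P.good_Rb hy) (P.moves hy) i
    refine ⟨_, h0, h1 e he, fun y hy => ?_⟩
    by_contra hc
    rw [not_or] at hc
    exact h1 _ (mul_mem hy he) (by rw [P.dis_mul hy he]; exact f4_line _ _ hc.1 (h1 y hy) h0 (h1 e he) hc.2)
  · push Not at h
    exact ⟨om, by decide +kernel, by decide +kernel, fun e he => Or.inl (h e he)⟩

theorem card_Rb_le : Nat.card P.Rb ≤ 16 := by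
  classical
  let f : P.Rb → (Fin 4 → Bool) := fun e i => decide (P.dis e.1 i.castSucc = 0)
  have hf : Function.Injective f := by
    rintro ⟨e, he⟩ ⟨e', he'⟩ hee
    refine Subtype.ext (inv_mul_eq_one.1 (P.eq_one_of_dis (mul_mem (inv_mem he) he') fun i => ?_))
    have hi := P.dis_mul (inv_mem he) he i.castSucc
    rw [inv_mul_cancel, P.dis_one] at hi
    rw [P.dis_mul (inv_mem he) he', eq_neg_of_add_eq_zero_left hi.symm,
      neg_eq_of_add_eq_zero_left (f4_same _)]
    obtain ⟨m, -, -, hm⟩ := P.dis_line i.castSucc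
    have h := congrFun hee i
    simp only [f, decide_eq_decide] at h
    rcases hm e he with e1 | e1
    · rw [e1, h.1 e1, add_zero]
    · rcases hm e' he' with e2 | e2
      · rw [e2, h.2 e2, add_zero]
      · rw [e1, e2, f4_same]
  refine (Nat.card_le_card_of_injective f hf).trans ?_
  norm_num [Nat.card_eq_fintype_card]

include P in
/-- Some element of the quotient does not centralise the scalar. -/
theorem exists_not_comm : ∃ c, c * D.T.x * c⁻¹ ≠ D.T.x := by
  by_contra h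
  push Not at h
  have hle : EE ≤ P.Rb := le_inf le_rfl fun e _ =>
    mem_centralizer_singleton_iff.2 (mul_inv_eq_iff_eq_mul.1 (h e))
  have := Subgroup.card_le_of_le hle
  rw [P.card_EE] at this
  have := P.card_Rb_le
  omega

theorem exists_dis : ∃ e ∈ P.Rb, ∃ i, P.dis e i ≠ 0 := by
  classical
  by_contra h
  push Not at h
  have h1 : ∀ e ∈ P.Rb, e = 1 := fun e he => P.eq_one_of_dis he fun i => h e he _
  -- the semisimilar elements of the trace form at most one further coset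
  let f : EE → Bool := fun e => decide (e.1 * D.T.x * e.1⁻¹ = D.T.x)
  have hf : Function.Injective f := by
    rintro ⟨a, ha⟩ ⟨b, hb⟩ hab
    simp only [f, decide_eq_decide] at hab
    refine Subtype.ext (inv_mul_eq_one.1 (h1 _ (Subgroup.mem_inf.2 ⟨mul_mem (inv_mem ha) hb,
      mem_centralizer_singleton_iff.2 (mul_inv_eq_iff_eq_mul.1 ?_)⟩)))
    have key : b * D.T.x * b⁻¹ = a * D.T.x * a⁻¹ := by
      by_cases ha' : a * D.T.x * a⁻¹ = D.T.x
      · rw [ha', hab.1 ha']
      · rw [(D.T.semi a).resolve_left ha', (D.T.semi b).resolve_left (fun e => ha' (hab.2 e))]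
    rw [show a⁻¹ * b * D.T.x * (a⁻¹ * b)⁻¹ = a⁻¹ * (b * D.T.x * b⁻¹) * a by group, key]
    group
  have := Nat.card_le_card_of_injective f hf
  rw [P.card_EE, Nat.card_eq_fintype_card, Fintype.card_bool] at this
  omega

/-- The line of the fused involution lies in the fused kernel. -/
theorem line_mem {a : Q} {l : F4} (h : D.π a = l • P.v) : Dat.val a ∈ QS := by
  obtain ⟨e, he, i, hi⟩ := P.exists_dis
  have hg := P.good_Rb he
  have hm := P.moves he ((l * (P.dis e i * P.dis e i)) • pv i)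
    (by rw [Pi.smul_def]; simp only [smul_eq_mul, ← Finset.mul_sum, sum_pv, mul_zero])
  rw [hg.smul, ← smul_add, displacement P.lag_lag hg (P.moves he) (sum_pv i), smul_smul,
    show (P.rv e (pv i) + pv i) 0 = P.dis e i from rfl, mul_assoc, f4_cube _ hi, mul_one] at hm
  obtain ⟨b, hb, e1⟩ := hm
  rw [mv_smul, mv_one] at e1
  rcases D.eq_of_π (e1.trans h.symm) with e2 | e2 <;> rw [e2]
  · exact hb
  · exact mul_mem hb (D.z_mem P.hg)

/-- A 2-subgroup of the stabiliser normalised by the twisted permutations lies in the trace. -/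
theorem le_EE {N : Subgroup ((centralizer ({z} : Set G)) ⧸ Q)} (hN : N ≤ D.T.stab P.v)
    (h2 : IsPGroup 2 N)
    (hn : ∀ (τ : A6) (n), n ∈ N → D.T.twistHom P.v τ * n * (D.T.twistHom P.v τ)⁻¹ ∈ N) : N ≤ EE := by
  obtain ⟨-, -, -, hK, ⟨iso⟩⟩ := D.pair_main P.hg P.ne_one P.ne_z
  set S := D.T.stab P.v
  set K := (EE).subgroupOf S
  let ψ : A6 →* ↥S := (D.T.twistHom P.v).codRestrict S fun τ => D.T.twistHom_fix P.full τ
  have hψ : Function.Injective ψ := fun a b e => D.T.twistHom_injective P.v (congrArg Subtype.val e)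
  let φ := (QuotientGroup.mk' K).comp ψ
  haveI : IsSimpleGroup A6 := alternatingGroup.isSimpleGroup (by simp)
  have hφi : Function.Injective φ := by
    rw [← MonoidHom.ker_eq_bot_iff]
    refine (IsSimpleGroup.eq_bot_or_eq_top_of_normal _ inferInstance).resolve_right fun h => ?_
    have hin : ∀ τ, ψ τ ∈ K := fun τ =>
      (QuotientGroup.eq_one_iff _).1 (MonoidHom.mem_ker.1 (h ▸ mem_top τ : τ ∈ φ.ker))
    refine Dat.alt_nonabelian (hψ ?_)
    rw [map_mul, map_mul]
    refine Subtype.ext ?_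
    have e := congrArg Subtype.val ((D.EE_elementary P.hg).1.1.1 ⟨(ψ g3).1, hin g3⟩ ⟨(ψ g5).1, hin g5⟩)
    exact e
  have hφ : Function.Bijective φ := (Nat.bijective_iff_injective_and_card φ).2
    ⟨hφi, (Nat.card_congr iso.toEquiv).symm⟩
  let e := MulEquiv.ofBijective φ hφ
  let N' := ((N.subgroupOf S).map (QuotientGroup.mk' K)).map e.symm.toMonoidHom
  have h2' : IsPGroup 2 N' := ((h2.of_equiv (subgroupOfEquivOfLe hN).symm).map _).map _
  have hN'n : N'.Normal := by
    refine ⟨fun y hy τ => ?_⟩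
    obtain ⟨_, ⟨w, hw, rfl⟩, rfl⟩ := hy
    refine ⟨φ τ * QuotientGroup.mk' K w * (φ τ)⁻¹, ⟨ψ τ * w * (ψ τ)⁻¹, hn τ _ hw, by simp [φ]⟩, ?_⟩
    have hτ : e.symm (φ τ) = τ := e.symm_apply_apply τ
    show e.symm _ = τ * e.symm _ * τ⁻¹
    rw [map_mul, map_mul, map_inv, hτ]
  rcases IsSimpleGroup.eq_bot_or_eq_top_of_normal N' hN'n with h | h
  · intro n hnN
    have h1 : e.symm (QuotientGroup.mk' K ⟨n, hN hnN⟩) = 1 := (Subgroup.eq_bot_iff_forall _).1 h _
      (mem_map_of_mem _ (mem_map_of_mem _ (show (⟨n, hN hnN⟩ : S) ∈ N.subgroupOf S from hnN)))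
    rw [MulEquiv.map_eq_one_iff] at h1
    have h3 : (⟨n, hN hnN⟩ : S) ∈ K := (QuotientGroup.eq_one_iff _).1 h1
    exact h3
  · exfalso
    haveI : Fact (Nat.Prime 2) := ⟨Nat.prime_two⟩
    obtain ⟨n, hn2⟩ := IsPGroup.iff_card.1 h2'
    rw [h, Subgroup.card_top, card_A6] at hn2
    have h5 : 5 ∣ 2 ^ n := hn2 ▸ (by norm_num)
    exact absurd (Nat.Prime.dvd_of_dvd_pow (by norm_num) h5) (by norm_num)

end Fused

end CfsgLib.FiLarge.CentX
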