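import Cfsg.Agent.FiLarge.CentX

/-!
The central involution is a product of commutators in the centraliser of the element of order
three: otherwise an invariant of the four-group spanned by the fused involutions would be moved
by fusion onto a four-group containing the central involution, where it fails.
-/

set_option autoImplicit false
set_option maxRecDepth 100000
set_option quotPrecheck false
set_option linter.style.haveILetI false
set_option linter.unusedSectionVars false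

namespace CfsgLib.FiLarge.CentX

open CfsgLib Subgroup
open scoped commutatorElement

/-- The product of the three conjugates under an element. -/
def orbProd {G : Type*} [Group G] (x w : G) : G := w * (x * w * x⁻¹) * (x * (x * w * x⁻¹) * x⁻¹)

theorem sum_zero_of : ∀ d : V6, qn (one6 + d) = qn d → qn (om • one6 + d) = qn d → ∑ i, d i = 0 :=
  forall_v6 (by decide +kernel)

set_option synthInstance.maxSize 2000 in
theorem f4_third : ∀ a b c : F4, a ≠ 0 → b ≠ 0 → a ≠ b → c ≠ 0 → c = a ∨ c = b ∨ c = a + b := by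
  decide +kernel

variable {G : Type*} [Group G] [Finite G] {z : G} {Q : Subgroup (centralizer ({z} : Set G))} [Q.Normal]

namespace Fused

variable {D : Dat z Q} (P : Fused D)

local notation "QG" => Q.map (centralizer ({z} : Set G)).subtype
local notation "QS" => (Q.map (centralizer ({z} : Set G)).subtype).map (MulAut.conj P.g).toMonoidHom
local notation "EE" => (((Q.map (centralizer ({z} : Set G)).subtype).map (MulAut.conj P.g).toMonoidHom ⊓
  centralizer ({z} : Set G)).subgroupOf (centralizer ({z} : Set G))).map (QuotientGroup.mk' Q)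

theorem π_one (D : Dat z Q) : D.π 1 = 0 := (D.π_eq_zero 1).2 (Or.inl rfl)

theorem π_inv (D : Dat z Q) (a : Q) : D.π a⁻¹ = D.π a := by
  have h := D.π_mul a⁻¹ a
  rw [inv_mul_cancel, π_one] at h
  rw [eq_neg_of_add_eq_zero_left h.symm, neg_eq_of_add_eq_zero_left (v6_same _)]

/-- The subgroup of the kernel over the line of the conjugate. -/
def W : Subgroup G where
  carrier := {w | ∃ a : Q, Dat.val a = w ∧ ∃ l : F4, D.π a = l • P.v}
  one_mem' := ⟨1, rfl, 0, by rw [π_one, zero_smul]⟩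
  mul_mem' := by
    rintro _ _ ⟨a, rfl, l, ha⟩ ⟨b, rfl, l', hb⟩
    exact ⟨a * b, rfl, l + l', by rw [D.π_mul, ha, hb, add_smul]⟩
  inv_mem' := by
    rintro _ ⟨a, rfl, l, ha⟩
    exact ⟨a⁻¹, rfl, l, by rw [π_inv, ha]⟩

/-- The four-group over one point of the line, containing the central involution. -/
def Pl (m : F4) : Subgroup G where
  carrier := {w | ∃ a : Q, Dat.val a = w ∧ (D.π a = 0 ∨ D.π a = m • P.v)}
  one_mem' := ⟨1, rfl, Or.inl (π_one D)⟩
  mul_mem' := by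
    rintro _ _ ⟨a, rfl, ha⟩ ⟨b, rfl, hb⟩
    refine ⟨a * b, rfl, ?_⟩
    rw [D.π_mul]
    rcases ha with ha | ha <;> rcases hb with hb | hb <;> rw [ha, hb]
    · exact Or.inl (add_zero _)
    · exact Or.inr (zero_add _)
    · exact Or.inr (add_zero _)
    · exact Or.inl (v6_same _)
  inv_mem' := by
    rintro _ ⟨a, rfl, ha⟩
    exact ⟨a⁻¹, rfl, by rwa [π_inv]⟩

theorem val_inj {a b : Q} (h : Dat.val a = Dat.val b) : a = b := Subtype.ext (Subtype.ext h)

theorem line_of {a : Q} (h : Dat.val a ∈ P.W) : ∃ l : F4, D.π a = l • P.v := by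
  obtain ⟨b, hb, hl⟩ := h
  rwa [← val_inj hb]

theorem Pl_le (m : F4) : P.Pl m ≤ P.W := by
  rintro _ ⟨a, rfl, ha | ha⟩
  · exact ⟨a, rfl, 0, by rw [ha, zero_smul]⟩
  · exact ⟨a, rfl, m, ha⟩

theorem W_comm {w w' : G} (hw : w ∈ P.W) (hw' : w' ∈ P.W) : Commute w w' := by
  obtain ⟨a, rfl, l, ha⟩ := hw
  obtain ⟨b, rfl, l', hb⟩ := hw'
  have h : ∀ c : F4, qn (c • P.v) = 0 := fun c => by
    rw [← mv_one P.v, ← mv_smul, qn_mv P.full, (sum_qn 0 (by simp) c).2]
  exact congrArg Dat.val ((D.comm_iff a b).2 (by rw [ha, hb, ← add_smul, h, h, h, add_zero]))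

theorem z_mem_W : z ∈ P.W :=
  ⟨⟨Scal.zC, Scal.zC_mem_Q D⟩, rfl, 0, by rw [(D.π_eq_zero _).2 (Or.inr rfl), zero_smul]⟩

theorem s_mem_W : Dat.val P.s ∈ P.W := ⟨P.s, rfl, 1, (one_smul F4 P.v).symm⟩

theorem W_le_QS {w : G} (hw : w ∈ P.W) : w ∈ QS := by
  obtain ⟨a, rfl, l, ha⟩ := hw
  exact P.line_mem ha

/-- The centraliser of the subgroup. -/
abbrev K : Subgroup G := centralizer (P.W : Set G)

theorem K_comm {k w : G} (hk : k ∈ P.K) (hw : w ∈ P.W) : Commute w k := mem_centralizer_iff.1 hk w hw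

theorem K_le : P.K ≤ centralizer ({z} : Set G) := fun _ hk =>
  mem_centralizer_singleton_iff.2 (P.K_comm hk P.z_mem_W).eq.symm

theorem W_le_K : P.W ≤ P.K := fun _ hw => mem_centralizer_iff.2 fun _ hw' => (P.W_comm hw' hw).eq

/-- An element of the centraliser as an element of the centraliser of the involution. -/
def toC {k : G} (hk : k ∈ P.K) : centralizer ({z} : Set G) := ⟨k, P.K_le hk⟩

theorem K_fix {c : centralizer ({z} : Set G)} (hc : (c : G) ∈ P.K) (l : F4) :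
    D.T.r (QuotientGroup.mk' Q c) (l • P.v) = l • P.v := by
  obtain ⟨a, ha⟩ := D.π_surj (l • P.v)
  rw [← ha]
  refine D.π_conj_eq ?_
  exact mul_inv_eq_iff_eq_mul.2 (P.K_comm hc ⟨a, rfl, l, ha⟩).eq.symm

theorem K_stab {c : centralizer ({z} : Set G)} (hc : (c : G) ∈ P.K) :
    QuotientGroup.mk' Q c ∈ D.T.stab P.v := by
  have h := P.K_fix hc 1
  rwa [one_smul] at h

theorem K_scalar {c : centralizer ({z} : Set G)} (hc : (c : G) ∈ P.K) :
    QuotientGroup.mk' Q c * D.T.x = D.T.x * QuotientGroup.mk' Q c := by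
  set e := QuotientGroup.mk' Q c
  rcases D.T.semi e with h | h
  · exact mul_inv_eq_iff_eq_mul.1 h
  · exfalso
    have h1 := P.K_fix hc om
    have h2 := P.K_stab hc
    rw [← D.T.x_act, ← Std.r_mul, mul_inv_eq_iff_eq_mul.1 h, Std.r_mul, show D.T.r e P.v = P.v from h2,
      D.T.x_act] at h1
    have h3 := congrArg (D.T.r D.T.x) h1
    rw [← Std.r_mul, mul_inv_cancel, Std.r_one, D.T.x_act, smul_smul] at h3
    have h4 : P.v 0 = om * om * P.v 0 := congrFun h3 0
    exact P.full 0 ((by decide +kernel : ∀ t : F4, t = om * om * t → t = 0) _ h4)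

/-- The normal 2-subgroup of the centraliser. -/
def R : Subgroup G := P.K ⊓ ((EE).comap (QuotientGroup.mk' Q)).map (centralizer ({z} : Set G)).subtype

theorem mem_R {r : G} : r ∈ P.R ↔ r ∈ P.K ∧ ∃ c : centralizer ({z} : Set G), (c : G) = r ∧
    QuotientGroup.mk' Q c ∈ EE := by
  rw [R, Subgroup.mem_inf, Subgroup.mem_map]
  exact and_congr_right fun _ => exists_congr fun c => ⟨fun ⟨a, b⟩ => ⟨b, a⟩, fun ⟨a, b⟩ => ⟨b, a⟩⟩

theorem R_Rb {r : G} (hr : r ∈ P.R) {c : centralizer ({z} : Set G)} (hc : (c : G) = r) :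
    QuotientGroup.mk' Q c ∈ P.Rb := by
  obtain ⟨hk, c', hc', he⟩ := P.mem_R.1 hr
  rw [show c' = c from Subtype.ext (hc'.trans hc.symm)] at he
  exact Subgroup.mem_inf.2 ⟨he, mem_centralizer_singleton_iff.2 (P.K_scalar (hc ▸ hk))⟩

theorem R_conj {k r : G} (hk : k ∈ P.K) (hr : r ∈ P.R) : k * r * k⁻¹ ∈ P.R := by
  obtain ⟨hrK, c, rfl, he⟩ := P.mem_R.1 hr
  refine P.mem_R.2 ⟨mul_mem (mul_mem hk hrK) (inv_mem hk), P.toC hk * c * (P.toC hk)⁻¹, rfl, ?_⟩
  rw [map_mul, map_mul, map_inv]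
  exact D.EE_normalised P.hg P.ne_one P.ne_z (P.K_stab (c := P.toC hk) hk) he

theorem R_pGroup : IsPGroup 2 P.R := by
  rintro ⟨r, hr⟩
  obtain ⟨-, c, rfl, he⟩ := P.mem_R.1 hr
  refine ⟨14, Subtype.ext ?_⟩
  have hc : c * c ∈ Q := by
    refine (QuotientGroup.eq_one_iff _).1 ?_
    show QuotientGroup.mk' Q (c * c) = 1
    rw [map_mul, ← pow_two]
    exact (D.EE_elementary P.hg).2 _ he
  have h := pow_card_eq_one' (x := (⟨_, hc⟩ : Q))
  rw [D.cardQ] at h
  have h' : (c : G) * c * 1 = (c : G) * c := mul_one _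
  show (c : G) ^ 2 ^ 14 = 1
  rw [show 2 ^ 14 = 2 * 2 ^ 13 by norm_num, pow_mul, pow_two]
  exact congrArg Dat.val h

/-- The elements of the normal 2-subgroup with all commutators in a subgroup. -/
def Dp (U : Subgroup G) : Set G := {d | d ∈ P.R ∧ ∀ r ∈ P.R, ⁅d, r⁆ ∈ U}

/-- The commutators with the centraliser. -/
def Com (U : Subgroup G) : Subgroup G := closure {y | ∃ d ∈ P.Dp U, ∃ k ∈ P.K, ⁅d, k⁆ = y}

/-- The invariant. -/
def Inv (U : Subgroup G) : Prop := ∀ y ∈ P.Com U, y ∈ P.W → y ∈ U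

theorem Com_conj {U : Subgroup G} (hU : U ≤ P.W) {k y : G} (hk : k ∈ P.K) (hy : y ∈ P.Com U) :
    k * y * k⁻¹ ∈ P.Com U := by
  have h : P.Com U ≤ (P.Com U).comap (MulAut.conj k).toMonoidHom := by
    rw [Com, closure_le]
    rintro _ ⟨d, hd, k', hk', rfl⟩
    refine subset_closure ⟨k * d * k⁻¹, ⟨P.R_conj hk hd.1, fun r hr => ?_⟩, k * k' * k⁻¹,
      mul_mem (mul_mem hk hk') (inv_mem hk), ?_⟩
    · have h1 := hd.2 _ (P.R_conj (inv_mem hk) hr)
      rw [inv_inv] at h1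
      have h2 : k * ⁅d, k⁻¹ * r * k⁆ * k⁻¹ = ⁅d, k⁻¹ * r * k⁆ :=
        mul_inv_eq_iff_eq_mul.2 (P.K_comm hk (hU h1)).eq.symm
      rw [show ⁅k * d * k⁻¹, r⁆ = k * ⁅d, k⁻¹ * r * k⁆ * k⁻¹ by simp only [commutatorElement_def]; group, h2]
      exact h1
    · simp only [commutatorElement_def, MulEquiv.coe_toMonoidHom, MulAut.conj_apply]
      group
  exact h hy

/-- An element normalising the subgroup. -/
def Norms (h : G) : Prop := ∀ w, w ∈ P.W ↔ h * w * h⁻¹ ∈ P.W

theorem norms_of {h : G} (hh : ∀ w ∈ P.W, h * w * h⁻¹ ∈ P.W) : P.Norms h := by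
  intro w
  refine ⟨hh w, fun hw => ?_⟩
  let f : P.W → P.W := fun u => ⟨h * u * h⁻¹, hh _ u.2⟩
  have hf : Function.Injective f := fun a b e =>
    Subtype.ext (mul_left_cancel (mul_right_cancel
      (congrArg Subtype.val e : h * (a : G) * h⁻¹ = h * b * h⁻¹)))
  obtain ⟨u, hu⟩ := Finite.injective_iff_surjective.1 hf ⟨_, hw⟩
  have e : h * (u : G) * h⁻¹ = h * w * h⁻¹ := congrArg Subtype.val hu
  rw [mul_left_inj, mul_right_inj] at e
  exact e ▸ u.2

theorem Norms.inv {h : G} (hh : P.Norms h) : P.Norms h⁻¹ := by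
  intro w
  rw [hh (h⁻¹ * w * h⁻¹⁻¹), show h * (h⁻¹ * w * h⁻¹⁻¹) * h⁻¹ = w by group]

theorem K_norm {h k : G} (hh : P.Norms h) (hk : k ∈ P.K) : h * k * h⁻¹ ∈ P.K := by
  refine mem_centralizer_iff.2 fun w hw => ?_
  have h1 := ((Norms.inv P hh) w).1 hw
  rw [inv_inv] at h1
  calc w * (h * k * h⁻¹) = h * (h⁻¹ * w * h * k) * h⁻¹ := by group
    _ = h * (k * (h⁻¹ * w * h)) * h⁻¹ := by rw [(P.K_comm hk h1).eq]
    _ = h * k * h⁻¹ * w := by group

theorem exists_twistLift (S : Scal D) {c : (centralizer ({z} : Set G)) ⧸ Q}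
    (hc : c * D.T.x = D.T.x * c) : ∃ h ∈ S.H, QuotientGroup.mk' Q h = c :=
  S.exists_mem hc

end Fused

namespace Fused

variable {D : Dat z Q} (P : Fused D) (S : Scal D)

local notation "EE" => (((Q.map (centralizer ({z} : Set G)).subtype).map (MulAut.conj P.g).toMonoidHom ⊓
  centralizer ({z} : Set G)).subgroupOf (centralizer ({z} : Set G))).map (QuotientGroup.mk' Q)
local notation "CC" => centralizer ({z} : Set G)
local notation "x" => (S.x0 : G)

theorem norms_x : P.Norms x := by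
  refine P.norms_of ?_
  rintro _ ⟨a, rfl, l, ha⟩
  exact ⟨MulAut.conjNormal S.x0 a, rfl, om * l, by rw [S.act, ha, smul_smul]⟩

theorem orb_cases {w : G} (hw : w ∈ P.W) : orbProd x w = 1 ∨ orbProd x w = z := by
  obtain ⟨a, rfl, l, ha⟩ := hw
  refine (D.π_eq_zero (a * MulAut.conjNormal S.x0 a *
    MulAut.conjNormal S.x0 (MulAut.conjNormal S.x0 a))).1 ?_
  rw [D.π_mul, D.π_mul, S.act (MulAut.conjNormal S.x0 a), S.act a, ha, smul_smul, smul_smul, ← add_smul,
    ← add_smul, ← mul_assoc]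
  rw [show l + om * l + om * om * l = (1 + om + om * om) * l by ring,
    show (1 : F4) + om + om * om = 0 by decide +kernel, zero_mul, zero_smul]

theorem orb_mul {w w' : G} (hw : w ∈ P.W) (hw' : w' ∈ P.W) :
    orbProd x (w * w') = orbProd x w * orbProd x w' := by
  have hn := (P.norms_x S)
  have h1 := (hn w).1 hw
  have h2 := (hn _).1 h1
  have h1' := (hn w').1 hw'
  calc orbProd x (w * w')
      = w * (w' * (x * w * x⁻¹)) * ((x * w' * x⁻¹) * (x * (x * w * x⁻¹) * x⁻¹)) *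
          (x * (x * w' * x⁻¹) * x⁻¹) := by simp only [orbProd]; group
    _ = w * ((x * w * x⁻¹) * w') * ((x * (x * w * x⁻¹) * x⁻¹) * (x * w' * x⁻¹)) *
          (x * (x * w' * x⁻¹) * x⁻¹) := by rw [(P.W_comm hw' h1).eq, (P.W_comm h1' h2).eq]
    _ = w * (x * w * x⁻¹) * (w' * (x * (x * w * x⁻¹) * x⁻¹)) * (x * w' * x⁻¹) *
          (x * (x * w' * x⁻¹) * x⁻¹) := by group
    _ = w * (x * w * x⁻¹) * ((x * (x * w * x⁻¹) * x⁻¹) * w') * (x * w' * x⁻¹) *
          (x * (x * w' * x⁻¹) * x⁻¹) := by rw [(P.W_comm hw' h2).eq]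
    _ = orbProd x w * orbProd x w' := by simp only [orbProd]; group

theorem orb_z : orbProd x z = z := by
  have h : x * z * x⁻¹ = z := mul_inv_eq_iff_eq_mul.2 (mem_centralizer_singleton_iff.1 S.x0.2)
  simp only [orbProd, h]
  rw [D.pre.gen.sq, one_mul]

/-- The complement to the central involution normalised by the element of order three. -/
def P0 : Subgroup G where
  carrier := {w | w ∈ P.W ∧ orbProd x w = 1}
  one_mem' := ⟨one_mem _, by simp [orbProd]⟩
  mul_mem' := by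
    rintro a b ⟨ha, ha'⟩ ⟨hb, hb'⟩
    exact ⟨mul_mem ha hb, by rw [P.orb_mul S ha hb, ha', hb', one_mul]⟩
  inv_mem' := by
    rintro a ⟨ha, ha'⟩
    refine ⟨inv_mem ha, ?_⟩
    have h := P.orb_mul S ha (inv_mem ha)
    rw [mul_inv_cancel, ha', one_mul] at h
    rw [← h]; simp [orbProd]

theorem P0_z : z ∉ P.P0 S := fun h => D.pre.gen.ne_one ((orb_z S).symm.trans h.2)

theorem P0_or {w : G} (hw : w ∈ P.W) : w ∈ P.P0 S ∨ w * z ∈ P.P0 S := by
  rcases P.orb_cases S hw with e | e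
  · exact Or.inl ⟨hw, e⟩
  · exact Or.inr ⟨mul_mem hw P.z_mem_W, by rw [P.orb_mul S hw P.z_mem_W, e, orb_z, D.pre.gen.sq]⟩

/-- An element of the centraliser of the element of order three stabilising the vector. -/
theorem H_mem_K {h : centralizer ({z} : Set G)} (hh : h ∈ S.H)
    (hv : QuotientGroup.mk' Q h ∈ D.T.stab P.v) : (h : G) ∈ P.K := by
  have hz : (h : G) * z * (h : G)⁻¹ = z :=
    mul_inv_eq_iff_eq_mul.2 (mem_centralizer_singleton_iff.1 h.2)
  have key : ∀ p ∈ P.P0 S, (h : G) * p * (h : G)⁻¹ = p := by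
    rintro p ⟨⟨a, rfl, l, ha⟩, hp⟩
    have h1 : D.π (MulAut.conjNormal h a) = D.π a := by
      rw [D.act, ha]
      show D.T.r (QuotientGroup.mk' Q h) _ = _
      rw [linear (D := D) (S.mk_comm hh), show D.T.r (QuotientGroup.mk' Q h) P.v = P.v from hv]
    have hc : (h : G) * x = x * h := congrArg Subtype.val (mem_centralizer_singleton_iff.1 hh)
    have h2 : orbProd x ((h : G) * Dat.val a * (h : G)⁻¹) = 1 := by
      have hc' : ∀ u, x * ((h : G) * u * (h : G)⁻¹) * x⁻¹ = (h : G) * (x * u * x⁻¹) * (h : G)⁻¹ :=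
        fun u => by
          calc x * ((h : G) * u * (h : G)⁻¹) * x⁻¹ = x * h * u * (x * h)⁻¹ := by group
            _ = (h : G) * x * u * ((h : G) * x)⁻¹ := by rw [hc]
            _ = _ := by group
      calc orbProd x ((h : G) * Dat.val a * (h : G)⁻¹) = (h : G) * orbProd x (Dat.val a) * (h : G)⁻¹ := by
            simp only [orbProd, hc']; group
        _ = 1 := by rw [hp]; group
    rcases D.eq_of_π h1.symm with e | e
    · exact e
    · exfalso
      refine P.P0_z S ?_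
      have hm : Dat.val a * z ∈ P.P0 S := by
        have e' : (h : G) * Dat.val a * (h : G)⁻¹ = Dat.val a * z := e
        exact ⟨mul_mem ⟨a, rfl, l, ha⟩ P.z_mem_W, e' ▸ h2⟩
      have := mul_mem (inv_mem (show Dat.val a ∈ P.P0 S from ⟨⟨a, rfl, l, ha⟩, hp⟩)) hm
      rwa [inv_mul_cancel_left] at this
  refine mem_centralizer_iff.2 fun w hw => (mul_inv_eq_iff_eq_mul.1 ?_).symm
  rcases P.P0_or S hw with e | e
  · exact key w e
  · have h1 := key _ e
    rw [show (h : G) * (w * z) * (h : G)⁻¹ = (h : G) * w * (h : G)⁻¹ * ((h : G) * z * (h : G)⁻¹) by group,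
      hz, mul_left_inj] at h1
    exact h1

include S in
theorem twist_lift (τ : A6) : ∃ h : centralizer ({z} : Set G),
    (h : G) ∈ P.K ∧ QuotientGroup.mk' Q h = D.T.twistHom P.v τ := by
  obtain ⟨h, hh, he⟩ := S.exists_mem (D.T.central _ (D.T.twistHom_mem P.v τ))
  exact ⟨h, P.H_mem_K S hh (he ▸ D.T.twistHom_fix P.full τ), he⟩

include S in
theorem R_norm {h r : G} (hh : P.Norms h) (hr : r ∈ P.R) : h * r * h⁻¹ ∈ P.R := by
  set R' := P.R.map (MulAut.conj h).toMonoidHom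
  have hle : R' ≤ P.K := by
    rintro _ ⟨a, ha, rfl⟩
    exact P.K_norm hh (P.mem_R.1 ha).1
  have hnorm : ∀ k ∈ P.K, ∀ y ∈ R', k * y * k⁻¹ ∈ R' := by
    rintro k hk _ ⟨a, ha, rfl⟩
    have hk' := P.K_norm (Norms.inv P hh) hk
    rw [inv_inv] at hk'
    exact ⟨_, P.R_conj hk' ha, by simp only [MulEquiv.coe_toMonoidHom, MulAut.conj_apply]; group⟩
  let N := (R'.subgroupOf CC).map (QuotientGroup.mk' Q)
  have hN : N ≤ EE := by
    refine P.le_EE ?_ ?_ ?_
    · rintro _ ⟨c, hc, rfl⟩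
      exact P.K_stab (hle hc)
    · exact (((P.R_pGroup.map _).of_equiv
        (subgroupOfEquivOfLe (hle.trans P.K_le)).symm).map _)
    · rintro τ _ ⟨c, hc, rfl⟩
      obtain ⟨k, hk, e⟩ := P.twist_lift S τ
      exact ⟨k * c * k⁻¹, hnorm _ hk _ hc, by rw [map_mul, map_mul, map_inv, e]⟩
  have hm : h * r * h⁻¹ ∈ R' := ⟨r, hr, rfl⟩
  exact P.mem_R.2 ⟨hle hm, ⟨_, P.K_le (hle hm)⟩, rfl, hN (mem_map_of_mem _ hm)⟩

include S in
theorem Inv_map {U : Subgroup G} {h : G} (hh : P.Norms h) (hU : P.Inv U) :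
    P.Inv (U.map (MulAut.conj h).toMonoidHom) := by
  intro y hy hyW
  have hi := Norms.inv P hh
  have hle : P.Com (U.map (MulAut.conj h).toMonoidHom) ≤ (P.Com U).map (MulAut.conj h).toMonoidHom := by
    rw [Com, closure_le]
    rintro _ ⟨d, hd, k, hk, rfl⟩
    refine ⟨⁅h⁻¹ * d * h, h⁻¹ * k * h⁆, subset_closure ⟨_, ⟨?_, fun r hr => ?_⟩, _, ?_, rfl⟩, ?_⟩
    · simpa using P.R_norm S hi hd.1
    · obtain ⟨u, hu, e⟩ := hd.2 _ (P.R_norm S hh hr)
      have e' : h * u * h⁻¹ = ⁅d, h * r * h⁻¹⁆ := e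
      have : ⁅h⁻¹ * d * h, r⁆ = u := by
        calc ⁅h⁻¹ * d * h, r⁆ = h⁻¹ * ⁅d, h * r * h⁻¹⁆ * h := by simp only [commutatorElement_def]; group
          _ = u := by rw [← e']; group
      rw [this]; exact hu
    · simpa using P.K_norm hi hk
    · simp only [commutatorElement_def, MulEquiv.coe_toMonoidHom, MulAut.conj_apply]
      group
  obtain ⟨u, hu, rfl⟩ := hle hy
  exact ⟨u, hU u hu ((hh u).2 hyW), rfl⟩

theorem map_Pl (m : F4) : (P.Pl m).map (MulAut.conj x).toMonoidHom = P.Pl (om * m) := by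
  refine le_antisymm ?_ ?_
  · rintro _ ⟨_, ⟨a, rfl, ha⟩, rfl⟩
    exact ⟨MulAut.conjNormal S.x0 a, rfl, ha.imp (fun e => by rw [S.act, e, smul_zero])
      fun e => by rw [S.act, e, smul_smul]⟩
  · rintro _ ⟨a, rfl, ha⟩
    refine ⟨Dat.val ((MulAut.conjNormal S.x0).symm a), ⟨_, rfl, ?_⟩, ?_⟩
    · have h := S.act ((MulAut.conjNormal S.x0).symm a)
      rw [MulEquiv.apply_symm_apply] at h
      have hcan : ∀ u w : V6, om • u = om • w → u = w := fun u w e => funext fun i =>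
        (by decide +kernel : ∀ s t : F4, om * s = om * t → s = t) _ _ (congrFun e i)
      refine ha.imp (fun e => hcan _ _ ?_) fun e => hcan _ _ ?_
      · rw [← h, e, smul_zero]
      · rw [← h, e, smul_smul]
    · exact congrArg Dat.val ((MulAut.conjNormal S.x0).apply_symm_apply a)

/-- The invariant holds on the complement if the cover splits. -/
theorem Inv_P0 (hz : Scal.zC ∉ ⁅S.H, S.H⁆) (hcov : ∀ h ∈ S.H, h ∈ ⁅S.H, S.H⁆ ∨ h * Scal.zC ∈ ⁅S.H, S.H⁆) :
    P.Inv (P.P0 S) := by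
  set H' := ⁅S.H, S.H⁆
  have hH' : H' ≤ S.H := commutator_le.2 fun a ha b hb => by
    rw [commutatorElement_def]
    exact mul_mem (mul_mem (mul_mem ha hb) (inv_mem ha)) (inv_mem hb)
  have htriv : ∀ a : CC, a ∈ H' → a ∈ Q → a = 1 := fun a ha hq =>
    (S.inter hq (hH' ha)).resolve_right fun e => hz (e ▸ ha)
  have hzK : ∀ {h : CC}, (h : G) ∈ P.K → ((h * Scal.zC : CC) : G) ∈ P.K := fun hh =>
    mul_mem hh (P.W_le_K P.z_mem_W)
  have hmz : ∀ h : CC, QuotientGroup.mk' Q (h * Scal.zC) = QuotientGroup.mk' Q h := fun h => by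
    rw [map_mul, show QuotientGroup.mk' Q Scal.zC = 1 from (QuotientGroup.eq_one_iff _).2 (Scal.zC_mem_Q D),
      mul_one]
  have hdec : ∀ c : CC, (c : G) ∈ P.K → ∃ h ∈ H', (h : G) ∈ P.K ∧
      QuotientGroup.mk' Q h = QuotientGroup.mk' Q c := by
    intro c hc
    obtain ⟨h, hh, he⟩ := S.exists_mem (P.K_scalar hc)
    have hk := P.H_mem_K S hh (he ▸ P.K_stab hc)
    rcases hcov h hh with e | e
    · exact ⟨h, e, hk, he⟩
    · exact ⟨_, e, hzK hk, (hmz h).trans he⟩
  -- the trace of the normal 2-subgroup in the commutator subgroup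
  let IsA : CC → Prop := fun a => a ∈ H' ∧ (a : G) ∈ P.K ∧ QuotientGroup.mk' Q a ∈ EE
  have hAR : ∀ a, IsA a → (a : G) ∈ P.R := fun a ha => P.mem_R.2 ⟨ha.2.1, a, rfl, ha.2.2⟩
  have hAconj : ∀ h a, h ∈ H' → (h : G) ∈ P.K → IsA a → IsA (h * a * h⁻¹) := fun h a hh hk ha =>
    ⟨mul_mem (mul_mem hh ha.1) (inv_mem hh), mul_mem (mul_mem hk ha.2.1) (inv_mem hk), by
      rw [map_mul, map_mul, map_inv]
      exact D.EE_normalised P.hg P.ne_one P.ne_z (P.K_stab hk) ha.2.2⟩
  have hAmul : ∀ a b, IsA a → IsA b → IsA (a * b) := fun a b ha hb =>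
    ⟨mul_mem ha.1 hb.1, mul_mem ha.2.1 hb.2.1, by rw [map_mul]; exact mul_mem ha.2.2 hb.2.2⟩
  have hAinv : ∀ a, IsA a → IsA a⁻¹ := fun a ha =>
    ⟨inv_mem ha.1, inv_mem ha.2.1, by rw [map_inv]; exact inv_mem ha.2.2⟩
  have hAab : ∀ a b, IsA a → IsA b → ⁅a, b⁆ = 1 := by
    intro a b ha hb
    refine htriv _ ?_ ((QuotientGroup.eq_one_iff _).1 ?_)
    · rw [commutatorElement_def]
      exact mul_mem (mul_mem (mul_mem ha.1 hb.1) (inv_mem ha.1)) (inv_mem hb.1)
    · show QuotientGroup.mk' Q _ = 1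
      rw [map_commutatorElement, commutatorElement_eq_one_iff_mul_comm]
      exact congrArg Subtype.val ((D.EE_elementary P.hg).1.1.1 ⟨_, ha.2.2⟩ ⟨_, hb.2.2⟩)
  -- commutators with the kernel
  have hAQ : ∀ a, IsA a → ∀ q : Q, Dat.val q ∈ P.K → ⁅(a : G), Dat.val q⁆ ∈ P.P0 S := by
    intro a ha
    have hax : (a : G) * x = x * a :=
      congrArg Subtype.val (mem_centralizer_singleton_iff.1 (hH' ha.1))
    have hW : ∀ q : Q, Dat.val q ∈ P.K → ⁅(a : G), Dat.val q⁆ ∈ P.W := by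
      intro q hq
      set d := mv P.v (mv P.v (D.π q)) with hd
      have hπ : D.π q = mv P.v d := (mv_inv P.full _).symm
      have hsum : ∑ i, d i = 0 := by
        have h : ∀ l : F4, qn (l • one6 + d) = qn d := fun l => by
          obtain ⟨b, hb⟩ := D.π_surj (l • P.v)
          have hc := (D.comm_iff b q).1 (val_inj (P.K_comm hq ⟨b, rfl, l, hb⟩).eq)
          rw [hb, hπ, show l • P.v = mv P.v (l • one6) by rw [mv_smul, mv_one], ← mv_add, qn_mv P.full, qn_mv P.full, qn_mv P.full] at hc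
          rw [hc]
          have h0 : qn (l • one6) = 0 := (sum_qn 0 (by simp) l).2
          rw [h0, zero_add]
        refine sum_zero_of d ?_ (h om)
        have := h 1
        rwa [one_smul] at this
      have he := P.R_Rb (hAR a ha) (c := a) rfl
      have hdis := displacement P.lag_lag (P.good_Rb he) (P.moves he) hsum
      refine ⟨MulAut.conjNormal a q * q⁻¹, ?_, (P.rv (QuotientGroup.mk' Q a) d + d) 0, ?_⟩
      · show (a : G) * Dat.val q * (a : G)⁻¹ * (Dat.val q)⁻¹ = _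
        rw [commutatorElement_def]
      · rw [D.π_mul, D.act, π_inv]
        show D.T.r (QuotientGroup.mk' Q a) (D.π q) + D.π q = _
        rw [hπ, ← P.mv_rv, ← mv_add, hdis, mv_smul, mv_one]
        simp [one6]
    intro q hq
    refine ⟨hW q hq, ?_⟩
    set q1 := MulAut.conjNormal S.x0 q
    set q2 := MulAut.conjNormal S.x0 q1
    have hn := P.norms_x S
    have hq1 : Dat.val q1 ∈ P.K := P.K_norm hn hq
    have hq2 : Dat.val q2 ∈ P.K := P.K_norm hn hq1
    have hmulc : ∀ a' b c : G, a' ∈ P.K → c ∈ P.K → b ∈ P.K → ⁅a', c⁆ ∈ P.W →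
        ⁅a', b * c⁆ = ⁅a', b⁆ * ⁅a', c⁆ := by
      intro a' b c _ _ hb hw
      have e : b * ⁅a', c⁆ * b⁻¹ = ⁅a', c⁆ := mul_inv_eq_iff_eq_mul.2 (P.K_comm hb hw).eq.symm
      calc ⁅a', b * c⁆ = ⁅a', b⁆ * (b * ⁅a', c⁆ * b⁻¹) := by simp only [commutatorElement_def]; group
        _ = _ := by rw [e]
    have hx : ∀ u : G, x * ⁅(a : G), u⁆ * x⁻¹ = ⁅(a : G), x * u * x⁻¹⁆ := fun u => by
      calc x * ⁅(a : G), u⁆ * x⁻¹ = ⁅x * (a : G) * x⁻¹, x * u * x⁻¹⁆ := by
            simp only [commutatorElement_def]; group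
        _ = _ := by rw [← hax, mul_inv_cancel_right]
    have h0 : D.π (q * (q1 * q2)) = 0 := by
      rw [D.π_mul, D.π_mul, S.act q1, S.act q, smul_smul]
      nth_rewrite 1 [← one_smul F4 (D.π q)]
      rw [← add_smul, ← add_smul, show (1 : F4) + (om + om * om) = 0 by decide +kernel, zero_smul]
    calc orbProd x ⁅(a : G), Dat.val q⁆
        = ⁅(a : G), Dat.val q⁆ * ⁅(a : G), Dat.val q1⁆ * ⁅(a : G), Dat.val q2⁆ := by
          simp only [orbProd, hx]; rfl
      _ = ⁅(a : G), Dat.val q * (Dat.val q1 * Dat.val q2)⁆ := by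
          rw [hmulc _ _ _ ha.2.1 (mul_mem hq1 hq2) hq (hW (q1 * q2) (mul_mem hq1 hq2)),
            hmulc _ _ _ ha.2.1 hq2 hq1 (hW q2 hq2), mul_assoc]
      _ = 1 := by
          rcases (D.π_eq_zero _).1 h0 with e | e
          · rw [show Dat.val q * (Dat.val q1 * Dat.val q2) = 1 from e, commutatorElement_one_right]
          · rw [show Dat.val q * (Dat.val q1 * Dat.val q2) = z from e,
              commutatorElement_eq_one_iff_mul_comm]
            exact mem_centralizer_singleton_iff.1 a.2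
  -- decomposition of the centraliser
  have hKdec : ∀ k ∈ P.K, ∃ (q : Q) (h : CC), Dat.val q ∈ P.K ∧ h ∈ H' ∧ (h : G) ∈ P.K ∧
      k = Dat.val q * h ∧ ∀ c : CC, (c : G) = k → QuotientGroup.mk' Q h = QuotientGroup.mk' Q c := by
    intro k hk
    obtain ⟨h, hh, hhK, he⟩ := hdec (P.toC hk) hk
    have hq : P.toC hk * h⁻¹ ∈ Q := (QuotientGroup.eq_one_iff _).1 (by
      show QuotientGroup.mk' Q _ = 1
      rw [map_mul, map_inv, he, mul_inv_cancel])
    refine ⟨⟨_, hq⟩, h, mul_mem hk (inv_mem hhK), hh, hhK, ?_, fun c hc => ?_⟩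
    · show k = k * (h : G)⁻¹ * h
      rw [inv_mul_cancel_right]
    · rw [he, show c = P.toC hk from Subtype.ext hc]
  -- the elements with commutators in the complement
  have hD : ∀ d ∈ P.Dp (P.P0 S), ∃ w ∈ P.W, ∃ a, IsA a ∧ d = w * (a : G) := by
    rintro d ⟨hdR, hd⟩
    obtain ⟨q, a, hq, ha, haK, rfl, he⟩ := hKdec d (P.mem_R.1 hdR).1
    obtain ⟨c, hc, hce⟩ := (P.mem_R.1 hdR).2
    have hA : IsA a := ⟨ha, haK, he c hc ▸ hce⟩
    refine ⟨_, ?_, a, hA, rfl⟩
    have hcomm : ∀ q' : Q, Dat.val q' ∈ P.K → Commute (Dat.val q) (Dat.val q') := by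
      intro q' hq'
      have hq'R : Dat.val q' ∈ P.R := P.mem_R.2 ⟨hq', (q' : CC), rfl, by
        rw [show QuotientGroup.mk' Q (q' : CC) = 1 from (QuotientGroup.eq_one_iff _).2 q'.2]
        exact one_mem _⟩
      have h1 := hd _ hq'R
      have h2 := hAQ a hA q' hq'
      have e : ⁅Dat.val q * (a : G), Dat.val q'⁆ = ⁅(a : G), Dat.val q'⁆ * ⁅Dat.val q, Dat.val q'⁆ := by
        have h3 : Dat.val q * ⁅(a : G), Dat.val q'⁆ * (Dat.val q)⁻¹ = ⁅(a : G), Dat.val q'⁆ :=
          mul_inv_eq_iff_eq_mul.2 (P.K_comm hq h2.1).eq.symm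
        calc ⁅Dat.val q * (a : G), Dat.val q'⁆
            = Dat.val q * ⁅(a : G), Dat.val q'⁆ * (Dat.val q)⁻¹ * ⁅Dat.val q, Dat.val q'⁆ := by
              simp only [commutatorElement_def]; group
          _ = _ := by rw [h3]
      rw [e] at h1
      have h4 : ⁅Dat.val q, Dat.val q'⁆ ∈ P.P0 S := by
        have := mul_mem (inv_mem h2) h1
        rwa [inv_mul_cancel_left] at this
      refine commutatorElement_eq_one_iff_mul_comm.1 ?_
      rcases D.pre.gen.comm _ (mem_map_of_mem _ q.2) _ (mem_map_of_mem _ q'.2) with e1 | e1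
      · rw [commutatorElement_def]; exact e1
      · rw [commutatorElement_def] at h4
        have e2 : Dat.val q * Dat.val q' * (Dat.val q)⁻¹ * (Dat.val q')⁻¹ = z := e1
        rw [e2] at h4
        exact absurd h4 (P.P0_z S)
    obtain ⟨b, hπ⟩ : ∃ b, D.π q = mv P.v b := ⟨_, (mv_inv P.full _).symm⟩
    have hper : ∀ d : V6, ∑ i, d i = 0 → qn (b + d) = qn b + qn d := by
      intro d hd
      obtain ⟨u, hu⟩ := D.π_surj (mv P.v d)
      have huK : Dat.val u ∈ P.K := mem_centralizer_iff.2 (by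
        rintro _ ⟨y, rfl, l, hy⟩
        refine congrArg Dat.val ((D.comm_iff y u).2 ?_)
        rw [hy, hu, show l • P.v = mv P.v (l • one6) by rw [mv_smul, mv_one], ← mv_add, qn_mv P.full, qn_mv P.full, qn_mv P.full,
          (sum_qn d hd l).1, (sum_qn d hd l).2, zero_add])
      have hc := (D.comm_iff q u).1 (val_inj (hcomm u huK).eq)
      rwa [hπ, hu, ← mv_add, qn_mv P.full, qn_mv P.full, qn_mv P.full] at hc
    have hcst := perp_const b fun i => ⟨hper _ (sum_pv i), hper _ (by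
      rw [Pi.smul_def]; simp only [smul_eq_mul, ← Finset.mul_sum, sum_pv, mul_zero])⟩
    exact ⟨q, rfl, b 0, by rw [hπ, hcst, mv_smul, mv_one]; simp [one6]⟩
  -- the commutator subgroup
  have hB : ∀ y ∈ P.Com (P.P0 S), ∃ p ∈ P.P0 S, ∃ a, IsA a ∧ y = p * (a : G) := by
    intro y hy
    induction hy using closure_induction with
    | mem y hy =>
      obtain ⟨d, hd, k, hk, rfl⟩ := hy
      obtain ⟨w, hw, a, ha, rfl⟩ := hD d hd
      obtain ⟨q, h, hq, hh, hhK, rfl, -⟩ := hKdec k hk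
      set a' := ⁅a, h⁆ with ha'
      have hA' : IsA a' := by
        rw [ha', commutatorElement_def, show a * h * a⁻¹ * h⁻¹ = a * (h * a⁻¹ * h⁻¹) by group]
        exact hAmul _ _ ha (hAconj _ _ hh hhK (hAinv _ ha))
      have h1 := hAQ a ha q hq
      have h2 := hAQ a' hA' q hq
      refine ⟨⁅(a : G), Dat.val q⁆ * ⁅(a' : G), Dat.val q⁆⁻¹, mul_mem h1 (inv_mem h2), a', hA', ?_⟩
      have e1 : ⁅(a : G), Dat.val q * (h : G)⁆ ∈ P.K := by
        rw [commutatorElement_def]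
        exact mul_mem (mul_mem (mul_mem ha.2.1 hk) (inv_mem ha.2.1)) (inv_mem hk)
      have e2 : ⁅w * (a : G), Dat.val q * (h : G)⁆ = ⁅(a : G), Dat.val q * (h : G)⁆ := by
        calc ⁅w * (a : G), Dat.val q * (h : G)⁆
            = (w * ⁅(a : G), Dat.val q * (h : G)⁆) * (Dat.val q * (h : G) * w⁻¹ * (Dat.val q * (h : G))⁻¹) := by
              simp only [commutatorElement_def]; group
          _ = (⁅(a : G), Dat.val q * (h : G)⁆ * w) * w⁻¹ := by
              rw [(P.K_comm e1 hw).eq, mul_inv_eq_iff_eq_mul.2 (P.K_comm hk (inv_mem hw)).eq.symm]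
          _ = _ := mul_inv_cancel_right _ _
      rw [e2]
      have e3 : ((a' : CC) : G) = ⁅(a : G), (h : G)⁆ := rfl
      rw [e3]
      simp only [commutatorElement_def]
      group
    | one => exact ⟨1, one_mem _, 1, ⟨one_mem _, one_mem _, by rw [map_one]; exact one_mem _⟩, (mul_one _).symm⟩
    | mul y y' _ _ hy hy' =>
      obtain ⟨p, hp, a, ha, rfl⟩ := hy
      obtain ⟨p', hp', a', ha', rfl⟩ := hy'
      refine ⟨p * p', mul_mem hp hp', a * a', hAmul _ _ ha ha', ?_⟩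
      show p * (a : G) * (p' * (a' : G)) = p * p' * ((a : G) * a')
      calc p * (a : G) * (p' * (a' : G)) = p * ((a : G) * p') * a' := by group
        _ = p * (p' * (a : G)) * a' := by rw [(P.K_comm ha.2.1 hp'.1).eq]
        _ = _ := by group
    | inv y _ hy =>
      obtain ⟨p, hp, a, ha, rfl⟩ := hy
      refine ⟨p⁻¹, inv_mem hp, a⁻¹, hAinv _ ha, ?_⟩
      show (p * (a : G))⁻¹ = p⁻¹ * (a : G)⁻¹
      rw [mul_inv_rev, (P.K_comm ha.2.1 hp.1).inv_inv.eq]
  intro y hy hyW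
  obtain ⟨p, hp, a, ha, rfl⟩ := hB y hy
  have haW : (a : G) ∈ P.W := by
    have := mul_mem (inv_mem hp.1) hyW
    rwa [inv_mul_cancel_left] at this
  obtain ⟨u, hu, -⟩ := haW
  have haQ : a ∈ Q := (Subtype.ext hu : (u : CC) = a) ▸ u.2
  rw [htriv a ha.1 haQ]
  show p * 1 ∈ _
  rwa [mul_one]

include S in
/-- The invariant fails on a four-group containing the central involution. -/
theorem not_Inv : ∃ m : F4, m ≠ 0 ∧ ¬ P.Inv (P.Pl m) := by
  obtain ⟨m, hm0, hm1, hm⟩ := P.dis_line 0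
  refine ⟨m, hm0, fun hI => ?_⟩
  obtain ⟨d, hd⟩ := D.π_surj (mv P.v (pv 0))
  have hdK : Dat.val d ∈ P.K := mem_centralizer_iff.2 (by
    rintro _ ⟨y, rfl, l, hy⟩
    refine congrArg Dat.val ((D.comm_iff y d).2 ?_)
    rw [hy, hd, show l • P.v = mv P.v (l • one6) by rw [mv_smul, mv_one], ← mv_add, qn_mv P.full, qn_mv P.full, qn_mv P.full,
      (sum_qn _ (sum_pv 0) l).1, (sum_qn _ (sum_pv 0) l).2, zero_add])
  have hcom : ∀ c : centralizer ({z} : Set G),
      ⁅Dat.val d, (c : G)⁆ = Dat.val (d * MulAut.conjNormal c d⁻¹) := fun c => by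
    show _ = Dat.val d * ((c : G) * (Dat.val d)⁻¹ * (c : G)⁻¹)
    simp only [commutatorElement_def]
    group
  have hπc : ∀ c : centralizer ({z} : Set G),
      D.π (d * MulAut.conjNormal c d⁻¹) = mv P.v (pv 0 + P.rv (QuotientGroup.mk' Q c) (pv 0)) := fun c => by
    rw [D.π_mul, D.act, π_inv, hd, mv_add, P.mv_rv]
    rfl
  have hdD : Dat.val d ∈ P.Dp (P.Pl m) := by
    refine ⟨P.mem_R.2 ⟨hdK, (d : centralizer ({z} : Set G)), rfl, ?_⟩, fun r hr => ?_⟩
    · rw [show QuotientGroup.mk' Q (d : centralizer ({z} : Set G)) = 1 from (QuotientGroup.eq_one_iff _).2 d.2]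
      exact one_mem _
    · obtain ⟨-, c, rfl, -⟩ := P.mem_R.1 hr
      have he := P.R_Rb hr (c := c) rfl
      refine ⟨_, (hcom c).symm, ?_⟩
      rw [hπc, pv_image P.lag_lag (P.good_Rb he) (P.moves he), ← add_assoc, v6_same, zero_add,
        mv_smul, mv_one]
      rcases hm _ he with e | e
      · exact Or.inl (by rw [show mu (P.rv (QuotientGroup.mk' Q c)) 0 = 0 from e, zero_smul])
      · exact Or.inr (by rw [show mu (P.rv (QuotientGroup.mk' Q c)) 0 = m from e])
  let t1 : A6 := ⟨Equiv.swap 1 5 * Equiv.swap 2 3, show Equiv.Perm.sign _ = 1 by decide +kernel⟩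
  let ta : A6 := ⟨Equiv.swap 0 1 * Equiv.swap 2 5, show Equiv.Perm.sign _ = 1 by decide +kernel⟩
  let tb : A6 := ⟨Equiv.swap 1 3 * Equiv.swap 5 4, show Equiv.Perm.sign _ = 1 by decide +kernel⟩
  obtain ⟨k1, hk1, e1⟩ := P.twist_lift S t1
  obtain ⟨ka, hka, ea⟩ := P.twist_lift S ta
  obtain ⟨kb, hkb, eb⟩ := P.twist_lift S tb
  let y1 : Q := d * MulAut.conjNormal k1 d⁻¹
  let y : Q := y1 * MulAut.conjNormal ka y1 * MulAut.conjNormal kb y1
  have hy1 : Dat.val y1 ∈ P.Com (P.Pl m) :=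
    subset_closure ⟨_, hdD, _, hk1, hcom k1⟩
  have hyc : Dat.val y ∈ P.Com (P.Pl m) := by
    show Dat.val y1 * ((ka : G) * Dat.val y1 * (ka : G)⁻¹) * ((kb : G) * Dat.val y1 * (kb : G)⁻¹) ∈ _
    exact mul_mem (mul_mem hy1 (P.Com_conj (P.Pl_le m) hka hy1)) (P.Com_conj (P.Pl_le m) hkb hy1)
  have hπ1 : D.π y1 = mv P.v (pv 0 + fun i => pv 0 (t1.1.symm i)) := by
    rw [hπc, e1, P.rv_twist]
  have hπ : D.π y = P.v := by
    have ha : ∀ (τ : A6) (k : centralizer ({z} : Set G)), QuotientGroup.mk' Q k = D.T.twistHom P.v τ →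
        D.π (MulAut.conjNormal k y1) = mv P.v (fun i => (pv 0 + fun j => pv 0 (t1.1.symm j)) (τ.1.symm i)) := by
      intro τ k ek
      rw [D.act, hπ1]
      show D.T.r (QuotientGroup.mk' Q k) _ = _
      rw [← P.mv_rv, ek, P.rv_twist]
    rw [D.π_mul, D.π_mul, ha ta ka ea, ha tb kb eb, hπ1, ← mv_add, ← mv_add]
    conv_rhs => rw [← mv_one P.v]
    refine congrArg (mv P.v) ?_
    decide +kernel
  obtain ⟨u, hu, hcase⟩ := hI _ hyc ⟨y, rfl, 1, by rw [hπ, one_smul]⟩
  rw [val_inj hu, hπ] at hcase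
  rcases hcase with e | e
  · exact P.full 0 (congrFun e 0)
  · have h := congrFun e 0
    exact hm1 ((by decide +kernel : ∀ v m : F4, v ≠ 0 → v = m * v → m = 1) _ _ (P.full 0) h)

/-- The central involution is a product of commutators, provided the conjugate lies outside the
complement. -/
theorem zC_mem_commutator (hs : Dat.val P.s ∉ P.P0 S)
    (hcov : ∀ h ∈ S.H, h ∈ ⁅S.H, S.H⁆ ∨ h * Scal.zC ∈ ⁅S.H, S.H⁆) : Scal.zC ∈ ⁅S.H, S.H⁆ := by
  by_contra hz
  have hP0 := P.Inv_P0 S hz hcov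
  have hp := D.pre' P.hg
  obtain ⟨g, hg, hgz⟩ := Extra2.exists_conj_mul hp.gen (D.z_mem P.hg) D.pre.gen.ne_one
    (fun e => P.ne_z e.symm)
  have hgs : g * Dat.val P.s * g⁻¹ = Dat.val P.s :=
    mul_inv_eq_iff_eq_mul.2 (hp.gen.comm_z g hg).eq
  have hgW : P.Norms g := by
    refine P.norms_of fun w hw => ?_
    rcases Extra2.conj_eq hp.gen hg (P.W_le_QS hw) with e | e <;> rw [e]
    · exact hw
    · exact mul_mem P.s_mem_W hw
  have h1 := P.Inv_map S hgW hP0
  set P1 := (P.P0 S).map (MulAut.conj g).toMonoidHom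
  have hzs : Dat.val P.s * z ∈ P.P0 S := (P.P0_or S P.s_mem_W).resolve_left hs
  have hz1 : z ∈ P1 := by
    refine ⟨_, hzs, ?_⟩
    show g * (Dat.val P.s * z) * g⁻¹ = z
    calc g * (Dat.val P.s * z) * g⁻¹ = g * Dat.val P.s * g⁻¹ * (g * z * g⁻¹) := by group
      _ = Dat.val P.s * (z * Dat.val P.s) := by rw [hgs, hgz]
      _ = (Dat.val P.s * Dat.val P.s) * z := by rw [(P.W_comm P.z_mem_W P.s_mem_W).eq, mul_assoc]
      _ = z := by rw [hp.gen.sq, one_mul]
  have hP1W : P1 ≤ P.W := by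
    rintro _ ⟨w, hw, rfl⟩
    exact (hgW w).1 hw.1
  -- one point of the line
  obtain ⟨a, ha, ha0⟩ : ∃ a : Q, Dat.val a ∈ P1 ∧ D.π a ≠ 0 := by
    by_contra hno
    push Not at hno
    have hle : ∀ w ∈ P1, w = 1 ∨ w = z := fun w hw => by
      obtain ⟨b, rfl, -⟩ := hP1W hw
      exact (D.π_eq_zero b).1 (hno b hw)
    let b := MulAut.conjNormal S.x0 (P.s * ⟨Scal.zC, Scal.zC_mem_Q D⟩)
    have hb : Dat.val b ∈ P.P0 S := by
      refine ⟨((P.norms_x S) _).1 hzs.1, ?_⟩
      have e : orbProd x (x * (Dat.val P.s * z) * x⁻¹) = x * orbProd x (Dat.val P.s * z) * x⁻¹ := by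
        simp only [orbProd]; group
      show orbProd x (x * (Dat.val P.s * z) * x⁻¹) = 1
      rw [e, hzs.2]; group
    have hne : Dat.val b ≠ 1 := fun e => by
      have h := (D.π_eq_zero b).2 (Or.inl e)
      rw [S.act, D.π_mul, (D.π_eq_zero ⟨Scal.zC, Scal.zC_mem_Q D⟩).2 (Or.inr rfl), add_zero] at h
      exact P.full 0 ((by decide +kernel : ∀ t : F4, om * t = 0 → t = 0) _ (congrFun h 0))
    have e2 : g * Dat.val b * g⁻¹ = z := (hle _ (mem_map_of_mem _ hb)).resolve_left fun e => hne (by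
      simpa using e)
    have e3 : g * (Dat.val P.s * z) * g⁻¹ = z := (hle _ (mem_map_of_mem _ hzs)).resolve_left fun e => by
      have e' : Dat.val P.s * z = 1 := by simpa using e
      exact P.ne_z ((eq_inv_of_mul_eq_one_left e').trans (inv_eq_of_mul_eq_one_right D.pre.gen.sq))
    have e4 : Dat.val b = Dat.val (P.s * ⟨Scal.zC, Scal.zC_mem_Q D⟩) := by
      have e5 := e2.trans e3.symm
      rw [mul_left_inj, mul_right_inj] at e5
      exact e5
    have h := congrArg D.π (val_inj e4)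
    rw [S.act, D.π_mul, (D.π_eq_zero ⟨Scal.zC, Scal.zC_mem_Q D⟩).2 (Or.inr rfl), add_zero] at h
    exact P.full 0 ((by decide +kernel : ∀ t : F4, om * t = t → t = 0) _ (congrFun h 0))
  obtain ⟨m, hm⟩ := P.line_of (hP1W ha)
  have hm0 : m ≠ 0 := fun e => ha0 (by rw [hm, e, zero_smul])
  have heq : P1 = P.Pl m := by
    refine le_antisymm (fun w hw => ?_) ?_
    · obtain ⟨b, rfl, l, hb⟩ := hP1W hw
      refine ⟨b, rfl, ?_⟩
      by_contra hne
      rw [not_or] at hne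
      have hl0 : l ≠ 0 := fun e => hne.1 (by rw [hb, e, zero_smul])
      have hlm : m ≠ l := fun e => hne.2 (by rw [hb, e])
      have hall : P.W ≤ P1 := by
        rintro _ ⟨u, rfl, c, hu⟩
        have key : ∀ u' : Q, Dat.val u' ∈ P1 → D.π u' = D.π u → Dat.val u ∈ P1 := fun u' h' e => by
          rcases D.eq_of_π e with e' | e' <;> rw [e']
          exacts [h', mul_mem h' hz1]
        by_cases hc : c = 0
        · exact key 1 (one_mem P1) (by rw [π_one, hu, hc, zero_smul])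
        rcases f4_third m l c hm0 hl0 hlm hc with e | e | e
        · exact key a ha (by rw [hm, hu, e])
        · exact key b hw (by rw [hb, hu, e])
        · exact key (a * b) (mul_mem ha hw) (by rw [D.π_mul, hm, hb, hu, e, add_smul])
      obtain ⟨u, hu, hue⟩ := hall ((hgW z).1 P.z_mem_W)
      have hue' : g * u * g⁻¹ = g * z * g⁻¹ := hue
      rw [mul_left_inj, mul_right_inj] at hue'
      exact P.P0_z S (hue' ▸ hu)
    · rintro _ ⟨b, rfl, hb | hb⟩
      · rcases (D.π_eq_zero b).1 hb with e | e <;> rw [show Dat.val b = _ from e]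
        exacts [one_mem P1, hz1]
      · rcases D.eq_of_π (hm.trans hb.symm) with e | e <;> rw [e]
        exacts [ha, mul_mem ha hz1]
  rw [heq] at h1
  have h2 := P.Inv_map S (P.norms_x S) h1
  rw [P.map_Pl S] at h2
  have h3 := P.Inv_map S (P.norms_x S) h2
  rw [P.map_Pl S] at h3
  obtain ⟨n, hn0, hn⟩ := P.not_Inv S
  have hcase : ∀ m n : F4, m ≠ 0 → n ≠ 0 → n = m ∨ n = om * m ∨ n = om * (om * m) := by decide +kernel
  rcases hcase m n hm0 hn0 with rfl | rfl | rfl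
  exacts [hn h1, hn h2, hn h3]

end Fused

end CfsgLib.FiLarge.CentX
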