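import Cfsg.Agent.FiLarge.Basic

/-!
Linear maps of the coordinate space fixing a vector of full support and moving the vectors of zero
sum only along that vector.
-/

set_option autoImplicit false
set_option maxRecDepth 100000
set_option Elab.async false

namespace CfsgLib.FiLarge.CentX

/-- The all-one vector. -/
def one6 : V6 := fun _ => 1

/-- A coordinate vector. -/
def ev0 : V6 := fun j => if j = 0 then 1 else 0

/-- The vectors with two ones, one of them at the last place. -/
def pv (i : Fin 5) : V6 := fun j => if j.val = i.val ∨ j = 5 then 1 else 0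

/-- A vector of support two outside the hyperplane of zero sum. -/
def bb : V6 := fun j => if j = 0 then om else if j = 1 then om * om else 0

/-- Coordinatewise product. -/
def mv (v b : V6) : V6 := fun i => v i * b i

/-- The three permutations detecting non-constant vectors. -/
def tau (k : Fin 3) : Equiv.Perm (Fin 6) :=
  if k = 0 then Equiv.swap 3 5 * Equiv.swap 5 4
  else if k = 1 then Equiv.swap 1 3 * Equiv.swap 3 2
  else Equiv.swap 0 1 * Equiv.swap 4 5

theorem forall_v6 {P : V6 → Prop} (h : ∀ a b c d e f : F4, P ![a, b, c, d, e, f]) (x : V6) : P x := by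
  have e : x = ![x 0, x 1, x 2, x 3, x 4, x 5] := by
    funext i
    fin_cases i <;> rfl
  rw [e]
  exact h _ _ _ _ _ _

theorem tau_even : ∀ k, Equiv.Perm.sign (tau k) = 1 := by decide +kernel

theorem iso_const : ∀ a : V6, qn a = 0 →
    (∀ k, qn (a + fun i => a ((tau k).symm i)) = 0 ∧ qn (om • a + fun i => a ((tau k).symm i)) = 0) →
    a = a 0 • one6 :=
  forall_v6 (by decide +kernel)

theorem perp_const : ∀ a : V6,
    (∀ i, qn (a + pv i) = qn a + qn (pv i) ∧ qn (a + om • pv i) = qn a + qn (om • pv i)) →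
    a = a 0 • one6 :=
  forall_v6 (by decide +kernel)

theorem sum_qn : ∀ d : V6, ∑ i, d i = 0 → ∀ c : F4, qn (c • one6 + d) = qn d ∧ qn (c • one6) = 0 :=
  forall_v6 (by decide +kernel)

theorem sum_pv : ∀ i, ∑ j, pv i j = 0 := by decide +kernel

theorem expand : ∀ a : V6, a = (∑ i, a i) • ev0 + (a 0 + ∑ i, a i) • pv 0 + a 1 • pv 1 + a 2 • pv 2 +
    a 3 • pv 3 + a 4 • pv 4 := by
  intro a
  funext i
  have h2 : (2 : F4) = 0 := by decide +kernel
  simp only [Fin.sum_univ_six, Pi.add_apply, Pi.smul_apply, smul_eq_mul, ev0, pv]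
  fin_cases i <;> simp <;>
    first
      | linear_combination -(a 0 + a 1 + a 2 + a 3 + a 4 + a 5) * h2
      | linear_combination -(a 0 + a 1 + a 2 + a 3 + a 4) * h2

theorem ev0_image : ∀ f : V6, qn f = qn ev0 →
    (∀ i, qn (f + pv i) = qn (ev0 + pv i) ∧ qn (f + om • pv i) = qn (ev0 + om • pv i)) →
    f = ev0 ∨ f = ev0 + one6 :=
  forall_v6 (by decide +kernel)

theorem pv_total : pv 4 = one6 + pv 0 + pv 1 + pv 2 + pv 3 := by decide +kernel

theorem bb_eq : bb = 1 • ev0 + (om * om) • pv 0 + (om * om) • pv 1 := by decide +kernel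

theorem suppN_pv : ∀ i, suppN (pv i) = 2 ∧ suppN (pv i + one6) = 4 := by decide +kernel

theorem suppN_bb : suppN bb = 2 := by decide +kernel

theorem kind_bb : ∀ v : V6, (∀ i, v i ≠ 0) → qn v = 0 → kind (mv v (bb + one6)) = kind v :=
  forall_v6 (by decide +kernel)

theorem f4_cases : ∀ c : F4, c = 0 ∨ c = 1 ∨ c = om ∨ c = 1 + om := by decide +kernel

theorem f4_line : ∀ m m' : F4, m ≠ 0 → m ≠ 1 → m' ≠ 0 → m' ≠ 1 → m ≠ m' → m + m' = 1 := by
  decide +kernel

theorem f4_cube : ∀ m : F4, m ≠ 0 → m * m * m = 1 := by decide +kernel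

theorem f4_same : ∀ a : F4, a + a = 0 := by decide +kernel

theorem v6_same (a : V6) : a + a = 0 := funext fun i => f4_same (a i)

theorem smul_one6_apply (c : F4) (i : Fin 6) : (c • one6) i = c := mul_one c

theorem suppN_mv {v : V6} (hv : ∀ i, v i ≠ 0) (b : V6) : suppN (mv v b) = suppN b := by
  have h : ∀ x y : F4, x ≠ 0 → (x * y = 0 ↔ y = 0) := by decide +kernel
  exact Finset.sum_congr rfl fun i _ => by simp only [mv, h _ _ (hv i)]

theorem qn_mv {v : V6} (hv : ∀ i, v i ≠ 0) (b : V6) : qn (mv v b) = qn b := by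
  have h : ∀ x y : F4, x ≠ 0 → (x * y = 0 ↔ y = 0) := by decide +kernel
  exact Finset.sum_congr rfl fun i _ => by simp only [mv, h _ _ (hv i)]

theorem mv_add (v a b : V6) : mv v (a + b) = mv v a + mv v b := funext fun i => mul_add _ _ _

theorem mv_smul (v : V6) (c : F4) (a : V6) : mv v (c • a) = c • mv v a :=
  funext fun i => mul_left_comm _ _ _

theorem mv_one (v : V6) : mv v one6 = v := funext fun i => mul_one _

theorem mv_inv {v : V6} (hv : ∀ i, v i ≠ 0) (a : V6) : mv v (mv v (mv v a)) = a := by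
  funext i
  show v i * (v i * (v i * a i)) = a i
  rw [← mul_assoc, ← mul_assoc, f4_cube _ (hv i), one_mul]

/-- A map in the pointwise stabiliser of the vector, semisimilarity-free. -/
structure Good (S : V6 → Prop) (e : V6 → V6) : Prop where
  add : ∀ a b, e (a + b) = e a + e b
  smul : ∀ (c : F4) a, e (c • a) = c • e a
  form : ∀ a, qn (e a) = qn a
  one : e one6 = one6
  small : ∀ a, S a → S (e a)

/-- The orbit predicate. -/
structure Orbit (S : V6 → Prop) : Prop where
  spv : ∀ i, S (pv i)
  not_pv : ∀ i, ¬ S (pv i + one6)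
  sbb : S bb
  not_bb : ¬ S (bb + one6)

variable {S : V6 → Prop} {e e' : V6 → V6}

/-- The displacement along the vector. -/
def mu (e : V6 → V6) (i : Fin 5) : F4 := (e (pv i) + pv i) 0

/-- A totally singular set invariant under the permutations. -/
structure Lag (L : AddSubgroup V6) : Prop where
  sing : ∀ a ∈ L, qn a = 0
  perm : ∀ a ∈ L, ∀ k, (fun i => a ((tau k).symm i)) ∈ L

/-- The maps move the vectors of zero sum into the set. -/
def Moves (L : AddSubgroup V6) (e : V6 → V6) : Prop := ∀ d : V6, ∑ i, d i = 0 → e d + d ∈ L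

theorem Good.zero (h : Good S e) : e 0 = 0 := by
  have h0 := h.smul 0 0
  rwa [zero_smul, zero_smul] at h0

theorem displacement {L : AddSubgroup V6} (hL : Lag L) (h : Good S e) (hm : Moves L e) {d : V6}
    (hd : ∑ i, d i = 0) : e d + d = (e d + d) 0 • one6 := by
  have h1 := hm d hd
  have h2 := hm (om • d) (by rw [Pi.smul_def]; simp [← Finset.mul_sum, hd])
  rw [h.smul, ← smul_add] at h2
  exact iso_const _ (hL.sing _ h1) fun k =>
    ⟨hL.sing _ (L.add_mem h1 (hL.perm _ h1 k)), hL.sing _ (L.add_mem h2 (hL.perm _ h1 k))⟩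

theorem pv_image {L : AddSubgroup V6} (hL : Lag L) (h : Good S e) (hm : Moves L e) (i : Fin 5) :
    e (pv i) = pv i + mu e i • one6 := by
  rw [mu, ← displacement hL h hm (sum_pv i), add_left_comm, v6_same, add_zero]

theorem mu_ne_one {L : AddSubgroup V6} (hO : Orbit S) (hL : Lag L) (h : Good S e) (hm : Moves L e)
    (i : Fin 5) : mu e i ≠ 1 := by
  intro e1
  have h1 := h.small _ (hO.spv i)
  rw [pv_image hL h hm, e1, one_smul] at h1
  exact hO.not_pv i h1

theorem mu_comp {L : AddSubgroup V6} (hL : Lag L) (h : Good S e) (hm : Moves L e) (h' : Good S e')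
    (hm' : Moves L e') (i : Fin 5) : mu (fun a => e (e' a)) i = mu e i + mu e' i := by
  show (e (e' (pv i)) + pv i) 0 = _
  rw [pv_image hL h' hm', h.add, h.smul, h.one, pv_image hL h hm]
  show pv i 0 + mu e i * 1 + mu e' i * 1 + pv i 0 = _
  rw [mul_one, mul_one, add_right_comm (pv i 0 + mu e i), add_right_comm (pv i 0), f4_same, zero_add]

/-- The displacements determine the map. -/
theorem ext_of_mu {L : AddSubgroup V6} (hO : Orbit S) (hL : Lag L) (h : Good S e) (hm : Moves L e)
    (h0 : ∀ i : Fin 4, mu e i.castSucc = 0) : ∀ a, e a = a := by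
  have hp' : ∀ i : Fin 4, e (pv i.castSucc) = pv i.castSucc := fun i => by
    rw [pv_image hL h hm, h0, zero_smul, add_zero]
  have hp : ∀ i, e (pv i) = pv i := by
    intro i
    rcases Fin.eq_castSucc_or_eq_last i with ⟨j, rfl⟩ | rfl
    · exact hp' j
    · have e0 : e (pv 0) = pv 0 := hp' 0
      have e1 : e (pv 1) = pv 1 := hp' 1
      have e2 : e (pv 2) = pv 2 := hp' 2
      have e3 : e (pv 3) = pv 3 := hp' 3
      show e (pv 4) = pv 4
      rw [pv_total, h.add, h.add, h.add, h.add, h.one, e0, e1, e2, e3]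
  have hf : ∀ i, qn (e ev0 + pv i) = qn (ev0 + pv i) ∧ qn (e ev0 + om • pv i) = qn (ev0 + om • pv i) := by
    intro i
    constructor
    · rw [← h.form (ev0 + pv i), h.add, hp]
    · rw [← h.form (ev0 + om • pv i), h.add, h.smul, hp]
  rcases ev0_image _ (h.form _) hf with e0 | e0
  · intro a
    rw [expand a]
    simp only [h.add, h.smul, hp, e0]
  · exfalso
    refine hO.not_bb ?_
    have h1 := h.small _ hO.sbb
    have h2 : e bb = bb + one6 := by
      rw [bb_eq, h.add, h.add, h.smul, h.smul, hp, hp]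
      simp only [one_smul, e0]
      abel
    rwa [h2] at h1

end CfsgLib.FiLarge.CentX
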