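import Cfsg.Agent.FiLarge.ElevenMax

/-!
The unique elementary abelian subgroup of largest order in a Sylow 2-subgroup of the centraliser.
-/

set_option autoImplicit false
set_option maxHeartbeats 1000000

namespace CfsgLib.FiLarge

open CfsgLib Subgroup Eleven Std

variable {G : Type*} [Group G] [Finite G] {z : G} {Q : Subgroup (centralizer ({z} : Set G))} [Q.Normal]

theorem exists_eleven (hF : Cfsg.IsOfLargeFischerTypeAt z Q) (T : Sylow 2 (centralizer ({z} : Set G))) :
    ∃ A : Subgroup ↥(T : Subgroup (centralizer ({z} : Set G))),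
      Cfsg.maxElementaryAbelianSubgroups 2 ↥(T : Subgroup (centralizer ({z} : Set G))) = {A} ∧
      Nat.card A = 2 ^ 11 ∧
      Nat.card ↥(A.map (T : Subgroup (centralizer ({z} : Set G))).subtype ⊓ Q) = 2 ^ 7 ∧
      Nat.card ↥((A.map (T : Subgroup (centralizer ({z} : Set G))).subtype).map (QuotientGroup.mk' Q)) = 16 := by
  classical
  haveI : Fact (Nat.Prime 2) := ⟨Nat.prime_two⟩
  obtain ⟨D0⟩ := exists_dat hF
  obtain ⟨-, -, -, -, g, ⟨hq, hgQ⟩, hgz⟩ := hF.1
  let s : Q := ⟨⟨g * z * g⁻¹, hq⟩, hgQ⟩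
  have hs : Dat.val s ≠ 1 := fun e => D0.pre.gen.ne_one (conj_eq_one_iff.1 e)
  obtain ⟨D, hf⟩ := D0.exists_coded (g := g) (s := s) rfl hs hgz
  have hinv := D.exists_inverting (g := g) (s := s) rfl hs hgz
  -- the image of the Sylow subgroup
  let mk := QuotientGroup.mk' Q
  have hQT : Q ≤ (T : Subgroup (centralizer ({z} : Set G))) :=
    IsPGroup.le_sylow_of_normal (IsPGroup.iff_card.2 ⟨13, D.cardQ⟩) T
  set Tb := (T : Subgroup (centralizer ({z} : Set G))).map mk with hTb
  have hcomap : Tb.comap mk = (T : Subgroup (centralizer ({z} : Set G))) := by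
    rw [hTb, comap_map_eq, QuotientGroup.ker_mk', sup_eq_left.2 hQT]
  have hTbp : IsPGroup 2 Tb := T.2.map mk
  have hTbM : IsPGroup 2 ↥(Tb ⊓ D.T.M) := hTbp.to_le inf_le_left
  obtain ⟨m, hm, hmS⟩ := Std.exists_conj_le_syl hf hTbM inf_le_right
  have hcard : 2 ^ 7 ≤ Nat.card ↥(Tb ⊓ D.T.M) := by
    haveI hMn : D.T.M.Normal := Subgroup.normal_of_index_eq_two D.T.idx
    obtain ⟨k, hk⟩ := IsPGroup.iff_card.1 hTbp
    have hidx : ¬ 2 ∣ Tb.index := by
      rw [← Subgroup.index_comap_of_surjective Tb (QuotientGroup.mk'_surjective Q), hcomap]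
      exact T.not_dvd_index
    have h := Subgroup.card_mul_index Tb
    rw [D.T.card, hk] at h
    have hk8 : k = 8 := by
      have hodd : Odd Tb.index := Nat.odd_iff.2 (by omega)
      rcases lt_trichotomy k 8 with hlt | heq | hgt
      · exfalso
        have h1 : 2 ^ (k + 1) ∣ 2 ^ k * Tb.index := h ▸ (pow_dvd_pow 2 (by omega)).trans (by norm_num : 2 ^ 8 ∣ 19595520)
        rw [pow_succ] at h1
        exact hidx ((Nat.mul_dvd_mul_iff_left (by positivity)).1 h1)
      · exact heq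
      · exfalso
        have h1 : 2 ^ 9 ∣ 19595520 := h ▸ (pow_dvd_pow 2 (by omega)).trans (dvd_mul_right _ _)
        norm_num at h1
    have h1 := Nat.le_of_dvd (by rw [D.T.idx]; norm_num) (Subgroup.relIndex_dvd_index_of_normal D.T.M Tb)
    rw [D.T.idx] at h1
    have h2 : D.T.M.relIndex Tb * Nat.card ↥(Tb ⊓ D.T.M) = Nat.card Tb := card_split_inf Tb D.T.M
    rw [hk, hk8] at h2
    nlinarith
  obtain ⟨c, rfl⟩ := QuotientGroup.mk_surjective m
  -- conjugation carries the linear part onto the tabulated group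
  have hsurj : ∀ b ∈ Std.syl hf, ∃ x ∈ Tb ⊓ D.T.M, mk c * x * (mk c)⁻¹ = b := by
    have heq : (Tb ⊓ D.T.M).map (MulAut.conj (mk c)).toMonoidHom = Std.syl hf := by
      refine Subgroup.eq_of_le_of_card_ge ?_ ?_
      · rintro _ ⟨x, hx, rfl⟩
        exact hmS x hx
      · rw [card_map_of_injective (MulAut.conj (mk c)).injective, Std.syl_card hf]
        exact hcard
    intro b hb
    rw [← heq] at hb
    exact hb
  have hAT : ∀ a ∈ D.bigA, c⁻¹ * a * c ∈ (T : Subgroup (centralizer ({z} : Set G))) := by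
    intro a ha
    rw [← hcomap]
    show mk (c⁻¹ * a * c) ∈ Tb
    obtain ⟨x, hx, e⟩ := hsurj (mk a) ((Std.planeFix_card hf hinv).2.1 (D.mem_bigA.1 ha).1)
    rw [map_mul, map_mul, map_inv, ← e]
    convert (Subgroup.mem_inf.1 hx).1 using 1
    group
  let A' := D.bigA.map (MulAut.conj c⁻¹).toMonoidHom
  have hA'T : A' ≤ (T : Subgroup (centralizer ({z} : Set G))) := by
    rintro _ ⟨a, ha, rfl⟩
    have := hAT a ha
    simpa using this
  let A := A'.subgroupOf (T : Subgroup (centralizer ({z} : Set G)))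
  have hAmap : A.map (T : Subgroup (centralizer ({z} : Set G))).subtype = A' := by
    rw [subgroupOf_map_subtype, inf_eq_left.2 hA'T]
  have hA'card : Nat.card A' = 2 ^ 11 := by
    rw [card_map_of_injective (MulAut.conj c⁻¹).injective, D.card_bigA hf hinv]
  have hAcard : Nat.card A = 2 ^ 11 := by
    rw [Nat.card_congr (subgroupOfEquivOfLe hA'T).toEquiv, hA'card]
  have hAcomm : ∀ a ∈ D.bigA, ∀ b ∈ D.bigA, a * b = b * a := fun a ha b hb => by
    calc a * b = (a * b)⁻¹ := (inv_eq_of_mul_eq_one_right (D.bigA_sq hf hinv (mul_mem ha hb))).symm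
      _ = b⁻¹ * a⁻¹ := mul_inv_rev a b
      _ = b * a := by
        rw [inv_eq_of_mul_eq_one_right (D.bigA_sq hf hinv ha), inv_eq_of_mul_eq_one_right (D.bigA_sq hf hinv hb)]
  have hAel : Cfsg.IsElementaryAbelian 2 A := by
    refine ⟨⟨⟨fun x y => Subtype.ext (Subtype.ext ?_)⟩⟩, fun x hx => Subtype.ext ?_⟩
    · obtain ⟨a, ha, hax⟩ := mem_subgroupOf.1 x.2
      obtain ⟨b, hb, hby⟩ := mem_subgroupOf.1 y.2
      show (x.1 : centralizer ({z} : Set G)) * y.1 = y.1 * x.1
      rw [← hax, ← hby, ← map_mul, hAcomm a ha b hb, map_mul]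
    · obtain ⟨a, ha, hax⟩ := mem_subgroupOf.1 hx
      show (x : centralizer ({z} : Set G)) ^ 2 = 1
      rw [pow_two, ← hax, ← map_mul, D.bigA_sq hf hinv ha, map_one]
  have hmain : ∀ B : Subgroup ↥(T : Subgroup (centralizer ({z} : Set G))), Cfsg.IsElementaryAbelian 2 B →
      Nat.card B ≤ 2 ^ 11 ∧ (Nat.card B = 2 ^ 11 → B = A) := by
    intro B hB
    let Y := (B.map (T : Subgroup (centralizer ({z} : Set G))).subtype).map (MulAut.conj c).toMonoidHom
    have hYc : Nat.card Y = Nat.card B := by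
      rw [card_map_of_injective (MulAut.conj c).injective,
        card_map_of_injective (T : Subgroup (centralizer ({z} : Set G))).subtype_injective]
    have hY : ∀ a ∈ Y, ∀ b ∈ Y, a * b = b * a := by
      rintro _ ⟨_, ⟨a, ha, rfl⟩, rfl⟩ _ ⟨_, ⟨b, hb, rfl⟩, rfl⟩
      rw [← map_mul, ← map_mul, ← map_mul, ← map_mul]
      have := congrArg Subtype.val (hB.1.1.1 ⟨a, ha⟩ ⟨b, hb⟩)
      exact congrArg _ (congrArg _ this)
    have hsq : ∀ a ∈ Y, a * a = 1 := by
      rintro _ ⟨_, ⟨a, ha, rfl⟩, rfl⟩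
      rw [← map_mul, ← map_mul, ← pow_two, hB.2 a ha, map_one, map_one]
    have hS : Y.map mk ⊓ D.T.M ≤ Std.syl hf := by
      rintro _ ⟨⟨_, ⟨_, ⟨a, ha, rfl⟩, rfl⟩, rfl⟩, hM⟩
      haveI hMn : D.T.M.Normal := Subgroup.normal_of_index_eq_two D.T.idx
      have e : mk (MulAut.conj c ((T : Subgroup (centralizer ({z} : Set G))).subtype a)) = mk c * mk a.1 * (mk c)⁻¹ := by
        simp [map_mul]
      show mk (MulAut.conj c ((T : Subgroup (centralizer ({z} : Set G))).subtype a)) ∈ Std.syl hf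
      rw [e]
      refine hmS _ (Subgroup.mem_inf.2 ⟨mem_map_of_mem _ a.2, ?_⟩)
      have hM' : mk c * mk a.1 * (mk c)⁻¹ ∈ D.T.M := e ▸ hM
      have := hMn.conj_mem _ hM' (mk c)⁻¹
      convert this using 1
      group
    obtain ⟨hle, heq⟩ := D.max_main hf hinv hY hsq hS
    rw [hYc] at hle heq
    refine ⟨hle, fun h => ?_⟩
    refine Subgroup.map_injective (T : Subgroup (centralizer ({z} : Set G))).subtype_injective ?_
    rw [hAmap]
    show _ = D.bigA.map _
    rw [← heq h]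
    show _ = ((B.map _).map (MulAut.conj c).toMonoidHom).map (MulAut.conj c⁻¹).toMonoidHom
    rw [map_map (B.map _), show (MulAut.conj c⁻¹).toMonoidHom.comp (MulAut.conj c).toMonoidHom =
      MonoidHom.id (centralizer ({z} : Set G)) from MonoidHom.ext fun x => by simp [mul_assoc], map_id]
  refine ⟨A, Set.eq_singleton_iff_unique_mem.2 ⟨⟨hAel, fun B hB => ?_⟩, fun B hB => ?_⟩, hAcard, ?_, ?_⟩
  · rw [hAcard]; exact (hmain B hB).1
  · exact (hmain B hB.1).2 (le_antisymm (hmain B hB.1).1 (hAcard ▸ hB.2 A hAel))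
  · rw [hAmap, show A' ⊓ Q = D.planeLift.map (MulAut.conj c⁻¹).toMonoidHom from ?_,
      card_map_of_injective (MulAut.conj c⁻¹).injective, D.card_planeLift]
    ext x
    constructor
    · rintro ⟨⟨a, ha, rfl⟩, hx⟩
      refine ⟨a, D.bigA_inf a ha ?_, rfl⟩
      have := (inferInstance : Q.Normal).conj_mem _ hx c
      convert this using 1
      simp [mul_assoc]
    · rintro ⟨a, ha, rfl⟩
      exact ⟨mem_map_of_mem _ (D.planeLift_le_bigA ha), (inferInstance : Q.Normal).conj_mem a (D.planeLift_le ha) _⟩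
  · rw [hAmap, map_map, show mk.comp (MulAut.conj c⁻¹).toMonoidHom = (MulAut.conj (mk c⁻¹)).toMonoidHom.comp mk from
      MonoidHom.ext fun a => by simp [map_mul], ← map_map, card_map_of_injective (MulAut.conj (mk c⁻¹)).injective,
      D.map_bigA hf hinv, (Std.planeFix_card hf hinv).1]

end CfsgLib.FiLarge
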