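import Cfsg.Agent.FiLarge.Lift
import Cfsg.Agent.FiLarge.Field
import Mathlib.LinearAlgebra.QuadraticForm.Basic

/-!
Coordinates in which the cover acts monomially through a group of order 243 and the alternating
group of degree six.
-/

set_option autoImplicit false
set_option maxRecDepth 8000

namespace CfsgLib.FiLarge

open QuadraticMap

/-- A faithful orthogonal action of a group with the shape of the quotient. -/
structure Sys (C V P : Type*) [Group C] [Group P] [AddCommGroup V] [Module (ZMod 2) V] where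
  /-- The action. -/
  r : C →* (V ≃ₗ[ZMod 2] V)
  inj : Function.Injective r
  /-- The form. -/
  q : QuadraticForm (ZMod 2) V
  nondeg : ∀ u, (∀ v, polar q u v = 0) → u = 0
  inv : ∀ c v, q (r c v) = q v
  cardV : Nat.card V = 4096
  /-- The subgroup of index two. -/
  M : Subgroup C
  idx : M.index = 2
  /-- The central cover. -/
  cov : Cov M P
  semi : ∀ c : C, c * (cov.x : C) * c⁻¹ = cov.x ∨ c * (cov.x : C) * c⁻¹ = (cov.x : C)⁻¹
  card : Nat.card C = 19595520

variable {C V P : Type*} [Group C] [Group P] [AddCommGroup V] [Module (ZMod 2) V] (S : Sys C V P)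

namespace Sys

include S in
theorem finiteV : Finite V := Nat.finite_of_card_ne_zero (by rw [S.cardV]; norm_num)

/-- The action of the group of order 243. -/
noncomputable def act (y : Y) : Module.End (ZMod 2) V := (S.r (S.cov.phi y : C)).toLinearMap

theorem act_add (a b : Y) (v : V) : S.act (a + b) v = S.act a (S.act b v) := by
  simp only [act, S.cov.phi_add, Subgroup.coe_mul, map_mul]
  rfl

theorem act_zero (v : V) : S.act 0 v = v := by
  have h : S.cov.phi 0 = 1 := mul_left_cancel (a := S.cov.phi 0) (by rw [← S.cov.phi_add, add_zero, mul_one])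
  simp [act, h]

theorem act_faith {y : Y} (h : ∀ v, S.act y v = v) : y = 0 := by
  have h1 : S.r (S.cov.phi y : C) = S.r 1 := by rw [map_one]; exact LinearEquiv.ext h
  refine S.cov.phi_inj (Subtype.ext ((S.inj h1).trans ?_))
  have h0 : S.cov.phi 0 = 1 := mul_left_cancel (a := S.cov.phi 0) (by rw [← S.cov.phi_add, add_zero, mul_one])
  rw [h0]; rfl

theorem act_comm (a b : Y) (v : V) : S.act a (S.act b v) = S.act b (S.act a v) := by
  rw [← act_add, add_comm, act_add]

theorem r_move (g : S.cov.gam) (y : Y) (v : V) :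
    S.r (g.1.1 : C) (S.act y v) = S.act (S.cov.ext.f g y) (S.r (g.1.1 : C) v) := by
  show S.r (g.1.1 : C) (S.r (S.cov.phi y : C) v) = S.r (S.cov.phi (S.cov.move g y) : C) (S.r (g.1.1 : C) v)
  rw [← LinearEquiv.mul_apply, ← LinearEquiv.mul_apply, ← map_mul, ← map_mul, ← Subgroup.coe_mul,
    ← Subgroup.coe_mul, S.cov.phi_move, inv_mul_cancel_right]

theorem r_x (g : S.cov.gam) (v : V) :
    S.r (g.1.1 : C) (S.r (S.cov.x : C) v) = S.r (S.cov.x : C) (S.r (g.1.1 : C) v) := by
  rw [← LinearEquiv.mul_apply, ← LinearEquiv.mul_apply, ← map_mul, ← map_mul, ← Subgroup.coe_mul,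
    ← Subgroup.coe_mul, S.cov.central]

theorem dot_inv (g : S.cov.gam) (l y : Y) :
    dot5 (S.cov.ext.pull g⁻¹ l) (S.cov.ext.f g y) = dot5 l y := by
  rw [Ext.dot_pull, map_inv, Equiv.Perm.coe_inv, Equiv.symm_apply_apply]

theorem last_ne {U : Type*} [AddCommGroup U] [Module (ZMod 2) U] [Finite U] (D : Wt U)
    (hU : Nat.card U ≤ 4 ^ 12) (hinv : ∀ g l, l ∈ D.wts → S.cov.ext.pull g l ∈ D.wts)
    (hneg : ∀ l ∈ D.wts, -l ∈ D.wts) (hfaith : ∀ y, (∀ u, D.act y u = u) → y = 0) :
    ∀ l ∈ D.wts, l 4 ≠ 0 :=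
  (S.cov.ext.six D.wts hinv hneg
    ((Nat.pow_le_pow_iff_right (by norm_num)).1 ((D.four_pow_le subset_rfl).trans hU))
    fun y hy => hfaith y fun u => D.eq_of_dot hy).1

theorem self_sum (v : V) : v + v = 0 := Wt.add_self v

/-- The doubled action. -/
noncomputable def dblWt : Wt (V × V) where
  w :=
    { toFun := fun u => (u.2, u.1 + u.2)
      map_add' := fun u v => Prod.ext rfl (by simp only [Prod.fst_add, Prod.snd_add]; abel)
      map_smul' := fun c u => Prod.ext rfl (by simp [smul_add]) }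
  act y := LinearMap.prodMap (S.act y) (S.act y)
  rel := fun u => by
    refine Prod.ext ?_ ?_
    · show u.1 + u.2 + u.2 + u.1 = 0
      rw [add_assoc u.1, Wt.add_self, add_zero, Wt.add_self]
    · show u.2 + (u.1 + u.2) + (u.1 + u.2) + u.2 = 0
      rw [add_assoc u.2, Wt.add_self, add_zero, Wt.add_self]
  act_zero := fun u => Prod.ext (S.act_zero _) (S.act_zero _)
  act_add := fun a b u => Prod.ext (S.act_add a b _) (S.act_add a b _)
  comm := fun a u => Prod.ext rfl (map_add (S.act a) u.1 u.2).symm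

theorem x_rel (v : V) :
    S.r (S.cov.x : C) (S.r (S.cov.x : C) v) + S.r (S.cov.x : C) v + v = 0 := by
  haveI := S.finiteV
  set D := S.dblWt
  have hlast : ∀ l ∈ D.wts, l 4 ≠ 0 := by
    refine S.last_ne D (by rw [Nat.card_prod, S.cardV]; norm_num) ?_ ?_ ?_
    · intro g l hl
      rw [D.mem_wts] at hl ⊢
      intro h0
      apply hl
      refine LinearMap.ext fun u => ?_
      let h : Module.End (ZMod 2) (V × V) := LinearMap.prodMap (S.r ((g⁻¹).1.1 : C)).toLinearMap
        (S.r ((g⁻¹).1.1 : C)).toLinearMap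
      have e := D.map_proj (f := S.cov.ext.f g⁻¹) (g := h)
        (fun u => Prod.ext rfl (map_add (S.r ((g⁻¹).1.1 : C)) u.1 u.2))
        (fun y u => Prod.ext (S.r_move g⁻¹ y u.1) (S.r_move g⁻¹ y u.2))
        (l := l) (m := S.cov.ext.pull g l)
        (fun y => by have := S.dot_inv g⁻¹ l y; rwa [inv_inv] at this) u
      rw [h0, LinearMap.zero_apply] at e
      exact Prod.ext ((LinearEquiv.map_eq_zero_iff _).1 (congrArg Prod.fst e))
        ((LinearEquiv.map_eq_zero_iff _).1 (congrArg Prod.snd e))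
    · intro l hl
      rw [D.mem_wts] at hl ⊢
      intro h0
      apply hl
      refine LinearMap.ext fun u => ?_
      let cj : Module.End (ZMod 2) (V × V) :=
        { toFun := fun u => (u.1 + u.2, u.2)
          map_add' := fun u v => Prod.ext (by simp only [Prod.fst_add, Prod.snd_add]; abel) rfl
          map_smul' := fun c u => Prod.ext (by simp [smul_add]) rfl }
      have e := D.map_proj_neg (g := cj)
        (fun u => Prod.ext (by
            show u.2 + (u.1 + u.2) = u.1 + u.2 + u.2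
            rw [add_comm])
          (by
            show u.1 + u.2 = u.2 + (u.1 + u.2 + u.2)
            rw [add_assoc u.1, Wt.add_self, add_zero, add_comm]))
        (fun y u => Prod.ext (map_add (S.act y) u.1 u.2).symm rfl) l u
      rw [h0, LinearMap.zero_apply] at e
      have e2 : (D.proj l u).2 = 0 := congrArg Prod.snd e
      have e1 : (D.proj l u).1 + (D.proj l u).2 = 0 := congrArg Prod.fst e
      rw [e2, add_zero] at e1
      exact Prod.ext e1 e2
    · intro y h
      exact S.act_faith fun v => congrArg Prod.fst (h (v, 0))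
  have hz : ∀ u : V × V, D.act (xY + xY) u + D.act xY u + u = 0 := by
    intro u
    have e : ∀ l, D.act (xY + xY) (D.proj l u) + D.act xY (D.proj l u) + D.proj l u = 0 := by
      intro l
      by_cases hl : l ∈ D.wts
      · rw [D.act_proj, D.act_proj, dot5_add, show dot5 l xY = l 4 from dot5_single l 4]
        have h4 : l 4 = 1 ∨ l 4 = 2 :=
          (by decide : ∀ a : ZMod 3, a ≠ 0 → a = 1 ∨ a = 2) _ (hlast l hl)
        rcases h4 with h | h <;> rw [h]
        · rw [show (1 : ZMod 3) + 1 = 2 by decide, D.pw_two, D.pw_one]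
          exact D.rel _
        · rw [show (2 : ZMod 3) + 2 = 1 by decide, D.pw_two, D.pw_one, add_comm (D.w _) (D.w (D.w _))]
          exact D.rel _
      · simp [not_not.1 (mt D.mem_wts.2 hl)]
    rw [← D.sum_proj u]
    simp only [map_sum, ← Finset.sum_add_distrib]
    exact Finset.sum_eq_zero fun l _ => e l
  have h := congrArg Prod.fst (hz (v, 0))
  have hx : ∀ u, S.act xY u = S.r (S.cov.x : C) u := fun u => by simp [act, S.cov.phi_x]
  rw [Prod.fst_add, Prod.fst_add, Prod.fst_zero] at h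
  rw [← hx (S.r _ v), ← hx v, ← S.act_add]
  exact h

/-- The action over the field of four elements. -/
noncomputable def wt : Wt V where
  w := (S.r (S.cov.x : C)).toLinearMap
  act := S.act
  rel := S.x_rel
  act_zero := S.act_zero
  act_add := S.act_add
  comm := fun a v => by
    show S.r (S.cov.x : C) _ = S.act a (S.r (S.cov.x : C) v)
    have hx : ∀ u, S.act xY u = S.r (S.cov.x : C) u := fun u => by simp [act, S.cov.phi_x]
    rw [← hx, ← hx, act_comm]

theorem wt_last {l : Y} (hl : l ∈ S.wt.wts) : l 4 = 1 := by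
  by_contra h
  refine S.wt.mem_wts.1 hl (LinearMap.ext fun v => ?_)
  have hx : S.wt.act xY (S.wt.proj l v) = S.wt.w (S.wt.proj l v) := by
    show S.act xY _ = S.r (S.cov.x : C) _
    simp [act, S.cov.phi_x]
  rw [S.wt.act_proj, show dot5 l xY = l 4 from dot5_single l 4, ← S.wt.pw_one] at hx
  refine S.wt.pw_fix (c := -l 4 + 1) (fun e => h ?_) ?_
  · linear_combination -e
  · rw [S.wt.pw_add, ← hx, ← S.wt.pw_add, neg_add_cancel, S.wt.pw_zero]

theorem wt_pull (g : S.cov.gam) {l : Y} (hl : l ∈ S.wt.wts) : S.cov.ext.pull g l ∈ S.wt.wts := by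
  rw [Wt.mem_wts] at hl ⊢
  intro h0
  apply hl
  refine LinearMap.ext fun v => ?_
  have e := S.wt.map_proj (f := S.cov.ext.f g⁻¹) (g := (S.r ((g⁻¹).1.1 : C)).toLinearMap)
    (fun u => S.r_x g⁻¹ u) (fun y u => S.r_move g⁻¹ y u) (l := l) (m := S.cov.ext.pull g l)
    (fun y => by have := S.dot_inv g⁻¹ l y; rwa [inv_inv] at this) v
  rw [h0, LinearMap.zero_apply] at e
  exact (LinearEquiv.map_eq_zero_iff _).1 e

theorem exists_frame : ∃ e : Fin 6 → Y, Function.Injective e ∧ (∀ i, e i ∈ S.wt.wts) ∧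
    (∀ l ∈ S.wt.wts, ∃ i, e i = l) ∧ (∀ τ : A6, ∃ g, ∀ i, S.cov.ext.pull g (e (τ.1 i)) = e i) ∧
    ∀ v : Fin 6 → ZMod 3, ∑ i, v i = 0 → ∃ y, ∀ i, dot5 (e i) y = v i := by
  classical
  haveI := S.finiteV
  set T := S.wt.wts
  set U := T ∪ T.image Neg.neg
  have hT : T.card ≤ 6 := (Nat.pow_le_pow_iff_right (a := 4) (by norm_num)).1
    ((S.wt.four_pow_le subset_rfl).trans (by rw [S.cardV]))
  have hU : U.card ≤ 12 :=
    ((Finset.card_union_le _ _).trans (add_le_add le_rfl Finset.card_image_le)).trans (by omega)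
  have hneg : ∀ l ∈ U, -l ∈ U := by
    intro l hl
    rcases Finset.mem_union.1 hl with h | h
    · exact Finset.mem_union_right _ (Finset.mem_image_of_mem _ h)
    · obtain ⟨m, hm, rfl⟩ := Finset.mem_image.1 h
      rw [neg_neg]
      exact Finset.mem_union_left _ hm
  have hinv : ∀ g, ∀ l ∈ U, S.cov.ext.pull g l ∈ U := by
    intro g l hl
    rcases Finset.mem_union.1 hl with h | h
    · exact Finset.mem_union_left _ (S.wt_pull g h)
    · obtain ⟨m, hm, rfl⟩ := Finset.mem_image.1 h
      refine Finset.mem_union_right _ (Finset.mem_image.2 ⟨_, S.wt_pull g hm, ?_⟩)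
      funext i
      simp [Ext.pull, neg_dot5]
  obtain ⟨-, e, he, hes, hcov, hperm, himg⟩ := S.cov.ext.six U hinv hneg hU fun y hy =>
    S.act_faith fun v => S.wt.eq_of_dot fun l hl => hy l (Finset.mem_union_left _ hl)
  refine ⟨e, he, fun i => ?_, fun l hl => hcov l (Finset.mem_union_left _ hl) (S.wt_last hl), hperm, himg⟩
  rcases Finset.mem_union.1 (hes i).1 with h | h
  · exact h
  · obtain ⟨m, hm, hme⟩ := Finset.mem_image.1 h
    have h4 := (hes i).2
    rw [← hme, Pi.neg_apply, S.wt_last hm] at h4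
    exact absurd h4 (by decide)

theorem polar_r (c : C) (u v : V) : polar S.q (S.r c u) (S.r c v) = polar S.q u v := by
  simp only [polar, ← map_add, S.inv]

theorem proj_adj (l : Y) (u v : V) :
    polar S.q (S.wt.proj l u) v = polar S.q u (S.wt.proj l v) := by
  have hl : ∀ (ι : Type) [Fintype ι] (f : ι → V) (w : V), polar S.q (∑ i, f i) w = ∑ i, polar S.q (f i) w := by
    intro ι _ f w
    simp only [← polarBilin_apply_apply, map_sum, LinearMap.sum_apply]
  have hr : ∀ (ι : Type) [Fintype ι] (f : ι → V) (w : V), polar S.q w (∑ i, f i) = ∑ i, polar S.q w (f i) := by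
    intro ι _ f w
    simp only [← polarBilin_apply_apply, map_sum]
  rw [S.wt.proj_apply, S.wt.proj_apply, hl, hr]
  conv_rhs => rw [← Equiv.sum_comp (Equiv.neg Y)]
  refine Finset.sum_congr rfl fun y _ => ?_
  have hpw : ∀ (c : ZMod 3) a b, polar S.q (S.wt.pw c a) (S.wt.pw c b) = polar S.q a b := by
    intro c a b
    rcases (by decide : ∀ c : ZMod 3, c = 0 ∨ c = 1 ∨ c = 2) c with rfl | rfl | rfl
    · rw [S.wt.pw_zero, S.wt.pw_zero]
    · rw [S.wt.pw_one, S.wt.pw_one]; exact S.polar_r _ a b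
    · rw [S.wt.pw_two, S.wt.pw_two]; exact (S.polar_r _ _ _).trans (S.polar_r _ a b)
  have hd : dot5 l (-y) = -dot5 l y := by simp [dot5]
  show polar S.q (S.wt.pw (-dot5 l y) (S.wt.act y u)) v =
    polar S.q u (S.wt.pw (-dot5 l (-y)) (S.wt.act (-y) v))
  rw [hd, neg_neg]
  conv_lhs => rw [← S.wt.pw_zero v, ← neg_add_cancel (dot5 l y), S.wt.pw_add, hpw]
  rw [show S.wt.pw (dot5 l y) v = S.wt.act y (S.wt.pw (dot5 l y) (S.wt.act (-y) v)) by
    rw [← S.wt.pw_comm, ← S.wt.act_add, add_neg_cancel, S.wt.act_zero]]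
  exact S.polar_r _ _ _

theorem exists_std : ∃ (Φ : V6 ≃ₗ[ZMod 2] V) (T : Std C),
    (∀ c a, Φ (T.r c a) = S.r c (Φ a)) ∧ (∀ a, S.q (Φ a) = qn a) ∧ T.M = S.M ∧ T.x = S.cov.x := by
  classical
  haveI := S.finiteV
  obtain ⟨e, he, hew, hcov, hperm, himg⟩ := S.exists_frame
  set D := S.wt
  have hwts : D.wts = Finset.univ.image e := by
    ext l
    constructor
    · intro hl
      obtain ⟨i, rfl⟩ := hcov l hl
      exact Finset.mem_image_of_mem _ (Finset.mem_univ i)
    · intro hl
      obtain ⟨i, -, rfl⟩ := Finset.mem_image.1 hl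
      exact hew i
  have hcard : D.wts.card = 6 := by
    rw [hwts, Finset.card_image_of_injective _ he, Finset.card_univ, Fintype.card_fin]
  have hex : ∀ i, ∃ u, D.proj (e i) u ≠ 0 := by
    intro i
    by_contra h
    push Not at h
    exact D.mem_wts.1 (hew i) (LinearMap.ext h)
  choose u hu using hex
  let v : Fin 6 → V := fun i => D.proj (e i) (u i)
  have hpv : ∀ i j, D.proj (e j) (v i) = if j = i then v i else 0 := by
    intro i j
    show D.proj (e j) (D.proj (e i) (u i)) = _
    rw [D.proj_proj]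
    by_cases h : j = i
    · subst h; simp [v]
    · simp [h, he.ne h]
  let part : F4 → V → V := fun c a => c.re • a + c.im • D.w a
  let Φ0 : V6 →ₗ[ZMod 2] V :=
    { toFun := fun a => ∑ i, part (a i) (v i)
      map_add' := fun a b => by
        simp only [part, Pi.add_apply, QuadraticAlgebra.re_add, QuadraticAlgebra.im_add, add_smul]
        rw [← Finset.sum_add_distrib]
        exact Finset.sum_congr rfl fun i _ => by abel
      map_smul' := fun c a => by
        simp only [part, Pi.smul_apply, QuadraticAlgebra.re_smul, QuadraticAlgebra.im_smul, smul_eq_mul,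
          RingHom.id_apply, Finset.smul_sum, smul_add, smul_smul] }
  have hproj : ∀ a j, D.proj (e j) (Φ0 a) = part (a j) (v j) := by
    intro a j
    show D.proj (e j) (∑ i, part (a i) (v i)) = _
    rw [map_sum, Finset.sum_eq_single j]
    · simp [part, D.proj_w, hpv]
    · intro i _ hij
      simp [part, D.proj_w, hpv, Ne.symm hij]
    · simp
  have hw0 : ∀ i, D.w (v i) ≠ 0 := fun i h => hu i (by
    show v i = 0
    rw [← D.w_cube (v i), h, map_zero, map_zero])
  have hwv : ∀ i, D.w (v i) ≠ v i := fun i h => hu i (D.pw_fix one_ne_zero (by rw [D.pw_one]; exact h))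
  have hinj : Function.Injective Φ0 := by
    rw [injective_iff_map_eq_zero]
    intro a ha
    funext i
    have h := hproj a i
    rw [ha, map_zero] at h
    simp only [part] at h
    rcases (by decide : ∀ t : ZMod 2, t = 0 ∨ t = 1) (a i).re with h1 | h1 <;>
      rcases (by decide : ∀ t : ZMod 2, t = 0 ∨ t = 1) (a i).im with h2 | h2 <;>
        simp only [h1, h2, zero_smul, one_smul, zero_add, add_zero] at h
    · exact QuadraticAlgebra.ext h1 h2
    · exact absurd h.symm (hw0 i)
    · exact absurd h.symm (hu i)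
    · exact absurd (add_right_cancel ((h.symm).trans (Wt.add_self (D.w (v i))).symm)).symm (hwv i)
  let Φ : V6 ≃ₗ[ZMod 2] V := LinearEquiv.ofBijective Φ0
    ((Nat.bijective_iff_injective_and_card Φ0).2 ⟨hinj, by
      rw [S.cardV, Nat.card_eq_fintype_card]
      simp [card_F4]⟩)
  have hΦ : ∀ a, Φ a = ∑ i, part (a i) (v i) := fun a => rfl
  have hpart : ∀ c i, part (om * c) (v i) = D.w (part c (v i)) := by
    intro c i
    simp only [part, om, map_add, map_smul, D.w_w, smul_add, QuadraticAlgebra.re_mul,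
      QuadraticAlgebra.im_mul, zero_mul, one_mul, zero_add]
    rw [add_smul]
    abel
  have hpartp : ∀ k c i, part (omp k * c) (v i) = D.pw k (part c (v i)) := by
    intro k c i
    rcases (by decide : ∀ k : ZMod 3, k = 0 ∨ k = 1 ∨ k = 2) k with rfl | rfl | rfl
    · rw [D.pw_zero, omp_zero, one_mul]
    · rw [D.pw_one, show omp 1 = om from rfl, hpart]
    · rw [D.pw_two, show omp 2 = om * om from rfl, mul_assoc, hpart, hpart]
  have hΦw : ∀ a, Φ (om • a) = D.w (Φ a) := by
    intro a
    rw [hΦ, hΦ, map_sum]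
    exact Finset.sum_congr rfl fun i _ => by rw [Pi.smul_apply, smul_eq_mul, hpart]
  have horth : ∀ i j, i ≠ j → ∀ a b, polar S.q (D.proj (e i) a) (D.proj (e j) b) = 0 := by
    intro i j hij a b
    rw [S.proj_adj, D.proj_proj, if_neg (he.ne hij), polar_zero_right]
  have hq1 : ∀ i, S.q (v i) = 1 ∧ S.q (D.w (v i)) = 1 ∧ S.q (v i + D.w (v i)) = 1 := by
    intro i
    have hs : S.q (D.w (v i)) = S.q (v i) := S.inv _ _
    have hp : polar S.q (v i) (D.w (v i)) = 1 := by
      by_contra h
      have h0 : polar S.q (v i) (D.w (v i)) = 0 :=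
        ((by decide : ∀ t : ZMod 2, t = 0 ∨ t = 1) _).resolve_right h
      refine hu i (S.nondeg _ fun y => ?_)
      have hy : polar S.q (v i) y = polar S.q (v i) (D.proj (e i) y) := by
        conv_lhs => rw [← show D.proj (e i) (v i) = v i by rw [hpv, if_pos rfl]]
        rw [S.proj_adj]
      obtain ⟨a, ha⟩ := (Φ : V6 ≃ₗ[ZMod 2] V).surjective y
      rw [hy, ← ha]
      show polar S.q (v i) (D.proj (e i) (Φ0 a)) = 0
      rw [hproj]
      simp only [part, polar_add_right, polar_smul_right, h0, smul_zero, add_zero, polar_self]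
      rw [show (2 : ℕ) • S.q (v i) = 0 by
        rw [two_nsmul]; exact (by decide : ∀ t : ZMod 2, t + t = 0) _, smul_zero]
    have h3 : S.q (v i + D.w (v i)) = S.q (v i) + S.q (v i) + 1 := by
      rw [← hp, polar, hs]
      ring
    have h4 : S.q (v i + D.w (v i)) = S.q (v i) := by
      rw [← S.inv (S.cov.x : C) (v i), ← S.inv (S.cov.x : C) (S.r (S.cov.x : C) (v i))]
      congr 1
      rw [add_comm]
      exact (D.w_w (v i)).symm
    rw [h4, (by decide : ∀ t : ZMod 2, t + t = 0), zero_add] at h3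
    exact ⟨h3, hs.trans h3, h4.trans h3⟩
  have hqΦ : ∀ a, S.q (Φ a) = qn a := by
    intro a
    rw [hΦ]
    have hs : ∀ s : Finset (Fin 6), S.q (∑ i ∈ s, part (a i) (v i)) = ∑ i ∈ s, S.q (part (a i) (v i)) := by
      intro s
      induction s using Finset.induction with
      | empty => simp
      | insert j s hj ih =>
        have hadd : ∀ x y, S.q (x + y) = S.q x + S.q y + polar S.q x y := fun x y => by rw [polar]; ring
        rw [Finset.sum_insert hj, Finset.sum_insert hj, hadd, ih]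
        have h0 : polar S.q (part (a j) (v j)) (∑ i ∈ s, part (a i) (v i)) = 0 := by
          simp only [← polarBilin_apply_apply, map_sum]
          refine Finset.sum_eq_zero fun i hi => ?_
          have h : ∀ k, part (a k) (v k) = D.proj (e k) (part (a k) (v k)) := fun k => by
            simp [part, D.proj_w, hpv]
          rw [polarBilin_apply_apply, h j, h i]
          exact horth j i (fun e => hj (e ▸ hi)) _ _
        rw [h0, add_zero]
    rw [hs, qn]
    refine Finset.sum_congr rfl fun i _ => ?_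
    obtain ⟨h1, h2, h3⟩ := hq1 i
    rcases (by decide : ∀ t : ZMod 2, t = 0 ∨ t = 1) (a i).re with e1 | e1 <;>
      rcases (by decide : ∀ t : ZMod 2, t = 0 ∨ t = 1) (a i).im with e2 | e2
    · rw [if_pos (QuadraticAlgebra.ext e1 e2)]
      simp [part, e1, e2]
    all_goals
      rw [if_neg fun e => by
        have e' := congrArg QuadraticAlgebra.re e
        have e'' := congrArg QuadraticAlgebra.im e
        simp [e1, e2] at e' e'']
      simp [part, e1, e2, h1, h2, h3]
  let r' : C →* (V6 ≃ₗ[ZMod 2] V6) :=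
    { toFun := fun c => (Φ.trans (S.r c)).trans Φ.symm
      map_one' := LinearEquiv.ext fun a => by simp
      map_mul' := fun c d => LinearEquiv.ext fun a => by simp }
  have hr : ∀ c a, Φ (r' c a) = S.r c (Φ a) := fun c a => Φ.apply_symm_apply _
  have hdiag : ∀ t : Fin 6 → ZMod 3, ∑ i, t i = 0 → ∃ c ∈ S.M, ∀ a, r' c a = dmul t a := by
    intro t ht
    obtain ⟨y, hy⟩ := himg t ht
    refine ⟨S.cov.phi y, (S.cov.phi y).2, fun a => Φ.injective ?_⟩
    rw [hr, hΦ, hΦ]
    show D.act y (∑ i, part (a i) (v i)) = _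
    rw [map_sum]
    refine Finset.sum_congr rfl fun i _ => ?_
    rw [dmul, hpartp, ← hy i]
    simp only [part, map_add, map_smul, ← D.comm]
    rw [show D.act y (v i) = D.pw (dot5 (e i) y) (v i) from D.act_proj y (e i) (u i)]
    congr 2
    rw [← D.pw_one, ← D.pw_one, ← D.pw_add, ← D.pw_add, add_comm]
  have hmono : ∀ τ : A6, ∃ c ∈ S.M, ∃ k : Fin 6 → ZMod 3, ∀ a i, r' c a (τ.1 i) = omp (k i) * a i := by
    intro τ
    obtain ⟨g, hg⟩ := hperm τ
    have hk : ∀ i, ∃ k, S.r (g.1.1 : C) (v i) = D.pw k (v (τ.1 i)) := by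
      intro i
      have hm := D.map_proj (f := S.cov.ext.f g) (g := (S.r (g.1.1 : C)).toLinearMap)
        (fun w => S.r_x g w) (fun y w => S.r_move g y w) (l := e i) (m := e (τ.1 i))
        (fun y => by rw [← Ext.dot_pull, hg]) (u i)
      have hne : S.r (g.1.1 : C) (v i) ≠ 0 := (LinearEquiv.map_ne_zero_iff _).2 (hu i)
      obtain ⟨a, ha⟩ := Φ.surjective (S.r (g.1.1 : C) (v i))
      have hfix : D.proj (e (τ.1 i)) (S.r (g.1.1 : C) (v i)) = S.r (g.1.1 : C) (v i) := by
        have h' : S.r (g.1.1 : C) (v i) = D.proj (e (τ.1 i)) (S.r (g.1.1 : C) (u i)) := hm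
        rw [h', D.proj_proj, if_pos rfl]
      rw [← ha] at hfix
      have hp : part (a (τ.1 i)) (v (τ.1 i)) = Φ a := (hproj a _).symm.trans hfix
      obtain ⟨k, hk⟩ := exists_omp (a (τ.1 i)) fun h0 => hne (by
        rw [← ha, ← hp, h0]; simp [part])
      refine ⟨k, ?_⟩
      rw [← ha, ← hp, ← hk, ← mul_one (omp k), hpartp]
      congr 1
      show (1 : F4).re • v (τ.1 i) + (1 : F4).im • D.w (v (τ.1 i)) = _
      rw [show (1 : F4).re = 1 from rfl, show (1 : F4).im = 0 from rfl, one_smul, zero_smul, add_zero]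
    choose k hk using hk
    refine ⟨g.1.1, g.1.1.2, k, fun a i => ?_⟩
    have h : S.r (g.1.1 : C) (Φ a) = Φ fun j => omp (k (τ.1.symm j)) * a (τ.1.symm j) := by
      rw [hΦ, hΦ, map_sum]
      conv_rhs => rw [← Equiv.sum_comp τ.1]
      refine Finset.sum_congr rfl fun i _ => ?_
      rw [Equiv.symm_apply_apply, hpartp]
      simp only [part, map_add, map_smul, hk]
      rw [show S.r (g.1.1 : C) (D.w (v i)) = D.w (S.r (g.1.1 : C) (v i)) from S.r_x g _, hk]
      congr 2
      rw [← D.pw_one, ← D.pw_one, ← D.pw_add, ← D.pw_add, add_comm]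
    rw [← hr] at h
    rw [Φ.injective h]
    simp
  have hmul : ∀ (σ τ : A6) (k m : Fin 6 → ZMod 3) (c d : C),
      (∀ a i, r' c a (σ.1 i) = omp (k i) * a i) → (∀ a i, r' d a (τ.1 i) = omp (m i) * a i) →
      ∀ a i, r' (c * d) a ((σ * τ).1 i) = omp (k (τ.1 i) + m i) * a i := by
    intro σ τ k m c d hc hd a i
    rw [map_mul, LinearEquiv.mul_apply]
    show r' c (r' d a) (σ.1 (τ.1 i)) = _
    rw [hc, hd, omp_add, mul_assoc]
  let G0 : Subgroup A6 :=
    { carrier := {τ | ∃ c ∈ S.M, ∃ k : Fin 6 → ZMod 3, ∑ i, k i = 0 ∧ ∀ a i, r' c a (τ.1 i) = omp (k i) * a i}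
      one_mem' := ⟨1, one_mem _, 0, by simp, fun a i => by simp [omp_zero]⟩
      mul_mem' := by
        rintro σ τ ⟨c, hc, k, hk, hck⟩ ⟨d, hd, m, hm, hdm⟩
        refine ⟨c * d, mul_mem hc hd, fun i => k (τ.1 i) + m i, ?_, hmul σ τ k m c d hck hdm⟩
        rw [Finset.sum_add_distrib, Equiv.sum_comp τ.1 k, hk, hm, add_zero]
      inv_mem' := by
        rintro τ ⟨c, hc, k, hk, hck⟩
        refine ⟨c⁻¹, inv_mem hc, fun i => -k (τ.1.symm i), ?_, fun a i => ?_⟩
        · rw [Finset.sum_neg_distrib, Equiv.sum_comp τ.1.symm k, hk, neg_zero]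
        · have h := hck (r' c⁻¹ a) (τ.1.symm i)
          rw [← LinearEquiv.mul_apply, ← map_mul, mul_inv_cancel, map_one, Equiv.apply_symm_apply] at h
          show r' c⁻¹ a (τ.1.symm i) = _
          rw [show a i = omp (k (τ.1.symm i)) * r' c⁻¹ a (τ.1.symm i) from h, ← mul_assoc, ← omp_add,
            neg_add_cancel, omp_zero, one_mul] }
  have htop : G0 = ⊤ := by
    rw [eq_top_iff, ← commutator_alternatingGroup_eq_top (α := Fin 6) (by simp), commutator_def,
      Subgroup.commutator_le]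
    intro σ _ τ _
    obtain ⟨c, hc, k, hck⟩ := hmono σ
    obtain ⟨d, hd, m, hdm⟩ := hmono τ
    have hinv : ∀ (σ : A6) (c : C) (k : Fin 6 → ZMod 3), (∀ a i, r' c a (σ.1 i) = omp (k i) * a i) →
        ∀ a i, r' c⁻¹ a ((σ⁻¹).1 i) = omp (-k (σ.1.symm i)) * a i := by
      intro σ c k hck a i
      have h := hck (r' c⁻¹ a) (σ.1.symm i)
      rw [← LinearEquiv.mul_apply, ← map_mul, mul_inv_cancel, map_one, Equiv.apply_symm_apply] at h
      show r' c⁻¹ a (σ.1.symm i) = _
      rw [show a i = omp (k (σ.1.symm i)) * r' c⁻¹ a (σ.1.symm i) from h, ← mul_assoc, ← omp_add,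
        neg_add_cancel, omp_zero, one_mul]
    refine ⟨c * d * c⁻¹ * d⁻¹, mul_mem (mul_mem (mul_mem hc hd) (inv_mem hc)) (inv_mem hd), _, ?_,
      hmul _ _ _ _ _ _ (hmul _ _ _ _ _ _ (hmul σ τ k m c d hck hdm) (hinv σ c k hck)) (hinv τ d m hdm)⟩
    simp only [Finset.sum_add_distrib, Finset.sum_neg_distrib]
    have e : ∀ (p : Equiv.Perm (Fin 6)) (f : Fin 6 → ZMod 3), ∑ i, f (p i) = ∑ i, f i := fun p f =>
      Equiv.sum_comp p f
    rw [e (τ⁻¹).1 (fun j => k (τ.1 ((σ⁻¹).1 j))), e (τ⁻¹).1 (fun j => m ((σ⁻¹).1 j)),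
      e (τ⁻¹).1 (fun j => k (σ.1.symm j)), e (σ⁻¹).1 (fun j => k (τ.1 j)), e (σ⁻¹).1 m, e τ.1 k,
      e σ.1.symm k, e τ.1.symm m]
    ring
  refine ⟨Φ,
    { r := r'
      inj := fun c d h => S.inj (LinearEquiv.ext fun w => by
        obtain ⟨a, rfl⟩ := Φ.surjective w
        rw [← hr, ← hr, h])
      inv := fun c a => by rw [← hqΦ, hr, S.inv, hqΦ]
      M := S.M
      idx := S.idx
      x := S.cov.x
      x_mem := S.cov.x.2
      x_act := fun a => Φ.injective (by rw [hr, hΦw]; rfl)
      central := fun c hc => congrArg Subtype.val (S.cov.central ⟨c, hc⟩)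
      semi := S.semi
      card := S.card
      diag := hdiag
      perm := ?_ }, hr, hqΦ, rfl, rfl⟩
  intro τ hτ
  obtain ⟨c, hc, k, hk, hck⟩ : (⟨τ, hτ⟩ : A6)⁻¹ ∈ G0 := htop ▸ Subgroup.mem_top _
  obtain ⟨d, hd, hdk⟩ := hdiag (fun i => -k i) (by rw [Finset.sum_neg_distrib, hk, neg_zero])
  refine ⟨c * d, mul_mem hc hd, fun a => funext fun i => ?_⟩
  rw [map_mul, LinearEquiv.mul_apply]
  have h := hck (r' d a) (τ i)
  rw [show ((⟨τ, hτ⟩ : A6)⁻¹).1 (τ i) = i from τ.symm_apply_apply i, hdk] at h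
  rw [hdk, h, dmul, ← mul_assoc, ← omp_add, add_neg_cancel, omp_zero, one_mul]

end Sys

end CfsgLib.FiLarge
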