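import Cfsg.Prelude.Def_MonsterType
import Cfsg.Agent.FiLarge.Coords
import Cfsg.Agent.Geo.ExtraOut
import Cfsg.Agent.S0280
import Cfsg.Agent.Unitary.Simple
import Cfsg.Agent.LargeExtra.SimpleCriterion

/-!
Coordinates on the involution centraliser of a group of large Fischer type.
-/

set_option autoImplicit false
set_option linter.style.haveILetI false

namespace CfsgLib.FiLarge

open CfsgLib CfsgLib.Quad Subgroup QuadraticMap
open scoped commutatorElement

variable {G : Type*} [Group G]

theorem card_psu43 {F : Type} [Field F] [Fintype F] (hF : Fintype.card F = 9) :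
    Nat.card (Cfsg.PSU 4 F 3) = 3265920 := by
  have := Cfsg.Agent.S0280.result (q := 3) hF 4 (by norm_num)
  norm_num [Finset.prod_range_succ, Nat.even_iff] at this
  omega

/-- Coordinates of the involution centraliser setting. -/
structure Dat (z : G) (Q : Subgroup (centralizer ({z} : Set G))) [Q.Normal] where
  pre : LargeExtra.Pre (Q.map (centralizer ({z} : Set G)).subtype) z
  cardQ : Nat.card Q = 2 ^ 13
  /-- The quotient in standard form. -/
  T : Std ((centralizer ({z} : Set G)) ⧸ Q)
  /-- The projection. -/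
  π : Q → V6
  π_mul : ∀ a b, π (a * b) = π a + π b
  π_surj : Function.Surjective π
  π_eq_zero : ∀ a, π a = 0 ↔ (((a : centralizer ({z} : Set G)) : G) = 1 ∨ ((a : centralizer ({z} : Set G)) : G) = z)
  sq_iff : ∀ a, a * a = 1 ↔ qn (π a) = 0
  comm_iff : ∀ a b, a * b = b * a ↔ qn (π a + π b) = qn (π a) + qn (π b)
  act : ∀ (c : centralizer ({z} : Set G)) (a : Q), π (MulAut.conjNormal c a) = T.r (QuotientGroup.mk c) (π a)

theorem exists_dat [Finite G] {z : G} {Q : Subgroup (centralizer ({z} : Set G))} [Q.Normal]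
    (hF : Cfsg.IsOfLargeFischerTypeAt z Q) : Nonempty (Dat z Q) := by
  classical
  obtain ⟨⟨hz, hFit, hQ, hcardQ, -⟩, N, M, hN, hM, hQN, hNM, hcardN, ⟨K, _, _, hK, ⟨iso⟩⟩, hMidx⟩ := hF
  set QG := Q.map (centralizer ({z} : Set G)).subtype with hQG
  have hQe : Cfsg.IsExtraspecial 2 QG :=
    LargeExtra.isExtraspecial_equiv (Q.equivMapOfInjective _ (centralizer ({z} : Set G)).subtype_injective) hQ
  have hpre : LargeExtra.Pre QG z := LargeExtra.pre_of_fstar hz (by rw [hFit]) hQe
  obtain ⟨V, _, _, ⟨D⟩⟩ := Geo.ExtraOut.exists_data hQ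
  obtain ⟨hfin, hV⟩ := D.card_V (n := 6) (by rw [hcardQ])
  haveI := hfin
  let α : (centralizer ({z} : Set G)) →* oGroup D.form := D.toO.comp MulAut.conjNormal
  have hα : ∀ c (a : Q), (α c).1 (D.proj a) = D.proj (MulAut.conjNormal c a) := fun c a => D.toO_apply _ a
  have hmemQ : ∀ q ∈ QG, ∃ a : Q, ((a : (centralizer ({z} : Set G))) : G) = q := by
    rintro _ ⟨a, ha, rfl⟩; exact ⟨⟨a, ha⟩, rfl⟩
  have hker : α.ker = Q := by
    ext c
    constructor
    · intro hc
      have h1 : MulAut.conjNormal c ∈ Cfsg.Inn Q := D.ker_toO ▸ (show MulAut.conjNormal c ∈ D.toO.ker from hc)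
      obtain ⟨x, hx⟩ := MonoidHom.mem_range.1 h1
      have hxc : ((x : (centralizer ({z} : Set G))) : G)⁻¹ * (c : G) ∈ QG := by
        refine hpre.self (mem_centralizer_iff.2 ?_)
        rintro _ ⟨q, hq, rfl⟩
        have e1 : (x : (centralizer ({z} : Set G))) * q * (x : (centralizer ({z} : Set G)))⁻¹ = c * q * c⁻¹ := by
          have := congrArg Subtype.val (DFunLike.congr_fun hx (⟨q, hq⟩ : Q))
          simpa [MulAut.conjNormal_apply] using this
        have e2 : ((x : (centralizer ({z} : Set G))) : G) * (q : G) * ((x : (centralizer ({z} : Set G))) : G)⁻¹ = (c : G) * q * (c : G)⁻¹ :=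
          congrArg Subtype.val e1
        show (q : G) * (((x : (centralizer ({z} : Set G))) : G)⁻¹ * c) = ((x : (centralizer ({z} : Set G))) : G)⁻¹ * c * q
        calc (q : G) * (((x : (centralizer ({z} : Set G))) : G)⁻¹ * c)
            = ((x : (centralizer ({z} : Set G))) : G)⁻¹ * (((x : (centralizer ({z} : Set G))) : G) * q * ((x : (centralizer ({z} : Set G))) : G)⁻¹) * c := by group
          _ = ((x : (centralizer ({z} : Set G))) : G)⁻¹ * c * q := by rw [e2]; group
      obtain ⟨y, hy, hyc⟩ := hxc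
      have : c = (x : (centralizer ({z} : Set G))) * y := Subtype.ext (by
        show (c : G) = ((x : (centralizer ({z} : Set G))) : G) * (y : G)
        rw [show (y : G) = _ from hyc, mul_inv_cancel_left])
      rw [this]; exact mul_mem x.2 hy
    · intro hc
      show MulAut.conjNormal c ∈ D.toO.ker
      rw [D.ker_toO]
      exact ⟨⟨c, hc⟩, MulEquiv.ext fun a => Subtype.ext rfl⟩
  let toLin : oGroup D.form →* (V ≃ₗ[ZMod 2] V) :=
    { toFun := fun g => g.1
      map_one' := rfl
      map_mul' := fun g h => rfl }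
  let rV : (centralizer ({z} : Set G)) ⧸ Q →* (V ≃ₗ[ZMod 2] V) :=
    toLin.comp (QuotientGroup.lift Q α hker.ge)
  have hrV : ∀ (c : centralizer ({z} : Set G)) (a : Q),
      rV (QuotientGroup.mk c) (D.proj a) = D.proj (MulAut.conjNormal c a) := fun c a => hα c a
  have hrVinj : Function.Injective rV := by
    refine Function.Injective.comp (g := toLin) (fun g h e => Subtype.ext e) ?_
    refine (injective_iff_map_eq_one _).2 fun x hx => ?_
    obtain ⟨g, rfl⟩ := QuotientGroup.mk_surjective x
    exact (QuotientGroup.eq_one_iff g).2 (hker ▸ hx)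
  have hrVq : ∀ x v, D.form (rV x v) = D.form v := by
    intro x v
    obtain ⟨c, rfl⟩ := QuotientGroup.mk_surjective x
    obtain ⟨a, rfl⟩ := D.proj_surj v
    rw [hrV, D.form_proj, D.form_proj, ← map_pow, D.bit_aut]
  -- the subgroup of index two
  let mk := QuotientGroup.mk' Q
  set M' := M.map mk
  have hQM : Q ≤ M := hQN.trans hNM
  have hidx : M'.index = 2 := by
    rw [Subgroup.index_map_eq _ (QuotientGroup.mk'_surjective Q) (by rwa [QuotientGroup.ker_mk']), hMidx]
  let f : ↥M →* ↥M' := mk.subgroupMap M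
  have hfsurj : Function.Surjective f := MonoidHom.subgroupMap_surjective _ _
  let g0 : ↥M →* Cfsg.PSU 4 K 3 := iso.toMonoidHom.comp (QuotientGroup.mk' (N.subgroupOf M))
  have hg0 : ∀ m : M, g0 m = 1 ↔ (m : centralizer ({z} : Set G)) ∈ N := fun m => by
    show iso (QuotientGroup.mk m) = 1 ↔ _
    rw [iso.map_eq_one_iff, QuotientGroup.eq_one_iff, Subgroup.mem_subgroupOf]
  have hfk : f.ker ≤ g0.ker := by
    intro m hm
    have h : (QuotientGroup.mk (m : centralizer ({z} : Set G)) : _ ⧸ Q) = 1 := congrArg Subtype.val (MonoidHom.mem_ker.1 hm)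
    exact MonoidHom.mem_ker.2 ((hg0 m).2 (hQN ((QuotientGroup.eq_one_iff _).1 h)))
  let ψ : ↥M' →* Cfsg.PSU 4 K 3 := MonoidHom.liftOfSurjective f hfsurj ⟨g0, hfk⟩
  have hψ : ∀ m, ψ (f m) = g0 m := fun m =>
    MonoidHom.liftOfRightInverse_comp_apply f _ _ ⟨g0, hfk⟩ m
  have hψs : Function.Surjective ψ := fun p => by
    obtain ⟨m, hm⟩ := QuotientGroup.mk_surjective (iso.symm p)
    exact ⟨f m, by rw [hψ]; show iso (QuotientGroup.mk m) = p; rw [hm, iso.apply_symm_apply]⟩
  set X := N.map mk with hX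
  haveI hXn : X.Normal := Subgroup.Normal.map hN _ (QuotientGroup.mk'_surjective Q)
  have hmemX : ∀ c : centralizer ({z} : Set G), mk c ∈ X ↔ c ∈ N := by
    intro c
    rw [← Subgroup.mem_comap, hX, Subgroup.comap_map_eq, QuotientGroup.ker_mk', sup_eq_left.2 hQN]
  have hXcard : Nat.card X = 3 := by
    have h := Subgroup.card_eq_card_quotient_mul_card_subgroup (Q.subgroupOf N)
    rw [Nat.card_congr (Subgroup.subgroupOfEquivOfLe hQN).toEquiv, hcardN] at h
    have h2 : Nat.card X = Nat.card (↥N ⧸ Q.subgroupOf N) := by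
      rw [← Subgroup.index_eq_card, ← Subgroup.relIndex]
      have h3 := Subgroup.relIndex_ker (K := N) mk
      rw [QuotientGroup.ker_mk'] at h3
      exact h3.symm
    rw [h2]
    exact Nat.eq_of_mul_eq_mul_right Nat.card_pos h.symm
  have hXM : X ≤ M' := Subgroup.map_mono hNM
  obtain ⟨xX, hxX⟩ : ∃ x : X, x ≠ 1 := by
    haveI : Nontrivial X := (Finite.one_lt_card_iff_nontrivial).1 (by rw [hXcard]; norm_num)
    exact exists_ne 1
  set x0 : (centralizer ({z} : Set G)) ⧸ Q := xX.1
  have hx03 : x0 ^ 3 = 1 := by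
    have h := pow_card_eq_one' (x := xX)
    rw [hXcard] at h
    exact congrArg Subtype.val h
  let x : ↥M' := ⟨x0, hXM xX.2⟩
  have hx3 : x ^ 3 = 1 := Subtype.ext hx03
  have hx1 : x ≠ 1 := fun e => hxX (Subtype.ext (show x0 = 1 from congrArg Subtype.val e))
  have hXmem : ∀ y ∈ X, ∃ c : ZMod 3, y = zp x0 c := by
    intro y hy
    haveI : Fact (Nat.Prime 3) := ⟨Nat.prime_three⟩
    have hgen : Subgroup.zpowers xX = ⊤ := zpowers_eq_top_of_prime_card hXcard hxX
    obtain ⟨k, hk⟩ : (⟨y, hy⟩ : X) ∈ Subgroup.zpowers xX := hgen ▸ Subgroup.mem_top _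
    refine ⟨(k : ZMod 3), ?_⟩
    have hk' : x0 ^ k = y := congrArg Subtype.val hk
    rw [← hk', zp, ← zpow_natCast, ZMod.val_intCast]
    exact zpow_eq_zpow_emod' k hx03
  have hker' : ∀ m : M', ψ m = 1 ↔ ∃ c : ZMod 3, m = zp x c := by
    intro m
    constructor
    · intro h
      obtain ⟨m, rfl⟩ := hfsurj m
      obtain ⟨c, hc⟩ := hXmem _ ((hmemX m).2 ((hg0 m).1 (by rwa [← hψ])))
      exact ⟨c, Subtype.ext hc⟩
    · rintro ⟨c, rfl⟩
      rw [zp, map_pow]
      obtain ⟨m, hm⟩ := hfsurj x
      have hmN : (m : centralizer ({z} : Set G)) ∈ N := (hmemX m).1 (by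
        have e : mk m = x0 := congrArg Subtype.val hm
        rw [e]; exact xX.2)
      rw [← hm, hψ, (hg0 m).2 hmN, one_pow]
  have hsemi : ∀ c : (centralizer ({z} : Set G)) ⧸ Q, c * x0 * c⁻¹ = x0 ∨ c * x0 * c⁻¹ = x0⁻¹ := by
    intro c
    obtain ⟨k, hk⟩ := hXmem _ (hXn.conj_mem _ xX.2 c)
    rcases (by decide : ∀ k : ZMod 3, k = 0 ∨ k = 1 ∨ k = 2) k with rfl | rfl | rfl
    · rw [zp_zero, conj_eq_one_iff] at hk
      exact absurd (Subtype.ext hk) hxX
    · exact Or.inl (by rw [hk, zp_one])
    · refine Or.inr (hk.trans ?_)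
      exact eq_inv_of_mul_eq_one_left (by
        show x0 ^ 2 * x0 = 1
        rw [← pow_succ, hx03])
  have hF3 : Nat.card K = 3 ^ 2 := by rw [Nat.card_eq_fintype_card, hK]; rfl
  haveI hsimp : IsSimpleGroup (Cfsg.PSU 4 K 3) := Unitary.isSimpleGroup_PSU hF3 (by norm_num) (by omega)
  have hcP := card_psu43 hK
  have hcent : ∀ m : M', m * x = x * m := by
    let Kc : Subgroup M' := Subgroup.centralizer ({x} : Set M')
    let sx : Set M' := {y | y = x ∨ y = x⁻¹}
    have hsx : ∀ m : M', m * x * m⁻¹ = x ∨ m * x * m⁻¹ = x⁻¹ := fun m =>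
      (hsemi m.1).imp (fun e => Subtype.ext e) fun e => Subtype.ext e
    have hKn : Kc.Normal := by
      refine ⟨fun a ha m => ?_⟩
      rw [Subgroup.mem_centralizer_singleton_iff] at ha ⊢
      have ha' : Commute a x := ha
      have hm : Commute a (m⁻¹ * x * m) := by
        rcases hsx m⁻¹ with e | e <;> rw [inv_inv] at e <;> rw [e]
        exacts [ha', ha'.inv_right]
      calc m * a * m⁻¹ * x = m * (a * (m⁻¹ * x * m)) * m⁻¹ := by group
        _ = m * ((m⁻¹ * x * m) * a) * m⁻¹ := by rw [hm.eq]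
        _ = x * (m * a * m⁻¹) := by group
    have hmap : (Kc.map ψ).Normal := Subgroup.Normal.map hKn ψ hψs
    have hsq : ∀ m : M', m * m ∈ Kc := by
      intro m
      rw [Subgroup.mem_centralizer_singleton_iff]
      have : m * m * x * (m * m)⁻¹ = x := by
        calc m * m * x * (m * m)⁻¹ = m * (m * x * m⁻¹) * m⁻¹ := by group
          _ = x := by
            rcases hsx m with e | e <;> rw [e]
            · exact e
            · calc m * x⁻¹ * m⁻¹ = (m * x * m⁻¹)⁻¹ := by group
                _ = x := by rw [e, inv_inv]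
      exact mul_inv_eq_iff_eq_mul.1 this
    rcases hsimp.eq_bot_or_eq_top_of_normal _ hmap with h | h
    · exfalso
      haveI : Fact (Nat.Prime 5) := ⟨by norm_num⟩
      obtain ⟨p, hp⟩ := exists_prime_orderOf_dvd_card' 5 (G := Cfsg.PSU 4 K 3) (by rw [hcP]; norm_num)
      obtain ⟨m, hm⟩ := hψs p
      have h1 : ψ (m * m) = 1 := (Subgroup.eq_bot_iff_forall _).1 h _ (Subgroup.mem_map_of_mem _ (hsq m))
      rw [map_mul, hm, ← pow_two] at h1
      have := orderOf_dvd_of_pow_eq_one h1
      rw [hp] at this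
      norm_num at this
    · intro m
      obtain ⟨k, hk, hkm⟩ : ψ m ∈ Kc.map ψ := h ▸ Subgroup.mem_top _
      obtain ⟨c, hc⟩ := (hker' (k⁻¹ * m)).1 (by rw [map_mul, map_inv, hkm, inv_mul_cancel])
      have hk' : Commute k x := Subgroup.mem_centralizer_singleton_iff.1 hk
      rw [inv_mul_eq_iff_eq_mul.1 hc]
      exact (hk'.mul_left ((Commute.refl x).pow_left _)).eq
  obtain ⟨L, hL1, hL2, hL3⟩ := exists_model K hK
  have hcardC : Nat.card ((centralizer ({z} : Set G)) ⧸ Q) = 19595520 := by
    rw [← Subgroup.index_mul_card M', hidx]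
    have h := Subgroup.card_eq_card_quotient_mul_card_subgroup ψ.ker
    rw [Nat.card_congr (QuotientGroup.quotientKerEquivOfSurjective ψ hψs).toEquiv, hcP] at h
    have hk : Nat.card ψ.ker = 3 := by
      rw [show ψ.ker = Subgroup.zpowers x from ?_, Nat.card_zpowers]
      · haveI : Fact (Nat.Prime 3) := ⟨Nat.prime_three⟩
        exact orderOf_eq_prime hx3 hx1
      ext m
      rw [MonoidHom.mem_ker, hker']
      constructor
      · rintro ⟨c, rfl⟩; exact Subgroup.pow_mem _ (Subgroup.mem_zpowers x) _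
      · rintro ⟨k, rfl⟩
        refine ⟨(k : ZMod 3), ?_⟩
        show x ^ k = _
        rw [zp, ← zpow_natCast, ZMod.val_intCast]
        exact zpow_eq_zpow_emod' k hx3
    rw [h, hk]
  let S : Sys ((centralizer ({z} : Set G)) ⧸ Q) V (Cfsg.PSU 4 K 3) :=
    { r := rV
      inj := hrVinj
      q := D.form
      nondeg := fun u hu => D.nondeg.1 u fun v => by rw [polarBilin_apply_apply]; exact hu v
      inv := hrVq
      cardV := by rw [hV]; norm_num
      M := M'
      idx := hidx
      cov :=
        { ψ := ψ, surj := hψs, x := x, pow3 := hx3, ne1 := hx1, ker := hker', central := hcent, L := L,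
          L_add := hL1, L_inj := hL2, norm := hL3 }
      semi := hsemi
      card := hcardC }
  obtain ⟨Φ, T, hT, hq, -, -⟩ := S.exists_std
  refine ⟨{
    pre := hpre
    cardQ := by rw [hcardQ]
    T := T
    π := fun a => Φ.symm (D.proj a)
    π_mul := fun a b => by rw [D.proj_mul, map_add]
    π_surj := Φ.symm.surjective.comp D.proj_surj
    π_eq_zero := fun a => ?_
    sq_iff := fun a => ?_
    comm_iff := fun a b => ?_
    act := fun c a => Φ.injective (by
      rw [hT, Φ.apply_symm_apply, Φ.apply_symm_apply]; exact (hrV c a).symm) }⟩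
  · show Φ.symm (D.proj a) = 0 ↔ _
    rw [LinearEquiv.map_eq_zero_iff, D.proj_eq_zero]
    constructor
    · intro h
      refine hpre.gen.center_iff _ (mem_map_of_mem _ a.2) fun y hy => ?_
      obtain ⟨b, rfl⟩ := hmemQ y hy
      exact (congrArg (fun t : Q => ((t : (centralizer ({z} : Set G))) : G)) (mem_center_iff.1 h b)).symm
    · intro h
      refine mem_center_iff.2 fun b => Subtype.ext (Subtype.ext ?_)
      show ((b : (centralizer ({z} : Set G))) : G) * ((a : (centralizer ({z} : Set G))) : G) = ((a : (centralizer ({z} : Set G))) : G) * ((b : (centralizer ({z} : Set G))) : G)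
      rcases h with h | h <;> rw [h]
      · rw [mul_one, one_mul]
      · exact mem_centralizer_singleton_iff.1 (b : (centralizer ({z} : Set G))).2
  · rw [← hq, Φ.apply_symm_apply, D.form_proj, ← pow_two]
    constructor
    · intro h
      rw [h, Geo.ExtraOut.bit_one]
    · intro h
      exact D.bit_inj (D.sq_mem a) (one_mem _) (h.trans Geo.ExtraOut.bit_one.symm)
  · rw [← hq, ← hq, ← hq, map_add, Φ.apply_symm_apply, Φ.apply_symm_apply]
    have hp : D.form (D.proj a + D.proj b) = D.form (D.proj a) + D.form (D.proj b) + Geo.ExtraOut.bit ⁅a, b⁆ := by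
      rw [← D.polar_form, polar]; ring
    rw [hp, add_eq_left]
    constructor
    · intro h
      rw [commutatorElement_eq_one_iff_mul_comm.2 h, Geo.ExtraOut.bit_one]
    · intro h
      exact commutatorElement_eq_one_iff_mul_comm.1
        (D.bit_inj (D.comm_mem a b) (one_mem _) (h.trans Geo.ExtraOut.bit_one.symm))

end CfsgLib.FiLarge
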