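import Cfsg.Agent.FiLarge.Inverting
import Cfsg.Agent.Spor3T.MinusSixAut

/-!
The stabiliser of a vector of the short orbit is the automorphism group of `PSU(4,2)`.
-/

set_option autoImplicit false
set_option maxRecDepth 100000
set_option linter.style.haveILetI false

namespace CfsgLib.FiLarge

open CfsgLib Subgroup Matrix

/-- The four coordinates outside the first two. -/
def tl (i : Fin 4) : Fin 6 := ⟨i.val + 2, by omega⟩

/-- The unit vectors. -/
def dl (j : Fin 6) : V6 := Pi.single j 1

theorem F4_natcard : Nat.card F4 = 2 ^ 2 := by rw [Nat.card_eq_fintype_card]; rfl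

theorem tail_split (w : V6) (hw : w 0 = w 1) : w = w 0 • v2 + ∑ j : Fin 4, w (tl j) • dl (tl j) := by
  funext i
  simp only [Pi.add_apply, Finset.sum_apply, Pi.smul_apply, smul_eq_mul, Fin.sum_univ_four]
  fin_cases i <;> simp [v2, nf, dl, tl, hw]

theorem herm_v2 (w : V6) : herm w v2 = w 0 + w 1 := by
  simp [herm, v2, nf, Fin.sum_univ_six]

theorem herm_tail (a b : V6) (ha : a 0 = a 1) (hb : b 0 = b 1) :
    herm a b = Cfsg.hermForm 4 F4 2 (fun i => a (tl i)) (fun i => b (tl i)) := by
  have h2 : ∀ x : F4, x + x = 0 := by decide +kernel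
  simp only [herm, Cfsg.hermForm, Fin.sum_univ_six, Fin.sum_univ_four, pow_two, ha, hb, h2, zero_add]
  rfl

/-- A word of diagonal exponents vanishing on the first two places. -/
theorem sep_exp : ∀ k : Fin 4, ∀ j : Fin 4, j ≠ k → ∃ e : Fin 6 → ZMod 3, e 0 = 0 ∧ e 1 = 0 ∧
    ∑ i, e i = 0 ∧ e (tl j) = 0 ∧ ∀ l : Fin 4, l ≠ j → e (tl l) = 1 := by decide +kernel

theorem scal_exp : ∀ k : Fin 4, ∃ e : Fin 6 → ZMod 3, e 0 = 0 ∧ e 1 = 0 ∧
    ∑ i, e i = 0 ∧ e (tl k) = 2 := by decide +kernel

theorem move_tail : ∀ k l : Fin 4, ∃ w ∈ altWords, wordFun w 0 = 0 ∧ wordFun w 1 = 1 ∧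
    wordFun w (tl l) = tl k ∧ ∀ m : Fin 4, ∃ m' : Fin 4, wordFun w (tl m) = tl m' := by decide +kernel

theorem semi_exp : ∀ k : Fin 6, ∃ e : Fin 6 → ZMod 3, e 0 = 0 ∧ e 1 = 0 ∧ ∑ i, e i = 0 ∧
    e 2 = 1 ∧ e k ≠ 2 := by decide +kernel

namespace Std

variable {C : Type*} [Group C] [Finite C] (T : Std C)

/-- The linear part of the stabiliser of the short vector. -/
def lstab : Subgroup C := T.stab v2 ⊓ T.M

theorem lin {g : C} (hg : g ∈ T.M) : g * T.x * g⁻¹ = T.x := by rw [T.central g hg, mul_inv_cancel_right]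

theorem balanced {g : C} (hg : g ∈ T.lstab) {w : V6} (hw : w 0 = w 1) : T.r g w 0 = T.r g w 1 := by
  have h2 : ∀ x y : F4, x + y = 0 → x = y := by decide +kernel
  refine h2 _ _ ?_
  rw [← herm_v2, ← (hg.1 : T.r g v2 = v2), T.herm_r (T.lin hg.2), herm_v2, hw]
  exact (by decide +kernel : ∀ x : F4, x + x = 0) _

theorem dl_tail (j : Fin 4) : dl (tl j) 0 = dl (tl j) 1 := by fin_cases j <;> simp [dl, tl]

/-- The matrix on the four coordinates. -/
def mat4S (g : C) : Matrix (Fin 4) (Fin 4) F4 := Matrix.of fun i j => T.r g (dl (tl j)) (tl i)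

theorem rest {g : C} (hg : g ∈ T.lstab) {w : V6} (hw : w 0 = w 1) (i : Fin 4) :
    T.r g w (tl i) = (T.mat4S g *ᵥ fun j => w (tl j)) i := by
  conv_lhs => rw [tail_split w hw]
  rw [map_add, map_sum, T.semilinear (T.lin hg.2), (hg.1 : T.r g v2 = v2)]
  simp only [T.semilinear (T.lin hg.2), Pi.add_apply, Finset.sum_apply, Pi.smul_apply, smul_eq_mul,
    Matrix.mulVec, dotProduct, mat4S, Matrix.of_apply]
  have : v2 (tl i) = 0 := by fin_cases i <;> rfl
  rw [this, mul_zero, zero_add]
  exact Finset.sum_congr rfl fun j _ => mul_comm _ _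

theorem mat4S_one : T.mat4S 1 = 1 := by
  refine Matrix.ext fun i j => ?_
  rw [mat4S, Matrix.of_apply, r_one]
  fin_cases i <;> fin_cases j <;> simp [dl, tl]

theorem mat4S_mul {g h : C} (hg : g ∈ T.lstab) (hh : h ∈ T.lstab) :
    T.mat4S (g * h) = T.mat4S g * T.mat4S h := by
  refine Matrix.ext fun i j => ?_
  rw [mat4S, Matrix.of_apply, r_mul, T.rest hg (T.balanced hh (dl_tail j))]
  rfl

theorem mat4S_herm {g : C} (hg : g ∈ T.lstab) (u v : Fin 4 → F4) :
    Cfsg.hermForm 4 F4 2 (T.mat4S g *ᵥ u) (T.mat4S g *ᵥ v) = Cfsg.hermForm 4 F4 2 u v := by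
  let ext4 : (Fin 4 → F4) → V6 := fun u => ![0, 0, u 0, u 1, u 2, u 3]
  have hu : ∀ u, (fun i => ext4 u (tl i)) = u := fun u => funext fun i => by fin_cases i <;> rfl
  have h := T.herm_r (T.lin hg.2) (ext4 u) (ext4 v)
  rw [herm_tail _ _ (T.balanced hg rfl) (T.balanced hg rfl), herm_tail _ _ rfl rfl, hu, hu] at h
  have e : ∀ u, (fun i => T.r g (ext4 u) (tl i)) = T.mat4S g *ᵥ u := fun u => funext fun i => by
    rw [T.rest hg (rfl : ext4 u 0 = ext4 u 1), hu]
  rwa [e, e] at h

theorem det_ne {g : C} (hg : g ∈ T.lstab) : (T.mat4S g).det ≠ 0 := by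
  intro h
  have e := congrArg Matrix.det (T.mat4S_mul hg (inv_mem hg))
  rw [mul_inv_cancel, T.mat4S_one, Matrix.det_mul, h, zero_mul, Matrix.det_one] at e
  exact one_ne_zero e

theorem scaled_det {g : C} (hg : g ∈ T.lstab) :
    ((T.mat4S g).det⁻¹ • T.mat4S g).det = 1 := by
  rw [Matrix.det_smul, Fintype.card_fin]
  have : ∀ x : F4, x ≠ 0 → (x * (x * (x * x))) = x := by decide +kernel
  rw [show ((T.mat4S g).det⁻¹) ^ 4 = (T.mat4S g).det⁻¹ by
    conv_rhs => rw [← this _ (inv_ne_zero (T.det_ne hg))]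
    ring]
  exact inv_mul_cancel₀ (T.det_ne hg)

theorem scaled_mem {g : C} (hg : g ∈ T.lstab) :
    (⟨(T.mat4S g).det⁻¹ • T.mat4S g, T.scaled_det hg⟩ : Matrix.SpecialLinearGroup (Fin 4) F4) ∈
      Cfsg.SU 4 F4 2 := by
  intro u v
  show Cfsg.hermForm 4 F4 2 (((T.mat4S g).det⁻¹ • T.mat4S g) *ᵥ u)
    (((T.mat4S g).det⁻¹ • T.mat4S g) *ᵥ v) = _
  rw [← T.mat4S_herm hg u v]
  have h3 : ∀ x : F4, x ≠ 0 → x * x ^ 2 = 1 := by decide +kernel
  simp only [Cfsg.hermForm, Matrix.smul_mulVec, Pi.smul_apply, smul_eq_mul, mul_pow]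
  refine Finset.sum_congr rfl fun i _ => ?_
  linear_combination ((T.mat4S g *ᵥ u) i * ((T.mat4S g *ᵥ v) i) ^ 2) * h3 _ (inv_ne_zero (T.det_ne hg))

/-- The map to the special unitary group. -/
noncomputable def toSU : T.lstab →* Cfsg.SU 4 F4 2 where
  toFun g := ⟨⟨_, T.scaled_det g.2⟩, T.scaled_mem g.2⟩
  map_one' := Subtype.ext (Subtype.ext (by
    show (T.mat4S 1).det⁻¹ • T.mat4S 1 = 1
    rw [T.mat4S_one, Matrix.det_one, inv_one, one_smul]))
  map_mul' g h := Subtype.ext (Subtype.ext (by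
    show (T.mat4S (g.1 * h.1)).det⁻¹ • T.mat4S (g.1 * h.1) =
      ((T.mat4S g.1).det⁻¹ • T.mat4S g.1) * ((T.mat4S h.1).det⁻¹ • T.mat4S h.1)
    rw [T.mat4S_mul g.2 h.2, Matrix.det_mul, Matrix.smul_mul, Matrix.mul_smul, smul_smul, mul_inv]))

theorem card_lstab : Nat.card T.lstab = 25920 := by
  have h := T.card_orb T.M v2
  rw [(T.card_small le_rfl).1, T.card_M] at h
  show Nat.card ↥(T.stab v2 ⊓ T.M) = _
  omega

/-- The elements acting trivially on the four coordinates. -/
theorem card_trivial : Nat.card {g : T.lstab // T.mat4S g.1 = 1} ≤ 2 := by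
  classical
  let K : Subgroup T.lstab :=
    { carrier := {g | T.mat4S g.1 = 1}
      one_mem' := T.mat4S_one
      mul_mem' := fun {a b} (ha : T.mat4S a.1 = 1) (hb : T.mat4S b.1 = 1) => by
        show T.mat4S (a.1 * b.1) = 1
        rw [T.mat4S_mul a.2 b.2, ha, hb, one_mul]
      inv_mem' := fun {a} (ha : T.mat4S a.1 = 1) => by
        show T.mat4S a.1⁻¹ = 1
        have h := T.mat4S_mul a.2 (inv_mem a.2)
        rwa [mul_inv_cancel, T.mat4S_one, ha, one_mul, eq_comm] at h }
  have hcol : ∀ g ∈ K, ∀ j, T.r (g : C) (dl (tl j)) = dl (tl j) + T.r (g : C) (dl (tl j)) 0 • v2 := by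
    intro g hg j
    funext i
    have hb := T.balanced g.2 (dl_tail j)
    have ht : ∀ l : Fin 4, T.r (g : C) (dl (tl j)) (tl l) = dl (tl j) (tl l) := by
      intro l
      have h := congrFun (congrFun (hg : T.mat4S g.1 = 1) l) j
      rw [mat4S, Matrix.of_apply] at h
      rw [h]
      fin_cases l <;> fin_cases j <;> simp [dl, tl]
    have h2 := ht 0; have h3 := ht 1; have h4 := ht 2; have h5 := ht 3
    fin_cases i <;> fin_cases j <;> simp_all [v2, nf, dl, tl]
  let a : K →* Multiplicative (Fin 4 → F4) :=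
    { toFun := fun g => Multiplicative.ofAdd fun j => T.r (g.1 : C) (dl (tl j)) 0
      map_one' := by
        refine congrArg Multiplicative.ofAdd (funext fun j => ?_)
        show T.r 1 (dl (tl j)) 0 = 0
        rw [r_one]
        fin_cases j <;> simp [dl, tl]
      map_mul' := fun g h => by
        refine congrArg Multiplicative.ofAdd (funext fun j => ?_)
        show T.r (g.1.1 * h.1.1) (dl (tl j)) 0 = _
        rw [r_mul, hcol h.1 h.2 j, map_add, T.semilinear (T.lin g.1.2.2), (g.1.2.1 : T.r _ v2 = v2)]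
        simp [v2, nf] }
  have hA : ∀ f ∈ a.range, ∀ c ∈ T.lstab, (∀ j, ∃ j', ∀ i, T.r c⁻¹ (dl (tl j)) i = T.r c⁻¹ (dl (tl j)) (tl j') * dl (tl j') i) →
      Multiplicative.ofAdd (fun j => ∑ j' : Fin 4, T.r c⁻¹ (dl (tl j)) (tl j') * Multiplicative.toAdd f j') ∈ a.range := by
    rintro _ ⟨g, rfl⟩ c hc hmon
    let cc : T.lstab := ⟨c, hc⟩
    have hconj : cc * g.1 * cc⁻¹ ∈ K := by
      show T.mat4S (c * g.1.1 * c⁻¹) = 1
      rw [T.mat4S_mul (mul_mem hc g.1.2) (inv_mem hc), T.mat4S_mul hc g.1.2, (g.2 : T.mat4S g.1.1 = 1),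
        mul_one, ← T.mat4S_mul hc (inv_mem hc), mul_inv_cancel, T.mat4S_one]
    refine ⟨⟨_, hconj⟩, congrArg Multiplicative.ofAdd (funext fun j => ?_)⟩
    show T.r (c * g.1.1 * c⁻¹) (dl (tl j)) 0 = _
    obtain ⟨j', hj'⟩ := hmon j
    set l := T.r c⁻¹ (dl (tl j)) (tl j')
    have hv : T.r c⁻¹ (dl (tl j)) = l • dl (tl j') := funext fun i => hj' i
    have hback : l • T.r c (dl (tl j')) = dl (tl j) := by
      rw [← T.semilinear (T.lin hc.2), ← hv, ← r_mul, mul_inv_cancel, r_one]
    rw [r_mul, r_mul, hv, T.semilinear (T.lin g.1.2.2), hcol g.1 g.2 j', smul_add, smul_smul, map_add,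
      T.semilinear (T.lin hc.2), T.semilinear (T.lin hc.2), (hc.1 : T.r c v2 = v2), hback]
    rw [Finset.sum_eq_single j']
    · rw [Pi.add_apply, show dl (tl j) 0 = 0 by fin_cases j <;> simp [dl, tl], zero_add]
      simp [v2, nf, a, show dl (tl j') (tl j') = 1 from Pi.single_eq_same _ _]
    · intro m _ hm
      have hne : tl m ≠ tl j' := fun e => hm (Fin.ext (by simpa [tl] using congrArg Fin.val e))
      simp [dl, Pi.single_eq_of_ne hne]
    · simp
  have hdiag : ∀ f ∈ a.range, ∀ e : Fin 6 → ZMod 3, e 0 = 0 → e 1 = 0 → ∑ i, e i = 0 →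
      Multiplicative.ofAdd (fun j => omp (-e (tl j)) * Multiplicative.toAdd f j) ∈ a.range := by
    intro f hf e e0 e1 es
    obtain ⟨c, hc, hce⟩ := T.diag e es
    have hcv : T.r c v2 = v2 := by
      rw [hce]; funext i
      fin_cases i <;> simp [dmul, v2, nf, e0, e1, omp_zero]
    have hinv : ∀ w, T.r c⁻¹ w = dmul (fun i => -e i) w := by
      intro w
      conv_lhs => rw [show w = T.r c (dmul (fun i => -e i) w) by
        rw [hce]; funext i
        simp only [dmul, ← mul_assoc, ← omp_add, add_neg_cancel, omp_zero, one_mul]]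
      rw [← r_mul, inv_mul_cancel, r_one]
    have hval : ∀ j i, T.r c⁻¹ (dl (tl j)) i = omp (-e (tl j)) * dl (tl j) i := fun j i => by
      rw [hinv, dmul]
      by_cases h : i = tl j
      · rw [h]
      · simp [dl, Pi.single_eq_of_ne h]
    have hone : ∀ j, dl (tl j) (tl j) = 1 := fun j => Pi.single_eq_same _ _
    convert hA f hf c ⟨hcv, hc⟩ (fun j => ⟨j, fun i => by rw [hval, hval, hone, mul_one]⟩) using 1
    refine congrArg Multiplicative.ofAdd (funext fun j => ?_)
    rw [Finset.sum_eq_single j]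
    · rw [hval, hone, mul_one]
    · intro m _ hm
      have hne : tl m ≠ tl j := fun e => hm (Fin.ext (by simpa [tl] using congrArg Fin.val e))
      rw [hval, dl, Pi.single_eq_of_ne hne, mul_zero, zero_mul]
    · simp
  have hperm : ∀ f ∈ a.range, ∀ k l : Fin 4,
      (∀ m, m ≠ k → Multiplicative.toAdd f m = 0) →
      Multiplicative.ofAdd (Pi.single l (Multiplicative.toAdd f k) : Fin 4 → F4) ∈ a.range := by
    intro f hf k l hk
    obtain ⟨w, -, w0, w1, wl, wm⟩ := move_tail k l
    obtain ⟨c, hc, hcp⟩ := T.perm (wordElt w).1 (wordElt w).2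
    have hcv : T.r c v2 = v2 := by
      rw [hcp]; funext i
      rw [wordElt_apply]
      have hinj : Function.Injective (wordFun w) := by
        have := (wordElt w).1.injective
        rwa [show ((wordElt w).1 : Fin 6 → Fin 6) = wordFun w from funext (wordElt_apply w)] at this
      fin_cases i
      · show v2 (wordFun w 0) = _; rw [w0]; rfl
      · show v2 (wordFun w 1) = _; rw [w1]; rfl
      all_goals
        obtain ⟨m', hm'⟩ := wm ⟨_, (by norm_num : (0 : ℕ) < 4)⟩
      · obtain ⟨m, hm⟩ := wm 0; show v2 (wordFun w (tl 0)) = _; rw [hm]; fin_cases m <;> rfl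
      · obtain ⟨m, hm⟩ := wm 1; show v2 (wordFun w (tl 1)) = _; rw [hm]; fin_cases m <;> rfl
      · obtain ⟨m, hm⟩ := wm 2; show v2 (wordFun w (tl 2)) = _; rw [hm]; fin_cases m <;> rfl
      · obtain ⟨m, hm⟩ := wm 3; show v2 (wordFun w (tl 3)) = _; rw [hm]; fin_cases m <;> rfl
    have hinv : ∀ m i, T.r c⁻¹ (dl (tl m)) i = dl ((wordElt w).1 (tl m)) i := fun m i => by
      conv_lhs => rw [show dl (tl m) = T.r c (dl ((wordElt w).1 (tl m))) by
        rw [hcp]; funext i; simp [dl, Pi.single_apply]]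
      rw [← r_mul, inv_mul_cancel, r_one]
    choose mp hmp using fun m => wm m
    have hval : ∀ m i, T.r c⁻¹ (dl (tl m)) i = dl (tl (mp m)) i := fun m i => by
      rw [hinv, wordElt_apply, hmp]
    convert hA f hf c ⟨hcv, hc⟩ (fun m => ⟨mp m, fun i => by
      rw [hval, hval, show dl (tl (mp m)) (tl (mp m)) = 1 from Pi.single_eq_same _ _, one_mul]⟩) using 1
    refine congrArg Multiplicative.ofAdd (funext fun m => ?_)
    have hs : ∀ m', T.r c⁻¹ (dl (tl m)) (tl m') = if m' = mp m then 1 else 0 := fun m' => by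
      rw [hval]
      by_cases h : m' = mp m
      · rw [if_pos h, h]; exact Pi.single_eq_same _ _
      · rw [if_neg h, dl, Pi.single_eq_of_ne fun e => h (Fin.ext (by simpa [tl] using congrArg Fin.val e))]
    simp only [hs, ite_mul, one_mul, zero_mul, Finset.sum_ite_eq', Finset.mem_univ, if_true]
    by_cases h : m = l
    · have he : mp l = k := Fin.ext (by simpa [tl] using congrArg Fin.val ((hmp l).symm.trans wl))
      subst h
      rw [he, Pi.single_eq_same]
    · rw [Pi.single_eq_of_ne h, hk]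
      intro he
      have hinj := (wordElt w).1.injective
      refine h (Fin.ext (by
        have e2 : (wordElt w).1 (tl m) = (wordElt w).1 (tl l) := by
          rw [wordElt_apply, wordElt_apply, hmp, he, wl]
        simpa [tl] using congrArg Fin.val (hinj e2)))
  by_contra hbig
  have htriv : ∀ g, g ∈ a.range → g = 1 := by
    intro f hf
    by_contra hne
    -- a single nonzero coordinate
    obtain ⟨k, hk⟩ : ∃ k, Multiplicative.toAdd f k ≠ 0 := Function.ne_iff.1 fun e => hne (by
      rw [← ofAdd_toAdd f, e]; rfl)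
    have hkill : ∀ f ∈ a.range, Multiplicative.toAdd f k ≠ 0 → ∀ j, j ≠ k →
        ∃ f' ∈ a.range, Multiplicative.toAdd f' k ≠ 0 ∧ Multiplicative.toAdd f' j = 0 ∧
          ∀ m, Multiplicative.toAdd f m = 0 → Multiplicative.toAdd f' m = 0 := by
      intro f hf hk j hj
      obtain ⟨e, e0, e1, es, ej, el⟩ := sep_exp k j hj
      refine ⟨_, mul_mem hf (hdiag f hf e e0 e1 es), ?_, ?_, ?_⟩
      · show Multiplicative.toAdd f k + omp (-e (tl k)) * Multiplicative.toAdd f k ≠ 0
        rw [el k (Ne.symm hj)]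
        exact (by decide +kernel : ∀ x : F4, x ≠ 0 → x + omp (-1) * x ≠ 0) _ hk
      · show Multiplicative.toAdd f j + omp (-e (tl j)) * Multiplicative.toAdd f j = 0
        rw [ej, neg_zero, omp_zero, one_mul]
        exact (by decide +kernel : ∀ x : F4, x + x = 0) _
      · intro m hm
        show Multiplicative.toAdd f m + omp (-e (tl m)) * Multiplicative.toAdd f m = 0
        rw [hm, mul_zero, add_zero]
    obtain ⟨i1, i2, i3, h1, h2, h3, hall⟩ : ∃ i1 i2 i3 : Fin 4, i1 ≠ k ∧ i2 ≠ k ∧ i3 ≠ k ∧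
        ∀ m, m ≠ k → m = i1 ∨ m = i2 ∨ m = i3 := (by decide +kernel : ∀ k : Fin 4, ∃ i1 i2 i3 : Fin 4,
          i1 ≠ k ∧ i2 ≠ k ∧ i3 ≠ k ∧ ∀ m, m ≠ k → m = i1 ∨ m = i2 ∨ m = i3) k
    obtain ⟨f1, hf1, k1, z1, -⟩ := hkill f hf hk i1 h1
    obtain ⟨f2, hf2, k2, z2, p2⟩ := hkill f1 hf1 k1 i2 h2
    obtain ⟨f3, hf3, k3, z3, p3⟩ := hkill f2 hf2 k2 i3 h3
    have hsupp : ∀ m, m ≠ k → Multiplicative.toAdd f3 m = 0 := by
      intro m hm
      rcases hall m hm with rfl | rfl | rfl
      exacts [p3 _ (p2 _ z1), p3 _ z2, z3]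
    have hone : ∀ l : Fin 4, ∀ x : F4, Multiplicative.ofAdd (Pi.single l x : Fin 4 → F4) ∈ a.range := by
      intro l
      set y := Multiplicative.toAdd f3 k
      have hl : Multiplicative.ofAdd (Pi.single l y : Fin 4 → F4) ∈ a.range := hperm f3 hf3 k l hsupp
      obtain ⟨e, e0, e1, es, el⟩ := scal_exp l
      have hl2 := hdiag _ hl e e0 e1 es
      have he : (fun j => omp (-e (tl j)) * Multiplicative.toAdd (Multiplicative.ofAdd (Pi.single l y : Fin 4 → F4)) j) =
          Pi.single l (om * y) := by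
        funext j
        by_cases h : j = l
        · subst h
          rw [el, toAdd_ofAdd, Pi.single_eq_same, Pi.single_eq_same]
          rfl
        · simp [Pi.single_eq_of_ne h]
      rw [he] at hl2
      have hcases : ∀ y x : F4, y ≠ 0 → x = 0 ∨ x = y ∨ x = om * y ∨ x = y + om * y := by decide +kernel
      intro x
      rcases hcases y x k3 with rfl | rfl | rfl | rfl
      · rw [Pi.single_zero]; exact one_mem _
      · exact hl
      · exact hl2
      · rw [Pi.single_add]; exact mul_mem hl hl2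
    have htop : a.range = ⊤ := by
      refine eq_top_iff.2 fun f _ => ?_
      have : f = ∏ l, Multiplicative.ofAdd (Pi.single l (Multiplicative.toAdd f l) : Fin 4 → F4) := by
        rw [← ofAdd_sum]
        exact (congrArg Multiplicative.ofAdd (Finset.univ_sum_single (Multiplicative.toAdd f)).symm)
      rw [this]
      exact prod_mem fun l _ => hone l _
    have h256 : 256 ∣ Nat.card T.lstab := by
      refine dvd_trans ?_ (Subgroup.card_subgroup_dvd_card K)
      have h := Subgroup.card_range_dvd a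
      rw [htop, Subgroup.card_top] at h
      refine dvd_trans (dvd_of_eq ?_) h
      rw [Nat.card_eq_fintype_card]
      simp [card_F4]
    rw [T.card_lstab] at h256
    norm_num at h256
  apply hbig
  have hinj : Function.Injective fun g : {g : T.lstab // T.mat4S g.1 = 1} =>
      (decide (T.r g.1.1 (dl 0) 0 = 0) : Bool) := by
    have key : ∀ g : T.lstab, T.mat4S g.1 = 1 →
        (∀ j : Fin 4, T.r g.1 (dl (tl j)) = dl (tl j)) ∧
          (T.r g.1 (dl 0) = dl 0 ∨ T.r g.1 (dl 0) = dl 1) := by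
      intro g hg
      have hfix : ∀ j : Fin 4, T.r g.1 (dl (tl j)) = dl (tl j) := by
        intro j
        have e1 : T.r g.1 (dl (tl j)) 0 = 0 :=
          congrFun (congrArg Multiplicative.toAdd (htriv _ ⟨⟨g, hg⟩, rfl⟩)) j
        rw [hcol g hg j, e1, zero_smul, add_zero]
      refine ⟨hfix, ?_⟩
      set u := T.r g.1 (dl 0) with hu
      have hh : ∀ j : Fin 4, herm u (dl (tl j)) = 0 := fun j => by
        rw [← hfix j, hu, T.herm_r (T.lin g.2.2)]
        fin_cases j <;> simp [herm, dl, tl, Fin.sum_univ_six]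
      have hsum : u 0 + u 1 = 1 := by
        rw [← herm_v2, ← (g.2.1 : T.r g.1 v2 = v2), hu, T.herm_r (T.lin g.2.2), herm_v2]
        simp [dl]
      have hnorm : herm u u = 1 := by
        rw [hu, T.herm_r (T.lin g.2.2)]
        simp [herm, dl, Fin.sum_univ_six]
      have t : ∀ i : Fin 4, u (tl i) = 0 := fun i => by
        have h := hh i
        fin_cases i <;> simpa [herm, dl, tl, Fin.sum_univ_six] using h
      have t0 := t 0; have t1 := t 1; have t2 := t 2; have t3 := t 3
      have hn : u 0 * (u 0 * u 0) + u 1 * (u 1 * u 1) = 1 := by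
        simp only [tl, Fin.reduceFinMk, Fin.val_zero, Fin.val_one, Fin.val_two, zero_add] at t0 t1 t2 t3
        rw [← hnorm]
        simp only [herm, Fin.sum_univ_six]
        rw [show u 2 = 0 from t0, show u 3 = 0 from t1, show u 4 = 0 from t2, show u 5 = 0 from t3]
        ring
      rcases (by decide +kernel : ∀ a b : F4, a + b = 1 → a * (a * a) + b * (b * b) = 1 →
          (a = 1 ∧ b = 0) ∨ (a = 0 ∧ b = 1)) _ _ hsum hn with ⟨e0, e1⟩ | ⟨e0, e1⟩
      · left
        funext i
        fin_cases i <;> simp [dl, e0, e1]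
        exacts [t0, t1, t2, t3]
      · right
        funext i
        fin_cases i <;> simp [dl, e0, e1]
        exacts [t0, t1, t2, t3]
    intro g g' h
    obtain ⟨k1, k2⟩ := key g.1 g.2
    obtain ⟨k1', k2'⟩ := key g'.1 g'.2
    have h0 : T.r g.1.1 (dl 0) = T.r g'.1.1 (dl 0) := by
      replace h : decide (T.r g.1.1 (dl 0) 0 = 0) = decide (T.r g'.1.1 (dl 0) 0 = 0) := h
      rcases k2 with e | e <;> rcases k2' with e' | e' <;> rw [e, e'] <;> rw [e, e'] at h <;>
        simp [dl] at h
    refine Subtype.ext (Subtype.ext (T.inj (LinearEquiv.ext fun w => ?_)))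
    have hd1 : dl 1 = v2 + dl 0 := by
      funext i
      fin_cases i <;> simp [dl, v2, nf, (by decide +kernel : (1 : F4) + 1 = 0)]
    have hcolumns : ∀ i : Fin 6, T.r g.1.1 (dl i) = T.r g'.1.1 (dl i) := by
      intro i
      fin_cases i
      · exact h0
      · show T.r g.1.1 (dl 1) = T.r g'.1.1 (dl 1)
        rw [hd1, map_add, map_add, h0, (g.1.2.1 : T.r _ v2 = v2), (g'.1.2.1 : T.r _ v2 = v2)]
      · exact (k1 0).trans (k1' 0).symm
      · exact (k1 1).trans (k1' 1).symm
      · exact (k1 2).trans (k1' 2).symm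
      · exact (k1 3).trans (k1' 3).symm
    have hw : w = ∑ i, w i • dl i := by
      funext i
      simp [dl, Finset.sum_apply, Pi.single_apply]
    rw [hw, map_sum, map_sum]
    exact Finset.sum_congr rfl fun i _ => by
      rw [T.semilinear (T.lin g.1.2.2), T.semilinear (T.lin g'.1.2.2), hcolumns]
  have h := Nat.card_le_card_of_injective _ hinj
  simpa using h

attribute [local irreducible] Matrix.det in
theorem toSU_bijective : Function.Bijective T.toSU := by
  classical
  have hF := F4_natcard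
  have hcen : Subgroup.center (Cfsg.SU 4 F4 2) = ⊥ :=
    Subgroup.card_eq_one.1 (by rw [Unitary.card_center_SU hF (by norm_num)]; decide)
  have hP := ThreeT.PairStab.card_psu_four card_F4
  let e : Cfsg.PSU 4 F4 2 ≃* Cfsg.SU 4 F4 2 :=
    (QuotientGroup.quotientMulEquivOfEq hcen).trans QuotientGroup.quotientBot
  haveI : IsSimpleGroup (Cfsg.PSU 4 F4 2) := hP.2
  haveI : IsSimpleGroup (Cfsg.SU 4 F4 2) := by
    haveI : Nontrivial (Cfsg.SU 4 F4 2) := e.symm.toEquiv.nontrivial
    exact IsSimpleGroup.isSimpleGroup_of_surjective e.toMonoidHom e.surjective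
  haveI : Finite (Cfsg.SU 4 F4 2) := Finite.of_equiv _ e.toEquiv
  have hS : Nat.card (Cfsg.SU 4 F4 2) = 25920 := (Nat.card_congr e.toEquiv).symm.trans hP.1
  -- the kernel has at most six elements
  have hker : Nat.card T.toSU.ker ≤ 6 := by
    let δ : T.toSU.ker →* F4ˣ :=
      { toFun := fun g => Units.mk0 (T.mat4S g.1.1).det (T.det_ne g.1.2)
        map_one' := Units.ext (by
          show (T.mat4S 1).det = 1
          rw [T.mat4S_one, Matrix.det_one])
        map_mul' := fun g h => Units.ext (by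
          show (T.mat4S (g.1.1 * h.1.1)).det = (T.mat4S g.1.1).det * (T.mat4S h.1.1).det
          rw [T.mat4S_mul g.1.2 h.1.2, Matrix.det_mul]) }
    let f : δ.ker → {g : T.lstab // T.mat4S g.1 = 1} := fun g => ⟨g.1.1, by
      have hd : (T.mat4S g.1.1.1).det = 1 := congrArg Units.val (MonoidHom.mem_ker.1 g.2)
      have hu : (T.mat4S g.1.1.1).det⁻¹ • T.mat4S g.1.1.1 = 1 :=
        congrArg (fun y : Cfsg.SU 4 F4 2 => (y.1 : Matrix (Fin 4) (Fin 4) F4)) (MonoidHom.mem_ker.1 g.1.2)
      rwa [hd, inv_one, one_smul] at hu⟩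
    have hf : Function.Injective f := fun g g' h => Subtype.ext (Subtype.ext (congrArg (fun u => u.1) h))
    have h1 := (Nat.card_le_card_of_injective f hf).trans T.card_trivial
    have h2 := Subgroup.card_mul_index δ.ker
    rw [Subgroup.index_ker] at h2
    have h3 : Nat.card δ.range ≤ 3 := (Subgroup.card_le_card_group _).trans_eq (by
      rw [Nat.card_units, F4_natcard]; rfl)
    nlinarith
  have hmul := Subgroup.card_mul_index T.toSU.ker
  rw [Subgroup.index_ker, T.card_lstab] at hmul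
  have hidx := Subgroup.card_mul_index T.toSU.range
  rw [hS] at hidx
  have hle : T.toSU.range.index ≤ 6 := by nlinarith
  have htop : T.toSU.range = ⊤ := by
    by_contra hne
    have hcore : T.toSU.range.normalCore = ⊥ :=
      (IsSimpleGroup.eq_bot_or_eq_top_of_normal _ inferInstance).resolve_right fun h =>
        hne (eq_top_iff.2 (h ▸ Subgroup.normalCore_le _))
    rw [Subgroup.normalCore_eq_ker, MonoidHom.ker_eq_bot_iff] at hcore
    have hd := Subgroup.card_dvd_of_injective _ hcore
    rw [hS, Nat.card_perm, ← Subgroup.index_eq_card] at hd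
    have : T.toSU.range.index.factorial ∣ (6).factorial := Nat.factorial_dvd_factorial hle
    have := hd.trans this
    norm_num [Nat.factorial] at this
  refine (Nat.bijective_iff_surjective_and_card _).2 ⟨MonoidHom.range_eq_top.1 htop, ?_⟩
  rw [T.card_lstab, hS]

theorem stab_aut {y : C} (hy : y * T.x * y⁻¹ = T.x⁻¹) :
    Nonempty (↥(T.stab v2) ≃* Cfsg.isometryGroup (ZMod 2) (Cfsg.quadFormMinus 2 (ZMod 2) 1 1)) := by
  classical
  have hF := F4_natcard
  have hcen : Subgroup.center (Cfsg.SU 4 F4 2) = ⊥ :=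
    Subgroup.card_eq_one.1 (by rw [Unitary.card_center_SU hF (by norm_num)]; decide)
  have hP := ThreeT.PairStab.card_psu_four card_F4
  haveI : IsSimpleGroup (Cfsg.PSU 4 F4 2) := hP.2
  let e : ↥T.lstab ≃* Cfsg.PSU 4 F4 2 := (MulEquiv.ofBijective _ T.toSU_bijective).trans
    ((QuotientGroup.quotientMulEquivOfEq hcen).trans QuotientGroup.quotientBot).symm
  haveI : IsSimpleGroup ↥T.lstab := by
    haveI : Nontrivial ↥T.lstab := e.toEquiv.nontrivial
    exact IsSimpleGroup.isSimpleGroup_of_surjective e.symm.toMonoidHom e.symm.surjective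
  haveI hMn : T.M.Normal := Subgroup.normal_of_index_eq_two T.idx
  haveI : (T.lstab.subgroupOf (T.stab v2)).Normal := ⟨fun a ha c => by
    have ha' : (a : C) ∈ T.lstab := ha
    exact ⟨(c * a * c⁻¹).2, hMn.conj_mem _ ha'.2 c⟩⟩
  let eL : ↥(T.lstab.subgroupOf (T.stab v2)) ≃* ↥T.lstab := Subgroup.subgroupOfEquivOfLe inf_le_left
  let ρ : ↥(T.stab v2) →* MulAut (Cfsg.PSU 4 F4 2) :=
    (MulAut.congr (eL.trans e)).toMonoidHom.comp MulAut.conjNormal
  have hinj : Function.Injective ρ := by
    refine (MulAut.congr (eL.trans e)).injective.comp ((injective_iff_map_eq_one _).2 fun c hc => ?_)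
    have hcomm : ∀ a : C, a ∈ T.lstab → (c : C) * a = a * c := fun a ha => by
      have h := congrArg (fun u : ↥(T.lstab.subgroupOf (T.stab v2)) => ((u : ↥(T.stab v2)) : C))
        (DFunLike.congr_fun hc ⟨⟨a, ha.1⟩, ha⟩)
      exact mul_inv_eq_iff_eq_mul.1 h
    have hcM : (c : C) ∈ T.M := by
      rcases T.semi c with h | h
      · by_contra hnM
        have hall : ∀ b : C, b * T.x * b⁻¹ = T.x := by
          intro b
          by_cases hb : b ∈ T.M
          · exact T.lin hb
          · have hm : (c : C) * b ∈ T.M := by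
              rw [Subgroup.mul_mem_iff_of_index_two T.idx]
              exact iff_of_false hnM hb
            have h1 := T.lin hm
            have hc' : (c : C)⁻¹ * T.x * (c : C) = T.x := by
              calc (c : C)⁻¹ * T.x * c = (c : C)⁻¹ * ((c : C) * T.x * (c : C)⁻¹) * c := by rw [h]
                _ = T.x := by group
            calc b * T.x * b⁻¹ = (c : C)⁻¹ * ((c : C) * b * T.x * ((c : C) * b)⁻¹) * c := by group
              _ = T.x := by rw [h1, hc']
        rw [hall y] at hy
        have h3 : T.x * T.x = 1 := mul_eq_one_iff_eq_inv.2 hy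
        have h4 := congrArg (fun u => T.r u (dl 0) 0) h3
        simp only [r_mul, T.x_act, r_one] at h4
        revert h4
        decide +kernel
      · exfalso
        have hu : ∀ k, T.r (c : C) (dl 2) k = 0 := by
          intro k
          obtain ⟨ex, e0, e1, es, e2, ek⟩ := semi_exp k
          obtain ⟨d, hdM, hde⟩ := T.diag ex es
          have hd : d ∈ T.lstab := ⟨by
            show T.r d v2 = v2
            rw [hde]; funext i
            fin_cases i <;> simp [dmul, v2, nf, e0, e1, omp_zero], hdM⟩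
          have h1 := congrArg (fun u => T.r u (dl 2) k) (hcomm d hd)
          simp only [r_mul, hde] at h1
          have hd2 : dmul ex (dl 2) = om • dl 2 := by
            funext i
            by_cases hi : i = 2
            · subst hi; simp [dmul, dl, e2]; rfl
            · simp [dmul, dl, Pi.single_eq_of_ne hi]
          rw [hd2, T.semilinear_inv h] at h1
          revert h1
          simp only [Pi.smul_apply, smul_eq_mul, dmul]
          generalize T.r (c : C) (dl 2) k = t
          generalize ex k = s at ek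
          revert ek t
          revert s
          decide +kernel
        have hz : T.r (c : C) (dl 2) = 0 := funext hu
        rw [LinearEquiv.map_eq_zero_iff] at hz
        exact absurd (congrFun hz 2) (by simp [dl])
    have hc0 : (c : C) ∈ T.lstab := ⟨c.2, hcM⟩
    have hcz : (⟨(c : C), hc0⟩ : ↥T.lstab) ∈ Subgroup.center ↥T.lstab :=
      Subgroup.mem_center_iff.2 fun b => Subtype.ext (hcomm b.1 b.2).symm
    have hcb : Subgroup.center ↥T.lstab = ⊥ := by
      refine ((IsSimpleGroup.eq_bot_or_eq_top_of_normal _ inferInstance).resolve_right fun htop => ?_)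
      have hab : ∀ a b : Cfsg.PSU 4 F4 2, a * b = b * a := fun a b => by
        have h := Subgroup.mem_center_iff.1 (htop ▸ Subgroup.mem_top (e.symm a) : e.symm a ∈ Subgroup.center ↥T.lstab) (e.symm b)
        have h' := congrArg e h
        simp only [map_mul, MulEquiv.apply_symm_apply] at h'
        exact h'.symm
      letI : CommGroup (Cfsg.PSU 4 F4 2) := { (inferInstance : Group (Cfsg.PSU 4 F4 2)) with mul_comm := hab }
      have hp := IsSimpleGroup.prime_card (α := Cfsg.PSU 4 F4 2)
      rw [hP.1] at hp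
      norm_num at hp
    rw [hcb, Subgroup.mem_bot] at hcz
    exact Subtype.ext (congrArg Subtype.val hcz :)
  have hcard : Nat.card ↥(T.stab v2) = 51840 := by
    rcases T.card_stab v2_sing.1 v2_sing.2 with h | h
    · exact h.2
    · exact absurd (T.mem_orb.2 ⟨1, Subgroup.mem_top _, T.r_one _⟩) h.1
  have haut : Nat.card (MulAut (Cfsg.PSU 4 F4 2)) = 51840 := by
    rw [Cfsg.Agent.S0815.result (F := F4) 2 1 le_rfl (q := 2) rfl (by rw [card_F4]; rfl) 4 (by norm_num) (by omega),
      hP.1]
    rfl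
  have hbij := (Nat.bijective_iff_injective_and_card ρ).2 ⟨hinj, by rw [hcard, haut]⟩
  obtain ⟨i⟩ := ThreeT.PairStab.minus_six_aut card_F4
  exact ⟨(MulEquiv.ofBijective ρ hbij).trans i.symm⟩

end Std

end CfsgLib.FiLarge
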