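import Cfsg.Agent.FiLarge.Orbits

/-!
Twelve-bit codes for the space and for its additive maps.
-/

set_option autoImplicit false
set_option maxRecDepth 100000

namespace CfsgLib.FiLarge

namespace Eleven

/-- The bit of a code. -/
def bz (x i : ℕ) : ZMod 2 := if x.testBit i then 1 else 0

/-- Decoding. -/
def dec (x : ℕ) : V6 := fun i => ⟨bz x (2 * i.val), bz x (2 * i.val + 1)⟩

/-- The digit of a coordinate. -/
def dg (c : F4) : ℕ := c.re.val + 2 * c.im.val

/-- Encoding. -/
def enc (a : V6) : ℕ :=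
  dg (a 0) + 4 * dg (a 1) + 16 * dg (a 2) + 64 * dg (a 3) + 256 * dg (a 4) + 1024 * dg (a 5)

theorem bz_xor (x y i : ℕ) : bz (x ^^^ y) i = bz x i + bz y i := by
  unfold bz
  rw [Nat.testBit_xor]
  cases x.testBit i <;> cases y.testBit i <;> decide

theorem dec_xor (x y : ℕ) : dec (x ^^^ y) = dec x + dec y := by
  funext i
  exact QuadraticAlgebra.ext (bz_xor _ _ _) (bz_xor _ _ _)

theorem dec_zero : dec 0 = 0 := by decide +kernel

/-- The field element of a digit. -/
def d4 (q : ℕ) : F4 := ⟨if q % 2 = 1 then 1 else 0, if q / 2 % 2 = 1 then 1 else 0⟩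

theorem d4_dg : ∀ c : F4, d4 (dg c) = c ∧ dg c < 4 := by decide +kernel

theorem dg_d4 : ∀ q : Fin 4, dg (d4 q.val) = q.val := by decide +kernel

theorem dec_coord (x : ℕ) (i : Fin 6) : dec x i = d4 (x / 4 ^ i.val % 4) := by
  have h4 : 4 ^ i.val = 2 ^ (2 * i.val) := by rw [pow_mul]; norm_num
  have h1 : x / 4 ^ i.val % 4 % 2 = x / 2 ^ (2 * i.val) % 2 := by rw [← h4]; omega
  have h2 : x / 4 ^ i.val % 4 / 2 % 2 = x / 2 ^ (2 * i.val + 1) % 2 := by
    rw [pow_succ, ← Nat.div_div_eq_div_mul, ← h4]; omega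
  refine QuadraticAlgebra.ext ?_ ?_
  · show bz x (2 * i.val) = _
    simp only [bz, d4, Nat.testBit_eq_decide_div_mod_eq, h1, decide_eq_true_eq]
  · show bz x (2 * i.val + 1) = _
    simp only [bz, d4, Nat.testBit_eq_decide_div_mod_eq, h2, decide_eq_true_eq]

theorem enc_lt (a : V6) : enc a < 4096 := by
  have h := fun i => (d4_dg (a i)).2
  have := h 0; have := h 1; have := h 2; have := h 3; have := h 4; have := h 5
  unfold enc
  omega

theorem dec_enc (a : V6) : dec (enc a) = a ∧ enc a < 4096 := by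
  refine ⟨funext fun i => ?_, enc_lt a⟩
  rw [dec_coord]
  conv_rhs => rw [← (d4_dg (a i)).1]
  congr 1
  have h := fun i => (d4_dg (a i)).2
  have := h 0; have := h 1; have := h 2; have := h 3; have := h 4; have := h 5
  unfold enc
  fin_cases i <;> simp <;> omega

theorem enc_dec (x : Fin 4096) : enc (dec x.val) = x.val := by
  have hd : ∀ q : ℕ, dg (d4 (q % 4)) = q % 4 := fun q => dg_d4 ⟨q % 4, Nat.mod_lt _ (by norm_num)⟩
  have := x.2
  simp only [enc, dec_coord, hd]
  norm_num
  omega

theorem dec_inj {x y : ℕ} (hx : x < 4096) (hy : y < 4096) (h : dec x = dec y) : x = y := by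
  have h1 : enc (dec x) = x := enc_dec ⟨x, hx⟩
  have h2 : enc (dec y) = y := enc_dec ⟨y, hy⟩
  rw [← h1, ← h2, h]

/-- Apply a map given by the images of the basis codes, from position `j` on. -/
def appF (x : ℕ) : ℕ → List ℕ → ℕ
  | _, [] => 0
  | j, c :: cs => (if x.testBit j then c else 0) ^^^ appF x (j + 1) cs

/-- Apply a coded map to a code. -/
noncomputable def appR (M : List ℕ) : ℕ → ℕ → ℕ :=
  List.rec (motive := fun _ => ℕ → ℕ → ℕ) (fun _ acc => acc)
    (fun c _ ih x acc => ih (x / 2) (bif Nat.beq (x % 2) 0 then acc else Nat.xor acc c)) M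

/-- Apply a coded map to a code. -/
noncomputable def app (M : List ℕ) (x : ℕ) : ℕ := appR M x 0

theorem appR_eq (x : ℕ) : ∀ (M : List ℕ) (j acc : ℕ), appR M (x / 2 ^ j) acc = acc ^^^ appF x j M
  | [], j, acc => by simp [appR, appF]
  | c :: cs, j, acc => by
    show appR cs (x / 2 ^ j / 2) (bif Nat.beq (x / 2 ^ j % 2) 0 then acc else Nat.xor acc c) = _
    rw [Nat.div_div_eq_div_mul, ← pow_succ, appR_eq x cs (j + 1), appF, Nat.testBit_eq_decide_div_mod_eq]
    rcases Nat.mod_two_eq_zero_or_one (x / 2 ^ j) with h | h <;> rw [h]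
    · simp
    · show acc ^^^ c ^^^ _ = _
      simp [Nat.xor_assoc]

theorem app_eq (M : List ℕ) (x : ℕ) : app M x = appF x 0 M := by
  have h := appR_eq x M 0 0
  simpa [app] using h

/-- Compose coded maps. -/
noncomputable def mul (M N : List ℕ) : List ℕ := N.map (app M)

/-- A valid code of a map. -/
def Good (M : List ℕ) : Prop := M.length = 12 ∧ ∀ c ∈ M, c < 4096

instance (M : List ℕ) : Decidable (Good M) := inferInstanceAs (Decidable (_ ∧ _))

theorem appF_lt {x : ℕ} : ∀ {M : List ℕ} (j : ℕ), (∀ c ∈ M, c < 4096) → appF x j M < 4096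
  | [], _, _ => by norm_num [appF]
  | c :: cs, j, h => by
    show (_ ^^^ _) < 2 ^ 12
    refine Nat.xor_lt_two_pow ?_ (appF_lt (j + 1) fun a ha => h a (List.mem_cons_of_mem _ ha))
    split
    · exact h c List.mem_cons_self
    · norm_num

theorem good_mul {M N : List ℕ} (hM : Good M) (hN : Good N) : Good (mul M N) := by
  refine ⟨by simp [mul, hN.1], fun c hc => ?_⟩
  obtain ⟨a, -, rfl⟩ := List.mem_map.1 hc
  rw [app_eq]; exact appF_lt 0 hM.2

theorem dec_appF (φ : V6 →+ V6) (x : ℕ) : ∀ (M : List ℕ) (j : ℕ),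
    (∀ k, (h : k < M.length) → φ (dec (2 ^ (j + k))) = dec M[k]) →
      dec (appF x j M) = ∑ k ∈ Finset.range M.length, if x.testBit (j + k) then φ (dec (2 ^ (j + k))) else 0
  | [], j, _ => by simp [appF, dec_zero]
  | c :: cs, j, h => by
    have hcs := dec_appF φ x cs (j + 1) fun k hk => by
      have := h (k + 1) (by simp; omega)
      rw [show j + 1 + k = j + (k + 1) by omega]
      simpa using this
    rw [appF, dec_xor, hcs, List.length_cons, Finset.sum_range_succ' _ cs.length, add_comm]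
    congr 1
    · exact Finset.sum_congr rfl fun k _ => by rw [show j + 1 + k = j + (k + 1) by omega]
    · have h0 := h 0 (by simp)
      simp only [add_zero, List.getElem_cons_zero] at h0 ⊢
      split
      · exact h0.symm
      · exact dec_zero

theorem app_lt {M : List ℕ} {x : ℕ} (hM : ∀ c ∈ M, c < 4096) : app M x < 4096 :=
  app_eq M x ▸ appF_lt 0 hM

theorem dec_mod_pow (x : ℕ) : ∀ n : ℕ,
    ∑ k ∈ Finset.range n, (if x.testBit k then dec (2 ^ k) else 0) = dec (x % 2 ^ n)
  | 0 => by simp [Nat.mod_one, dec_zero]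
  | n + 1 => by
    have h : x % 2 ^ (n + 1) = x % 2 ^ n ^^^ (if x.testBit n then 2 ^ n else 0) := by
      refine Nat.eq_of_testBit_eq fun i => ?_
      rw [Nat.testBit_xor, Nat.testBit_mod_two_pow, Nat.testBit_mod_two_pow]
      by_cases hi : i = n
      · subst hi
        cases h : x.testBit i <;> simp
      · have hlt : decide (i < n + 1) = decide (i < n) := decide_eq_decide.2 ⟨fun h => by omega, fun h => by omega⟩
        rw [hlt]
        split <;> simp [Nat.testBit_two_pow_of_ne (Ne.symm hi)]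
    rw [Finset.sum_range_succ, dec_mod_pow x n, h, dec_xor]
    congr 1
    split <;> simp [dec_zero]

theorem dec_bits (x : Fin 4096) :
    ∑ k ∈ Finset.range 12, (if x.val.testBit k then dec (2 ^ k) else 0) = dec x.val := by
  rw [dec_mod_pow, Nat.mod_eq_of_lt (by simpa using x.2)]

end Eleven

open Eleven

namespace Std

variable {C : Type*} [Group C] [Finite C] (T : Std C)

/-- A group element has the given code. -/
def Rep (c : C) (M : List ℕ) : Prop :=
  Good M ∧ ∀ k, (h : k < M.length) → T.r c (dec (2 ^ k)) = dec M[k]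

variable {T}

theorem Rep.app {c : C} {M : List ℕ} (h : T.Rep c M) {x : ℕ} (hx : x < 4096) :
    T.r c (dec x) = dec (Eleven.app M x) := by
  rw [app_eq, dec_appF (T.r c).toLinearMap.toAddMonoidHom x M 0
    (fun k hk => by rw [zero_add]; exact h.2 k hk), h.1.1]
  conv_lhs => rw [← dec_bits ⟨x, hx⟩]
  rw [map_sum]
  refine Finset.sum_congr rfl fun k _ => ?_
  rw [zero_add, apply_ite (T.r c), map_zero]
  rfl

theorem Rep.mul {c d : C} {M N : List ℕ} (h : T.Rep c M) (h' : T.Rep d N) :
    T.Rep (c * d) (Eleven.mul M N) := by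
  refine ⟨good_mul h.1 h'.1, fun k hk => ?_⟩
  simp only [Eleven.mul, List.length_map] at hk
  simp only [Eleven.mul, List.getElem_map]
  rw [map_mul, LinearEquiv.mul_apply, h'.2 k hk, h.app (h'.1.2 _ (List.getElem_mem hk))]

theorem Rep.code {c : C} {M N : List ℕ} (h : T.Rep c M) (h' : T.Rep c N) : M = N := by
  refine List.ext_getElem (h.1.1.trans h'.1.1.symm) fun k hk hk' => ?_
  exact dec_inj (h.1.2 _ (List.getElem_mem hk)) (h'.1.2 _ (List.getElem_mem hk'))
    ((h.2 k hk).symm.trans (h'.2 k hk'))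

theorem Rep.apply {c : C} {M : List ℕ} (h : T.Rep c M) (a : V6) : T.r c a = dec (Eleven.app M (enc a)) := by
  conv_lhs => rw [← (dec_enc a).1]
  exact h.app (dec_enc a).2

theorem Rep.elt {c d : C} {M : List ℕ} (h : T.Rep c M) (h' : T.Rep d M) : c = d :=
  T.inj (LinearEquiv.ext fun a => by rw [h.apply, h'.apply])

/-- An element equal to a coded map has that code. -/
theorem rep_of_eq {c : C} {M : List ℕ} (hM : Good M) (φ : V6 → V6) (hφ : ∀ a, T.r c a = φ a)
    (hk : ∀ k : Fin 12, φ (dec (2 ^ k.val)) = dec (M.getD k.val 0)) : T.Rep c M :=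
  ⟨hM, fun k h => by
    rw [hφ, hk ⟨k, hM.1 ▸ h⟩, List.getD_eq_getElem _ _ h]⟩

theorem rep_one : T.Rep 1 ((List.range 12).map fun k => 2 ^ k) :=
  ⟨by decide, fun k h => by rw [map_one, List.getElem_map, List.getElem_range]; rfl⟩

end Std

end CfsgLib.FiLarge
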