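import Cfsg.Agent.FiLarge.EightPoint
import Cfsg.Agent.Singular.Radical

/-!
The elementary group of order eight over a point and the kernel of its centraliser on `A6`.
-/

set_option autoImplicit false
set_option linter.style.haveILetI false

namespace CfsgLib.FiLarge.Eight

open Subgroup

section Transfer

variable {C : Type*} [Group C] [Finite C] {T : Std C} {v : V6} {L : Fin 6 → ZMod 3}

theorem loc_pt_le (P : Loc T v) (hv : v = dmul L one6) : pt v ≤ P.W := by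
  subst hv; exact pt_le P

theorem loc_in_point (P : Loc T v) (hv : v = dmul L one6) {y : V6} (hy : y ∈ P.W)
    (hy' : om • y ∈ P.W) : y ∈ pt v := by
  subst hv; exact in_point P hy hy'

theorem loc_rho (P : Loc T v) (hv : v = dmul L one6) (hbig : v ∉ T.orb ⊤ v2) :
    ∃ ρ : ↥(T.stab v ⊓ T.M) →* A6, Function.Surjective ρ ∧ (∀ c, ρ c = 1 ↔ (c : C) ∈ P.E) ∧
      Nat.card ↥(T.stab v ⊓ T.M) = 5760 := by
  subst hv
  obtain ⟨ρ, h1, h2, -⟩ := exists_rho P hbig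
  exact ⟨ρ, h1, h2, card_SM qn_v P.v_ne hbig⟩

theorem smul_inj {c d : F4} (hv : v = dmul L one6) (h : c • v = d • v) : c = d := by
  subst hv; exact smul_v_inj h

theorem card_pt (hv : v = dmul L one6) : Nat.card (pt v) = 4 := by
  rw [← card_F4, ← Nat.card_eq_fintype_card]
  refine Nat.card_congr (Equiv.ofBijective (fun c : F4 => (⟨c • v, mem_pt.2 ⟨c, rfl⟩⟩ : pt v)) ⟨?_, ?_⟩).symm
  · exact fun c d h => smul_inj hv (congrArg Subtype.val h)
  · rintro ⟨y, hy⟩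
    obtain ⟨c, rfl⟩ := mem_pt.1 hy
    exact ⟨c, rfl⟩

theorem omp_smul (hv : v = dmul L one6) (d : ZMod 3) : omp d • v = dmul (fun i => d + L i) one6 := by
  subst hv
  funext i
  show omp d * (omp (L i) * 1) = omp (d + L i) * 1
  rw [omp_add, mul_one, mul_one]

end Transfer

/-- Two vectors. -/
def pair (v : V6) : AddSubgroup V6 where
  carrier := {y | y = 0 ∨ y = v}
  zero_mem' := Or.inl rfl
  add_mem' := by
    rintro x y (rfl | rfl) (rfl | rfl)
    · exact Or.inl (add_zero _)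
    · exact Or.inr (zero_add _)
    · exact Or.inr (add_zero _)
    · exact Or.inl (add_self _)
  neg_mem' := fun {x} hx => by rw [neg_self]; exact hx

variable {G : Type*} [Group G] [Finite G] {z : G}
  {Q : Subgroup (centralizer ({z} : Set G))} [Q.Normal]

/-- A point of full support with a representative of its multiple. -/
structure Ctx (D : Dat z Q) where
  /-- The first involution. -/
  s : G
  /-- The second involution. -/
  t : G
  /-- The phases. -/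
  L : Fin 6 → ZMod 3
  hs : Pt D s
  hv : vec D s = dmul L one6
  t_mem : t ∈ QG Q
  ht : vec D t = om • vec D s
  inv : ∃ c : (centralizer ({z} : Set G)) ⧸ Q, c * D.T.x ≠ D.T.x * c

variable {D : Dat z Q}

theorem exists_ctx {g : G} (hg : g * z * g⁻¹ ∈ QG Q) (hne : g * z * g⁻¹ ≠ z) : Nonempty (Ctx D) := by
  obtain ⟨s, k, hs, hk, hv⟩ := exists_pt D hg hne
  obtain ⟨t, ht, htv⟩ := exists_vec D (om • vec D s)
  exact ⟨⟨s, t, nfL k, hs, by rw [hv, nf_twist k hk], ht, htv, inverter D hs hk hv⟩⟩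

variable (X : Ctx D)

/-- The elementary group of order eight. -/
noncomputable def Ctx.U : Subgroup G := pre D (pt (vec D X.s))

/-- The join of the radicals over the group of order eight. -/
noncomputable def Ctx.J : Subgroup G :=
  ⨆ u ∈ ((X.U : Set G) \ {1}), LargeExtra.fam (QG Q) z u

/-- The centraliser of the group of order eight. -/
noncomputable def Ctx.CU : Subgroup G := centralizer (X.U : Set G)

/-- The radical of the local subgroup. -/
noncomputable def Ctx.R : Subgroup G := X.J ⊓ X.CU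

theorem Ctx.mem_U {g : G} : g ∈ X.U ↔ g ∈ QG Q ∧ vec D g ∈ pt (vec D X.s) := Iff.rfl

theorem Ctx.card_U : Nat.card X.U = 8 := by
  rw [Ctx.U, card_pre D, card_pt X.hv]

theorem Ctx.z_U : z ∈ X.U := ⟨(genQ D).mem, by rw [vec_z D]; exact zero_mem _⟩

theorem Ctx.s_U : X.s ∈ X.U := ⟨X.hs.mem, mem_pt.2 ⟨1, (one_smul _ _).symm⟩⟩

theorem Ctx.t_U : X.t ∈ X.U := ⟨X.t_mem, mem_pt.2 ⟨om, X.ht⟩⟩

theorem Ctx.U_sq {g : G} (hg : g ∈ X.U) : g * g = 1 :=
  (sq_iff D hg.1).2 ((X.hs.loc D).qz _ (loc_pt_le _ X.hv hg.2))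

theorem Ctx.pt_of_mem {u : G} (hu : u ∈ X.U) (h1 : u ≠ 1) (hz : u ≠ z) :
    Pt D u ∧ ∃ L', vec D u = dmul L' one6 := by
  obtain ⟨hq, hp⟩ := hu
  obtain ⟨c, hc⟩ := mem_pt.1 hp
  have hc0 : c ≠ 0 := fun e => by
    rw [e, zero_smul] at hc
    rcases (vec_eq_zero D hq).1 hc with e' | e'
    exacts [h1 e', hz e']
  obtain ⟨d, rfl⟩ := exists_omp c hc0
  refine ⟨X.hs.move_to D (D.T.mem_orb.2 ⟨D.T.x ^ d.val, mem_top _, rfl⟩) hq (hc.trans ?_),
    _, hc.trans (omp_smul X.hv d)⟩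
  have key : ∀ n, D.T.r (D.T.x ^ n) (vec D X.s) = om ^ n • vec D X.s := by
    intro n
    induction n with
    | zero => rw [pow_zero, pow_zero, D.T.r_one, one_smul]
    | succ n ih => rw [pow_succ', pow_succ', D.T.r_mul, ih, D.T.x_act, smul_smul]
  rw [key, (by decide +kernel : ∀ d : ZMod 3, om ^ d.val = omp d) d]

theorem Ctx.sing : Singular.Sing (LargeExtra.fam (QG Q) z) z X.U := by
  refine ⟨fun u hu => X.U_sq hu, fun u hu h1 => ?_, fun u hu w hw h1 h2 => ?_⟩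
  · by_cases hz : u = z
    · exact ⟨1, by rw [hz]; group⟩
    · exact (X.pt_of_mem hu h1 hz).1.conj
  · by_cases hz : u = z
    · rw [hz, fam_z D]; exact hw.1
    obtain ⟨hp, L', hL⟩ := X.pt_of_mem hu h1 hz
    refine (hp.W_mem D hw.1).1 (loc_pt_le _ hL ?_)
    obtain ⟨c, hc⟩ := mem_pt.1 hw.2
    obtain ⟨d, hd⟩ := mem_pt.1 hu.2
    have hd0 : d ≠ 0 := fun e => hp.vec_ne D (by rw [hd, e, zero_smul])
    refine mem_pt.2 ⟨c * (d * d), ?_⟩
    rw [hc, hd, smul_smul, mul_assoc, (by decide +kernel : ∀ d : F4, d ≠ 0 → d * d * d = 1) d hd0, mul_one]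

theorem Ctx.closure_eq : closure ({z, X.s, X.t} : Set G) = X.U := by
  refine le_antisymm ((closure_le _).2 ?_) fun u hu => ?_
  · rintro g (rfl | rfl | rfl)
    exacts [X.z_U, X.s_U, X.t_U]
  have hz : z ∈ closure ({z, X.s, X.t} : Set G) := subset_closure (Or.inl rfl)
  have hs : X.s ∈ closure ({z, X.s, X.t} : Set G) := subset_closure (Or.inr (Or.inl rfl))
  have ht : X.t ∈ closure ({z, X.s, X.t} : Set G) := subset_closure (Or.inr (Or.inr rfl))
  have hmove : ∀ w, w ∈ QG Q → w ∈ closure ({z, X.s, X.t} : Set G) → vec D u = vec D w →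
      u ∈ closure ({z, X.s, X.t} : Set G) := fun w hw hw' he => by
    rcases vec_eq D hu.1 hw he with e | e <;> rw [e]
    exacts [hw', mul_mem hz hw']
  obtain ⟨c, hc⟩ := mem_pt.1 hu.2
  rcases F4_cases c with rfl | rfl | rfl | rfl
  · exact hmove 1 (one_mem _) (one_mem _) (by rw [hc, zero_smul, vec_one D])
  · exact hmove X.s X.hs.mem hs (by rw [hc, one_smul])
  · exact hmove X.t X.t_mem ht (by rw [hc, X.ht])
  · exact hmove (X.t * X.s) (mul_mem X.t_mem X.hs.mem) (mul_mem ht hs)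
      (by rw [hc, vec_mul D X.t_mem X.hs.mem, X.ht, ← smul_smul, om_om])

theorem Ctx.mem_CU {g : G} :
    g ∈ X.CU ↔ g * z = z * g ∧ g * X.s = X.s * g ∧ g * X.t = X.t * g := by
  rw [Ctx.CU, ← X.closure_eq, centralizer_closure, mem_centralizer_iff]
  simp only [Set.mem_insert_iff, Set.mem_singleton_iff, forall_eq_or_imp, forall_eq]
  exact ⟨fun h => ⟨h.1.symm, h.2.1.symm, h.2.2.symm⟩, fun h => ⟨h.1.symm, h.2.1.symm, h.2.2.symm⟩⟩

theorem Ctx.CU_le : X.CU ≤ centralizer ({z} : Set G) := fun _ hg =>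
  mem_centralizer_singleton_iff.2 (X.mem_CU.1 hg).1

theorem conj_eq_of_comm {g a : G} (h : g * a * g⁻¹ = a) : g * a = a * g := mul_inv_eq_iff_eq_mul.1 h

theorem Ctx.fam_CU_normal {c u y : G} (hc : c ∈ X.CU) (hu : u ∈ X.U)
    (hy : y ∈ LargeExtra.fam (QG Q) z u) : c * y * c⁻¹ ∈ LargeExtra.fam (QG Q) z u :=
  Singular.normal_of_comm (setup D) (mem_centralizer_iff.1 hc u hu).symm hy

theorem Ctx.card_fam {u : G} (hu : u ∈ X.U) (h1 : u ≠ 1) :
    Nat.card ↥(LargeExtra.fam (QG Q) z u) = 2 ^ 13 := by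
  obtain ⟨g, rfl⟩ := X.sing.conj u hu h1
  rw [LargeExtra.fam_eq D.pre, card_map_of_injective (f := (MulAut.conj g).toMonoidHom) (MulAut.conj g).injective,
    card_QG D]

theorem Ctx.card_famCU {u : G} (hu : u ∈ X.U) (h1 : u ≠ 1) :
    Nat.card ↥(LargeExtra.fam (QG Q) z u ⊓ X.CU) = 2 ^ 11 := by
  have h := Extra2.card_mul_card_centralizer (Singular.gen_conj (setup D) (X.sing.conj u hu h1))
    (R := X.U) hu (Singular.le_core (setup D) X.sing hu h1)
  rw [X.card_U, X.card_fam hu h1] at h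
  show Nat.card ↥(LargeExtra.fam (QG Q) z u ⊓ centralizer (X.U : Set G)) = _
  omega

theorem Ctx.z_ne (_X : Ctx D) : z ≠ 1 := (genQ D).ne_one

theorem Ctx.smul_ne {c d : F4} (h : c ≠ d) : c • vec D X.s ≠ d • vec D X.s :=
  fun e => h (smul_inj X.hv e)

theorem Ctx.t_notMem : X.t ∉ pre D (pair (vec D X.s)) := by
  rintro ⟨-, h | h⟩ <;> rw [X.ht] at h
  · exact X.smul_ne (c := om) (d := 0) (by decide +kernel) (by rw [h, zero_smul])
  · exact X.smul_ne (c := om) (d := 1) (by decide +kernel) (by rw [h, one_smul])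

theorem Ctx.s_notMem : X.s ∉ pre D (pair (vec D X.t)) := by
  rintro ⟨-, h | h⟩
  · exact X.hs.vec_ne D h
  · rw [X.ht] at h
    exact X.smul_ne (c := 1) (d := om) (by decide +kernel) (by rw [one_smul]; exact h)

theorem Ctx.pair_le {y : V6} (hy : y ∈ pt (vec D X.s)) : pre D (pair y) ≤ X.U := by
  rintro g ⟨hg, h | h⟩ <;> refine ⟨hg, ?_⟩ <;> rw [h]
  exacts [zero_mem _, hy]

theorem Ctx.mk_mem (c : X.CU) :
    (QuotientGroup.mk (⟨(c : G), X.CU_le c.2⟩ : centralizer ({z} : Set G)) : _ ⧸ Q) ∈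
      D.T.stab (vec D X.s) ⊓ D.T.M := by
  obtain ⟨-, h2, h3⟩ := X.mem_CU.1 c.2
  set cc : centralizer ({z} : Set G) := ⟨(c : G), X.CU_le c.2⟩
  have hs : D.T.r (QuotientGroup.mk cc) (vec D X.s) = vec D X.s := by
    rw [← (vec_conj D cc X.hs.mem).2]
    exact congrArg _ (mul_inv_eq_iff_eq_mul.2 h2)
  have ht : D.T.r (QuotientGroup.mk cc) (om • vec D X.s) = om • vec D X.s := by
    rw [← X.ht, ← (vec_conj D cc X.t_mem).2]
    exact congrArg _ (mul_inv_eq_iff_eq_mul.2 h3)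
  refine ⟨hs, mem_M_of_comm X.inv ?_⟩
  rcases D.T.semi (QuotientGroup.mk cc) with e | e
  · exact mul_inv_eq_iff_eq_mul.1 e
  · exfalso
    rw [mul_inv_eq_iff_eq_mul] at e
    have h : D.T.r D.T.x (D.T.r (QuotientGroup.mk cc) (om • vec D X.s)) = vec D X.s := by
      rw [← D.T.r_mul, ← D.T.x_act, ← D.T.r_mul, mul_assoc, e, ← mul_assoc, mul_inv_cancel, one_mul, hs]
    rw [ht, D.T.x_act, smul_smul] at h
    exact X.smul_ne (c := om * om) (d := 1) (by decide +kernel) (by rw [one_smul]; exact h)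

theorem Ctx.exists_lift {c : (centralizer ({z} : Set G)) ⧸ Q}
    (hc : c ∈ D.T.stab (vec D X.s) ⊓ D.T.M) :
    ∃ g : centralizer ({z} : Set G), (g : G) ∈ X.CU ∧ (QuotientGroup.mk g : _ ⧸ Q) = c := by
  obtain ⟨c, rfl⟩ := QuotientGroup.mk_surjective c
  obtain ⟨c', hc', hcs⟩ := fix_lift D X.hs c hc.1
  have htv : vec D ((c' : G) * X.t * (c' : G)⁻¹) = vec D X.t := by
    rw [(vec_conj D c' X.t_mem).2, hc', X.ht, r_om (D.T.central _ hc.2), hc.1]
  rcases vec_eq D (vec_conj D c' X.t_mem).1 X.t_mem htv with e | e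
  · exact ⟨c', X.mem_CU.2 ⟨mem_centralizer_singleton_iff.1 c'.2, conj_eq_of_comm hcs, conj_eq_of_comm e⟩, hc'⟩
  obtain ⟨q, hq, hqt, hqW⟩ := Singular.exists_transvection (setup D) X.sing X.z_U X.z_ne
    (X.pair_le X.s_U.2) ⟨(genQ D).mem, Or.inl (vec_z D)⟩ (a := X.t) (by rw [fam_z D]; exact X.t_mem) X.t_notMem
  rw [fam_z D] at hq
  obtain ⟨b, hb⟩ := exists_el hq
  refine ⟨(b : centralizer ({z} : Set G)) * c', ?_, ?_⟩
  · rw [Subgroup.coe_mul, hb]
    refine X.mem_CU.2 ⟨mem_centralizer_singleton_iff.1 (mul_mem (QG_le hq) c'.2), conj_eq_of_comm ?_,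
      conj_eq_of_comm ?_⟩
    · calc q * (c' : G) * X.s * (q * (c' : G))⁻¹ = q * ((c' : G) * X.s * (c' : G)⁻¹) * q⁻¹ := by group
        _ = X.s := by rw [hcs, hqW X.s ⟨X.hs.mem, Or.inr rfl⟩]
    · have hqz : q * z * q⁻¹ = z := hqW z ⟨(genQ D).mem, Or.inl (vec_z D)⟩
      calc q * (c' : G) * X.t * (q * (c' : G))⁻¹ = q * ((c' : G) * X.t * (c' : G)⁻¹) * q⁻¹ := by group
        _ = q * (z * X.t) * q⁻¹ := by rw [e]
        _ = (q * z * q⁻¹) * (q * X.t * q⁻¹) := by group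
        _ = X.t := by rw [hqz, hqt, ← mul_assoc, (genQ D).sq, one_mul]
  · rw [QuotientGroup.mk_mul, (QuotientGroup.eq_one_iff _).2 b.2, one_mul, hc']

/-- The map of the centraliser to the quotient. -/
noncomputable def Ctx.toSM : ↥X.CU →* ↥(D.T.stab (vec D X.s) ⊓ D.T.M) :=
  MonoidHom.mk' (fun c => ⟨_, X.mk_mem c⟩) fun _ _ => Subtype.ext rfl

theorem Ctx.toSM_surj : Function.Surjective X.toSM := by
  rintro ⟨c, hc⟩
  obtain ⟨g, hg, he⟩ := X.exists_lift hc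
  exact ⟨⟨g, hg⟩, Subtype.ext he⟩

theorem Ctx.card_ker : Nat.card X.toSM.ker = 2 ^ 11 := by
  rw [← X.card_famCU X.z_U X.z_ne, fam_z D]
  refine Nat.card_congr
    { toFun := fun c => ⟨(c.1 : G), ?_, c.1.2⟩
      invFun := fun g => ⟨⟨g.1, g.2.2⟩, ?_⟩
      left_inv := fun c => rfl
      right_inv := fun g => rfl }
  · exact ⟨_, (QuotientGroup.eq_one_iff _).1 (congrArg Subtype.val c.2), rfl⟩
  · refine Subtype.ext ?_
    show (QuotientGroup.mk (⟨g.1, X.CU_le g.2.2⟩ : centralizer ({z} : Set G)) : _ ⧸ Q) = 1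
    obtain ⟨b, hb⟩ := exists_el g.2.1
    rw [QuotientGroup.eq_one_iff]
    exact (Subtype.ext hb : (b : centralizer ({z} : Set G)) = ⟨g.1, _⟩) ▸ b.2

theorem Ctx.exists_rhoCU : ∃ ρ : ↥X.CU →* A6, Function.Surjective ρ ∧ Nat.card ρ.ker = 2 ^ 15 ∧
    ∀ c : X.CU, ρ c = 1 →
      (QuotientGroup.mk (⟨(c : G), X.CU_le c.2⟩ : centralizer ({z} : Set G)) : _ ⧸ Q) ∈ radImage D X.s := by
  obtain ⟨ρ₀, hsurj, hker, hcard⟩ := loc_rho (X.hs.loc D) X.hv (X.hs.big D)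
  refine ⟨ρ₀.comp X.toSM, hsurj.comp X.toSM_surj, ?_, fun c hc => (hker _).1 hc⟩
  have h1 := Subgroup.index_mul_card X.toSM.ker
  rw [Subgroup.index_ker, MonoidHom.range_eq_top.2 X.toSM_surj, Subgroup.card_top, hcard, X.card_ker] at h1
  have h2 := Subgroup.index_mul_card (ρ₀.comp X.toSM).ker
  rw [Subgroup.index_ker, MonoidHom.range_eq_top.2 (show Function.Surjective (ρ₀.comp X.toSM) from hsurj.comp X.toSM_surj), Subgroup.card_top, card_A6] at h2
  omega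

/-- The map of the centraliser onto `A6`. -/
noncomputable def Ctx.ρ : ↥X.CU →* A6 := X.exists_rhoCU.choose

theorem Ctx.ρ_surj : Function.Surjective X.ρ := X.exists_rhoCU.choose_spec.1

/-- The kernel inside the group. -/
noncomputable def Ctx.KG : Subgroup G := X.ρ.ker.map X.CU.subtype

theorem Ctx.card_KG : Nat.card X.KG = 2 ^ 15 :=
  (card_map_of_injective X.CU.subtype_injective).trans X.exists_rhoCU.choose_spec.2.1

theorem Ctx.mem_KG {g : G} (hg : g ∈ X.CU) : g ∈ X.KG ↔ X.ρ ⟨g, hg⟩ = 1 :=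
  ⟨fun ⟨c, hc, he⟩ => (show c = ⟨g, hg⟩ from Subtype.ext he) ▸ hc, fun h => ⟨⟨g, hg⟩, h, rfl⟩⟩

theorem Ctx.two_KG : IsPGroup 2 X.KG := IsPGroup.of_card X.card_KG

theorem a6_simple : IsSimpleGroup A6 := alternatingGroup.isSimpleGroup (by simp)

theorem Ctx.le_KG {P : Subgroup G} (hP : P ≤ X.CU) (hn : ∀ c ∈ X.CU, ∀ y ∈ P, c * y * c⁻¹ ∈ P)
    (h2 : IsPGroup 2 P) : P ≤ X.KG := by
  haveI := a6_simple
  set P' := P.subgroupOf X.CU
  have hP'n : P'.Normal := ⟨fun y hy c => hn c.1 c.2 _ hy⟩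
  have h2' : IsPGroup 2 P' := h2.of_equiv (Subgroup.subgroupOfEquivOfLe hP).symm
  rcases IsSimpleGroup.eq_bot_or_eq_top_of_normal _ (hP'n.map X.ρ X.ρ_surj) with h | h
  · intro y hy
    refine (X.mem_KG (hP hy)).2 ?_
    have : X.ρ ⟨y, hP hy⟩ ∈ P'.map X.ρ := ⟨_, hy, rfl⟩
    rwa [h, mem_bot] at this
  · exfalso
    have h3 : IsPGroup 2 ↥(⊤ : Subgroup A6) := h ▸ h2'.map X.ρ
    obtain ⟨n, hn⟩ := (IsPGroup.iff_card).1 h3
    rw [Subgroup.card_top, card_A6] at hn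
    rcases Nat.lt_or_ge n 9 with hlt | hge
    · interval_cases n <;> simp at hn
    · have := Nat.pow_le_pow_right (show 0 < 2 by norm_num) hge
      omega

theorem Ctx.famCU_le_KG {u : G} (hu : u ∈ X.U) (h1 : u ≠ 1) :
    LargeExtra.fam (QG Q) z u ⊓ X.CU ≤ X.KG :=
  X.le_KG inf_le_right (fun c hc y hy => ⟨X.fam_CU_normal hc hu hy.1, X.CU.mul_mem (X.CU.mul_mem hc hy.2) (X.CU.inv_mem hc)⟩)
    (IsPGroup.of_card (X.card_famCU hu h1))

theorem Ctx.fam_le_J {u : G} (hu : u ∈ X.U) (h1 : u ≠ 1) : LargeExtra.fam (QG Q) z u ≤ X.J :=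
  Singular.core_le_join hu h1

theorem Ctx.J_le : X.J ≤ normalizer (X.U : Set G) := Singular.join_le_normalizer (setup D) X.sing

theorem Ctx.CU_le_N : X.CU ≤ normalizer (X.U : Set G) := by
  intro c hc
  rw [mem_normalizer_iff]
  intro u
  constructor
  · intro hu
    rw [← mem_centralizer_iff.1 hc u hu, mul_inv_cancel_right]; exact hu
  · intro hu
    have h := mem_centralizer_iff.1 hc _ hu
    have e : c * u * c⁻¹ = u := by
      calc c * u * c⁻¹ = c⁻¹ * (c * (c * u * c⁻¹)) := by group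
        _ = c⁻¹ * ((c * u * c⁻¹) * c) := by rw [h]
        _ = u := by group
    rwa [e] at hu

theorem Ctx.CU_conj {n c : G} (hn : n ∈ normalizer (X.U : Set G)) (hc : c ∈ X.CU) : n * c * n⁻¹ ∈ X.CU := by
  refine mem_centralizer_iff.2 fun u hu => ?_
  have hu' : n⁻¹ * u * n ∈ X.U := by
    have := (mem_normalizer_iff.1 (inv_mem hn) u).1 hu
    rwa [inv_inv] at this
  have h := mem_centralizer_iff.1 hc _ hu'
  calc u * (n * c * n⁻¹) = n * ((n⁻¹ * u * n) * c) * n⁻¹ := by group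
    _ = n * (c * (n⁻¹ * u * n)) * n⁻¹ := by rw [h]
    _ = _ := by group

theorem Ctx.KG_le_CU : X.KG ≤ X.CU := map_subtype_le _

theorem Ctx.KG_CU_normal {c y : G} (hc : c ∈ X.CU) (hy : y ∈ X.KG) : c * y * c⁻¹ ∈ X.KG := by
  obtain ⟨k, hk, rfl⟩ := hy
  exact ⟨⟨c, hc⟩ * k * ⟨c, hc⟩⁻¹, (inferInstance : X.ρ.ker.Normal).conj_mem k hk _, rfl⟩

theorem Ctx.KG_normal {n y : G} (hn : n ∈ normalizer (X.U : Set G)) (hy : y ∈ X.KG) :
    n * y * n⁻¹ ∈ X.KG := by
  have hle : X.KG.map (MulAut.conj n).toMonoidHom ≤ X.KG := by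
    refine X.le_KG ?_ ?_ (X.two_KG.map _)
    · rintro _ ⟨w, hw, rfl⟩
      exact X.CU_conj hn (X.KG_le_CU hw)
    · rintro c hc _ ⟨w, hw, rfl⟩
      refine ⟨(n⁻¹ * c * n) * w * (n⁻¹ * c * n)⁻¹, X.KG_CU_normal ?_ hw, ?_⟩
      · have := X.CU_conj (inv_mem hn) hc
        rwa [inv_inv] at this
      · show n * ((n⁻¹ * c * n) * w * (n⁻¹ * c * n)⁻¹) * n⁻¹ = c * (n * w * n⁻¹) * c⁻¹
        group
  exact hle ⟨y, hy, rfl⟩

theorem Ctx.comm_J {j c : G} (hj : j ∈ X.J) (hc : c ∈ X.CU) : j * c * j⁻¹ * c⁻¹ ∈ X.KG := by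
  let K : Subgroup G :=
    { carrier := {j | j ∈ normalizer (X.U : Set G) ∧ ∀ c ∈ X.CU, j * c * j⁻¹ * c⁻¹ ∈ X.KG}
      one_mem' := ⟨one_mem _, fun c _ => by simp⟩
      mul_mem' := by
        rintro a b ⟨ha, ha'⟩ ⟨hb, hb'⟩
        refine ⟨mul_mem ha hb, fun c hc => ?_⟩
        have : a * b * c * (a * b)⁻¹ * c⁻¹ =
            (a * (b * c * b⁻¹ * c⁻¹) * a⁻¹) * (a * c * a⁻¹ * c⁻¹) := by group
        rw [this]
        exact mul_mem (X.KG_normal ha (hb' c hc)) (ha' c hc)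
      inv_mem' := by
        rintro a ⟨ha, ha'⟩
        refine ⟨inv_mem ha, fun c hc => ?_⟩
        have : a⁻¹ * c * a⁻¹⁻¹ * c⁻¹ = a⁻¹ * (a * c * a⁻¹ * c⁻¹)⁻¹ * a⁻¹⁻¹ := by group
        rw [this]
        exact X.KG_normal (inv_mem ha) (inv_mem (ha' c hc)) }
  have hle : X.J ≤ K := iSup₂_le fun u hu q hq => by
    obtain ⟨huU, hu1⟩ : u ∈ X.U ∧ u ≠ 1 := by
      simpa only [Set.mem_sdiff, SetLike.mem_coe, Set.mem_singleton_iff] using hu
    have hqN := X.J_le (X.fam_le_J huU hu1 hq)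
    refine ⟨hqN, fun c hc => X.famCU_le_KG huU hu1 ⟨?_, ?_⟩⟩
    · rw [mul_assoc, mul_assoc q, ← mul_assoc c]
      exact mul_mem hq (X.fam_CU_normal hc huU (inv_mem hq))
    · exact X.CU.mul_mem (X.CU_conj hqN hc) (X.CU.inv_mem hc)
  exact (hle hj).2 c hc

theorem Ctx.KG_le_sup : X.KG ≤ (QG Q ⊓ X.CU) ⊔ (LargeExtra.fam (QG Q) z X.s ⊓ X.CU) := by
  intro g hg
  have hgc := X.KG_le_CU hg
  have h := X.exists_rhoCU.choose_spec.2.2 ⟨g, hgc⟩ ((X.mem_KG hgc).1 hg)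
  obtain ⟨e, he, hme⟩ := h
  have he' : (e : G) ∈ LargeExtra.fam (QG Q) z X.s := he
  have hstab := X.mk_mem ⟨g, hgc⟩
  have hme' : (QuotientGroup.mk e : _ ⧸ Q) = QuotientGroup.mk (⟨g, X.CU_le hgc⟩ : centralizer ({z} : Set G)) := hme
  have htv : vec D ((e : G) * X.t * (e : G)⁻¹) = vec D X.t := by
    rw [(vec_conj D e X.t_mem).2, hme', X.ht, r_om (D.T.central _ hstab.2), hstab.1]
  have hts : X.t ∈ LargeExtra.fam (QG Q) z X.s :=
    X.sing.orth X.s X.s_U X.t X.t_U (X.hs.gen D).ne_one (fun h => by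
      have := X.ht; rw [h, vec_one D] at this
      exact X.smul_ne (c := om) (d := 0) (by decide +kernel) (by rw [← this, zero_smul]))
  have het : (e : G) * X.t * (e : G)⁻¹ = X.t := by
    rcases vec_eq D (vec_conj D e X.t_mem).1 X.t_mem htv with h | h
    · exact h
    · exfalso
      rcases (X.hs.gen D).comm _ he' _ hts with h' | h' <;> rw [h, mul_inv_cancel_right] at h'
      · exact X.z_ne h'
      · exact X.hs.ne h'.symm
  have heC : (e : G) ∈ X.CU :=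
    X.mem_CU.2 ⟨mem_centralizer_singleton_iff.1 e.2, (X.hs.gen D).comm_z _ he', conj_eq_of_comm het⟩
  have hq : (e : G)⁻¹ * g ∈ QG Q := ⟨_, (QuotientGroup.eq).1 hme', rfl⟩
  rw [show g = (e : G) * ((e : G)⁻¹ * g) by group]
  exact mul_mem (mem_sup_right ⟨he', heC⟩) (mem_sup_left ⟨hq, X.CU.mul_mem (X.CU.inv_mem heC) hgc⟩)

theorem Ctx.R_eq : X.R = X.KG := by
  haveI := a6_simple
  refine le_antisymm (fun y hy => ?_) (le_inf (X.KG_le_sup.trans (sup_le ?_ ?_)) X.KG_le_CU)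
  · refine (X.mem_KG hy.2).2 ?_
    have hcen : X.ρ ⟨y, hy.2⟩ ∈ Subgroup.center A6 := by
      refine mem_center_iff.2 fun a => ?_
      obtain ⟨c, rfl⟩ := X.ρ_surj a
      have h := X.comm_J hy.1 c.2
      obtain ⟨k, hk, he⟩ := h
      have hk' : k = ⟨y, hy.2⟩ * c * ⟨y, hy.2⟩⁻¹ * c⁻¹ := Subtype.ext he
      rw [hk', SetLike.mem_coe, MonoidHom.mem_ker, map_mul, map_mul, map_mul, map_inv, map_inv] at hk
      exact (mul_inv_eq_iff_eq_mul.1 (mul_inv_eq_one.1 hk)).symm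
    rcases IsSimpleGroup.eq_bot_or_eq_top_of_normal (Subgroup.center A6) inferInstance with h | h
    · rwa [h, mem_bot] at hcen
    · exfalso
      have hg : g3 ∈ Subgroup.center A6 := h ▸ mem_top _
      exact absurd (mem_center_iff.1 hg g5) (by decide +kernel)
  · rw [← fam_z D]
    exact inf_le_left.trans (X.fam_le_J X.z_U X.z_ne)
  · exact inf_le_left.trans (X.fam_le_J X.s_U (X.hs.gen D).ne_one)

theorem Ctx.card_R : Nat.card X.R = 2 ^ 15 := by rw [X.R_eq]; exact X.card_KG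

theorem Ctx.R_normal {n y : G} (hn : n ∈ normalizer (X.U : Set G)) (hy : y ∈ X.R) : n * y * n⁻¹ ∈ X.R := by
  rw [X.R_eq] at hy ⊢
  exact X.KG_normal hn hy

end CfsgLib.FiLarge.Eight
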