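import Cfsg.Agent.FiLarge.Orbits

/-!
The polar form in coordinates, phase twists, and the finite facts about vectors orthogonal to a
vector of full support that are used for the local subgroup of type `2^(3+12)`.
-/

set_option autoImplicit false
set_option maxRecDepth 100000

namespace CfsgLib.FiLarge.Eight

/-- The polar form in one coordinate. -/
def pc (a b : F4) : ZMod 2 :=
  (if a + b = 0 then 0 else 1) + (if a = 0 then 0 else 1) + (if b = 0 then 0 else 1)

/-- The polar form. -/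
def pol (a b : V6) : ZMod 2 := ∑ i, pc (a i) (b i)

theorem pc_comm : ∀ a b, pc a b = pc b a := by decide +kernel

theorem pc_add : ∀ a b c, pc (a + b) c = pc a c + pc b c := by decide +kernel

theorem pc_sum : ∀ a b : F4, (if a + b = 0 then (0 : ZMod 2) else 1) =
    (if a = 0 then 0 else 1) + (if b = 0 then 0 else 1) + pc a b := by decide +kernel

theorem pc_twist : ∀ a b c : F4, c ≠ 0 → pc (c * a) (c * b) = pc a b := by decide +kernel

theorem pc_om : ∀ a b : F4, pc (om * a) b = pc a (om * om * b) := by decide +kernel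

theorem pol_comm (a b : V6) : pol a b = pol b a := Finset.sum_congr rfl fun i _ => pc_comm (a i) (b i)

theorem pol_add (a b c : V6) : pol (a + b) c = pol a c + pol b c := by
  rw [pol, pol, pol, ← Finset.sum_add_distrib]
  exact Finset.sum_congr rfl fun i _ => pc_add (a i) (b i) (c i)

theorem pol_add' (a b c : V6) : pol a (b + c) = pol a b + pol a c := by
  rw [pol_comm, pol_add, pol_comm b, pol_comm c]

theorem qn_add (a b : V6) : qn (a + b) = qn a + qn b + pol a b := by
  rw [qn, qn, qn, pol, ← Finset.sum_add_distrib, ← Finset.sum_add_distrib]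
  exact Finset.sum_congr rfl fun i _ => pc_sum (a i) (b i)

theorem orth_iff (a b : V6) : qn (a + b) = qn a + qn b ↔ pol a b = 0 := by
  rw [qn_add, add_eq_left]

theorem add_self (a : V6) : a + a = 0 :=
  funext fun i => (by decide +kernel : ∀ c : F4, c + c = 0) (a i)

theorem neg_self (a : V6) : -a = a := neg_eq_of_add_eq_zero_left (add_self a)

theorem zmod_two : ∀ c : ZMod 2, c + c = 0 := by decide

theorem pol_zero (a : V6) : pol 0 a = 0 := by
  rw [← add_self a, pol_add]
  exact zmod_two _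

theorem pol_self (a : V6) : pol a a = 0 := by
  refine Finset.sum_eq_zero fun i _ => ?_
  exact (by decide +kernel : ∀ c : F4, pc c c = 0) (a i)

theorem pol_om (a b : V6) : pol (om • a) b = pol a (om • om • b) :=
  Finset.sum_congr rfl fun i _ => by
    show pc (om * a i) (b i) = pc (a i) (om * (om * b i))
    rw [pc_om, mul_assoc]

theorem om_add (a b : V6) : om • (a + b) = om • a + om • b := smul_add om a b

theorem om_om (a : V6) : om • om • a = om • a + a :=
  funext fun i => (by decide +kernel : ∀ c : F4, om * (om * c) = om * c + c) (a i)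

theorem om_three (a : V6) : om • om • om • a = a :=
  funext fun i => (by decide +kernel : ∀ c : F4, om * (om * (om * c)) = c) (a i)

theorem dmul_add (L : Fin 6 → ZMod 3) (a b : V6) : dmul L (a + b) = dmul L a + dmul L b :=
  funext fun _ => mul_add _ _ _

theorem dmul_dmul (L M : Fin 6 → ZMod 3) (a : V6) : dmul L (dmul M a) = dmul (L + M) a :=
  funext fun i => by
    show omp (L i) * (omp (M i) * a i) = omp (L i + M i) * a i
    rw [omp_add, mul_assoc]

theorem dmul_zero' (a : V6) : dmul 0 a = a :=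
  funext fun i => by show omp 0 * a i = a i; rw [omp_zero, one_mul]

theorem dmul_smul (L : Fin 6 → ZMod 3) (c : F4) (a : V6) : dmul L (c • a) = c • dmul L a :=
  funext fun i => mul_left_comm (omp (L i)) c (a i)

theorem dmul_qn (L : Fin 6 → ZMod 3) (a : V6) : qn (dmul L a) = qn a :=
  Finset.sum_congr rfl fun i _ => by
    show (if omp (L i) * a i = 0 then (0 : ZMod 2) else 1) = _
    simp [omp_ne (L i)]

theorem dmul_pol (L : Fin 6 → ZMod 3) (a b : V6) : pol (dmul L a) (dmul L b) = pol a b :=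
  Finset.sum_congr rfl fun i _ => pc_twist _ _ _ (omp_ne (L i))

theorem dmul_surj (L : Fin 6 → ZMod 3) (a : V6) : dmul L (dmul (-L) a) = a := by
  rw [dmul_dmul, add_neg_cancel, dmul_zero']

theorem dmul_inj (L : Fin 6 → ZMod 3) {a b : V6} (h : dmul L a = dmul L b) : a = b := by
  have := congrArg (dmul (-L)) h
  rwa [dmul_dmul, dmul_dmul, neg_add_cancel, dmul_zero', dmul_zero'] at this

theorem dmul_zero_vec (L : Fin 6 → ZMod 3) : dmul L 0 = 0 := funext fun _ => mul_zero _

/-- The vector with all coordinates one. -/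
def one6 : V6 := fun _ => 1

/-- The first unit vector. -/
def e0 : V6 := ![1, 0, 0, 0, 0, 0]

/-- The sum of the coordinates. -/
def sm (y : V6) : F4 := ∑ i, y i

/-- The plane spanned over the two element field by a point. -/
def line (v : V6) : Set V6 := {y | y = 0 ∨ y = v ∨ y = om • v ∨ y = om • om • v}

theorem sm_iff : ∀ y : V6, sm y = 0 ↔ pol one6 y = 0 ∧ pol one6 (om • y) = 0 := by
  let φ : F4 →+ ZMod 2 := AddMonoidHom.mk' (pc 1) fun a b => by
    rw [pc_comm, pc_add, pc_comm a, pc_comm b]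
  have h1 : ∀ y : V6, pol one6 y = pc 1 (sm y) := fun y => (map_sum φ y Finset.univ).symm
  intro y
  rw [h1, h1, show sm (om • y) = om * sm y from (Finset.mul_sum Finset.univ y om).symm]
  exact (by decide +kernel : ∀ c : F4, c = 0 ↔ pc 1 c = 0 ∧ pc 1 (om * c) = 0) (sm y)

theorem const_cases : ∀ y : V6, (∀ i, y i = y 0) →
    y = 0 ∨ y = one6 ∨ y = om • one6 ∨ y = om • om • one6 := by decide +kernel

/-- Four three-cycles. -/
def cycs : List (Equiv.Perm (Fin 6)) :=
  [Equiv.swap 0 1 * Equiv.swap 1 2, Equiv.swap 1 2 * Equiv.swap 2 3,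
    Equiv.swap 2 3 * Equiv.swap 3 4, Equiv.swap 3 4 * Equiv.swap 4 5]

theorem cycs_even : ∀ σ ∈ cycs, Equiv.Perm.sign σ = 1 := by
  intro σ hσ
  simp only [cycs, List.mem_cons, List.not_mem_nil, or_false] at hσ
  rcases hσ with rfl | rfl | rfl | rfl <;> decide +kernel

/-- The coordinate maps of the three-cycles. -/
def cycFun : List (Fin 6 → Fin 6) :=
  [![1, 2, 0, 3, 4, 5], ![0, 2, 3, 1, 4, 5], ![0, 1, 3, 4, 2, 5], ![0, 1, 2, 4, 5, 3]]

theorem cycFun_eq : ∀ f ∈ cycFun, ∃ σ ∈ cycs, ∀ i, σ i = f i := by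
  intro f hf
  simp only [cycFun, List.mem_cons, List.not_mem_nil, or_false] at hf
  rcases hf with rfl | rfl | rfl | rfl
  · exact ⟨cycs[0], List.getElem_mem _, by decide +kernel⟩
  · exact ⟨cycs[1], List.getElem_mem _, by decide +kernel⟩
  · exact ⟨cycs[2], List.getElem_mem _, by decide +kernel⟩
  · exact ⟨cycs[3], List.getElem_mem _, by decide +kernel⟩

theorem core_table : ∀ y : V6, sm y = 0 → qn y = 0 → (∀ i, y i = y 0) ∨
    ∃ f ∈ cycFun, pol y (fun i => y (f i)) ≠ 0 ∨ pol y (om • fun i => y (f i)) ≠ 0 := by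
  have key : ∀ y : V6, sm y = 0 → qn y = 0 → (∀ i, y i = y 0) ∨ (cycFun.any fun f =>
      decide (pol y (fun i => y (f i)) ≠ 0 ∨ pol y (om • fun i => y (f i)) ≠ 0)) = true := by decide +kernel
  intro y h1 h2
  refine (key y h1 h2).imp_right fun h => ?_
  obtain ⟨f, hf, he⟩ := List.any_eq_true.1 h
  exact ⟨f, hf, of_decide_eq_true he⟩

/-- Vectors with zero sum and small support. -/
def hvec : List V6 :=
  [![1, 1, 0, 0, 0, 0], ![om, om, 0, 0, 0, 0], ![0, 1, 1, 0, 0, 0], ![0, om, om, 0, 0, 0],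
    ![0, 0, 1, 1, 0, 0], ![0, 0, om, om, 0, 0], ![0, 0, 0, 1, 1, 0], ![0, 0, 0, om, om, 0],
    ![0, 0, 0, 0, 1, 1], ![0, 0, 0, 0, om, om]]

theorem hvec_sm : ∀ h ∈ hvec, sm h = 0 := by
  have key : (hvec.all fun h => decide (sm h = 0)) = true := by decide +kernel
  exact fun h hh => of_decide_eq_true (List.all_eq_true.1 key h hh)

theorem perp_table : ∀ y : V6, (∀ i, y i = y 0) ∨ ∃ h ∈ hvec, pol y h ≠ 0 := by
  intro y
  by_cases h : ∃ h ∈ hvec, pol y h ≠ 0
  · exact Or.inr h
  left
  simp only [not_exists, not_and, not_not] at h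
  have e : ∀ a b : F4, pc a 1 + pc b 1 = 0 → pc a om + pc b om = 0 → a = b := by decide +kernel
  have h0 : ∀ a : F4, pc a 0 = 0 := by decide +kernel
  have hx : ∀ a b c d f g : F4, pol y ![a, b, c, d, f, g] =
      pc (y 0) a + pc (y 1) b + pc (y 2) c + pc (y 3) d + pc (y 4) f + pc (y 5) g := by
    intro a b c d f g
    rw [pol, Fin.sum_univ_six]
    rfl
  have h1 : y 0 = y 1 ∧ y 1 = y 2 ∧ y 2 = y 3 ∧ y 3 = y 4 ∧ y 4 = y 5 := by
    refine ⟨?_, ?_, ?_, ?_, ?_⟩
    · have ha := h ![1, 1, 0, 0, 0, 0] (by simp [hvec])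
      have hb := h ![om, om, 0, 0, 0, 0] (by simp [hvec])
      simp only [hx, h0, add_zero, zero_add] at ha hb
      exact e _ _ ha hb
    · have ha := h ![0, 1, 1, 0, 0, 0] (by simp [hvec])
      have hb := h ![0, om, om, 0, 0, 0] (by simp [hvec])
      simp only [hx, h0, add_zero, zero_add] at ha hb
      exact e _ _ ha hb
    · have ha := h ![0, 0, 1, 1, 0, 0] (by simp [hvec])
      have hb := h ![0, 0, om, om, 0, 0] (by simp [hvec])
      simp only [hx, h0, add_zero, zero_add] at ha hb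
      exact e _ _ ha hb
    · have ha := h ![0, 0, 0, 1, 1, 0] (by simp [hvec])
      have hb := h ![0, 0, 0, om, om, 0] (by simp [hvec])
      simp only [hx, h0, add_zero, zero_add] at ha hb
      exact e _ _ ha hb
    · have ha := h ![0, 0, 0, 0, 1, 1] (by simp [hvec])
      have hb := h ![0, 0, 0, 0, om, om] (by simp [hvec])
      simp only [hx, h0, add_zero, zero_add] at ha hb
      exact e _ _ ha hb
  obtain ⟨a, b, c, d, f⟩ := h1
  intro i
  fin_cases i
  · rfl
  · exact a.symm
  · exact (a.trans b).symm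
  · exact ((a.trans b).trans c).symm
  · exact (((a.trans b).trans c).trans d).symm
  · exact ((((a.trans b).trans c).trans d).trans f).symm

theorem e0_sm : sm e0 = 1 := by decide +kernel

theorem const_pol : ∀ c : F4, pol e0 (c • one6) = 0 → pol e0 (om • c • one6) = 0 → c = 0 := by
  decide +kernel

theorem const_qn : ∀ c : F4, qn (e0 + c • one6) = qn e0 → c = 0 ∨ c = 1 := by decide +kernel

theorem split (y : V6) : y = (y + sm y • e0) + sm y • e0 := by rw [add_assoc, add_self, add_zero]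

theorem split_sm : ∀ y : V6, sm (y + sm y • e0) = 0 := by
  intro y
  have h : sm (y + sm y • e0) = sm y + sm y * sm e0 := by
    unfold sm
    rw [Finset.mul_sum, ← Finset.sum_add_distrib]
    rfl
  rw [h, e0_sm, mul_one]
  exact (by decide +kernel : ∀ c : F4, c + c = 0) _

/-- The phases of the normal forms of full support. -/
def nfL (k : Fin 5) : Fin 6 → ZMod 3 := fun i => logF (nf k i)

theorem nf_twist : ∀ k : Fin 5, 2 ≤ k.val → dmul (nfL k) one6 = nf k := by decide +kernel

theorem transvection_table : ∀ k k0 : Fin 5, 2 ≤ k.val → 2 ≤ k0.val → k ≠ k0 →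
    ∃ y ∈ ([![0, 0, 1, 1, 1, om], ![0, 0, 1, 1, 1, om * om]] : List V6),
      kind (dmul (nfL k) y) = some 1 ∧ kind (dmul (nfL k) (y + sm y • one6)) = some k0 := by decide +kernel

/-- The phases fixing the first two coordinates. -/
def tailPh : List (Fin 6 → ZMod 3) :=
  [![0, 0, 1, 2, 0, 0], ![0, 0, 1, 0, 2, 0], ![0, 0, 1, 0, 0, 2], ![0, 0, 2, 1, 0, 0],
    ![0, 0, 0, 1, 2, 0], ![0, 0, 0, 0, 1, 2]]

theorem tailPh_ok : ∀ p ∈ tailPh, ∑ i, p i = 0 ∧ dmul p v2 = v2 := by
  have key : (tailPh.all fun p => decide (∑ i, p i = 0 ∧ dmul p v2 = v2)) = true := by decide +kernel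
  exact fun h hh => of_decide_eq_true (List.all_eq_true.1 key h hh)

theorem small_table : ∀ y : V6, (∀ i : Fin 6, 2 ≤ i.val → y i = 0) ∨
    ∃ p ∈ tailPh, qn (y + dmul p y) ≠ 0 ∨
      ∃ p' ∈ tailPh, qn (y + dmul p y + dmul p' (y + dmul p y)) ≠ 0 := by
  have key : ∀ a b c d : F4, (a = 0 ∧ b = 0 ∧ c = 0 ∧ d = 0) ∨ (tailPh.any fun p =>
      decide (qn (![0, 0, a, b, c, d] + dmul p ![0, 0, a, b, c, d]) ≠ 0) ||
        tailPh.any fun p' => decide (qn (![0, 0, a, b, c, d] + dmul p ![0, 0, a, b, c, d] +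
          dmul p' (![0, 0, a, b, c, d] + dmul p ![0, 0, a, b, c, d])) ≠ 0)) = true := by decide +kernel
  have hp : (tailPh.all fun p => decide (omp (p 0) = 1 ∧ omp (p 1) = 1)) = true := by decide +kernel
  intro y
  rcases key (y 2) (y 3) (y 4) (y 5) with ⟨e2, e3, e4, e5⟩ | h
  · left
    intro i hi
    fin_cases i <;> first | assumption | simp at hi
  right
  have hy : ∀ p ∈ tailPh, ![0, 0, y 2, y 3, y 4, y 5] + dmul p ![0, 0, y 2, y 3, y 4, y 5] = y + dmul p y := by
    intro p hpm
    obtain ⟨h0, h1⟩ : omp (p 0) = 1 ∧ omp (p 1) = 1 := by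
      simpa using List.all_eq_true.1 hp p hpm
    have hc : ∀ c : F4, c + c = 0 := by decide +kernel
    funext i
    fin_cases i <;> simp [dmul, h0, h1, hc]
  obtain ⟨p, hpm, he⟩ := List.any_eq_true.1 h
  refine ⟨p, hpm, ?_⟩
  rcases Bool.or_eq_true_iff.1 he with h' | h'
  · left
    have h'' : qn (![0, 0, y 2, y 3, y 4, y 5] + dmul p ![0, 0, y 2, y 3, y 4, y 5]) ≠ 0 :=
      decide_eq_true_iff.1 h'
    rwa [hy p hpm] at h''
  · obtain ⟨g, hg, hge⟩ := List.any_eq_true.1 h'
    refine Or.inr ⟨g, hg, ?_⟩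
    have h'' := decide_eq_true_iff.1 hge
    rwa [hy p hpm] at h''

theorem small_card : (Finset.univ.filter fun y : V6 =>
    (∀ i : Fin 6, 2 ≤ i.val → y i = 0) ∧ qn y = 0).card = 10 := by decide +kernel

theorem unions_eight : ∀ I : Finset (Fin 5), 0 ∉ I → ∑ k ∈ I, sizeK k = 1701 →
    1 ∈ I ∧ (∃ k, 2 ≤ k.val ∧ k ∈ I) ∧ ∃ k, 2 ≤ k.val ∧ k ∉ I := by decide +kernel

end CfsgLib.FiLarge.Eight
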