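import Cfsg.Agent.FiLarge.EightRho
import Cfsg.Agent.FiLarge.Setting
import Cfsg.Agent.LargeExtra.Basic

/-!
Conjugates of the central involution inside the extraspecial subgroup, as vectors of the model.
-/

set_option autoImplicit false
set_option linter.style.haveILetI false

namespace CfsgLib.FiLarge.Eight

open Subgroup

variable {G : Type*} [Group G] [Finite G] {z : G}
  {Q : Subgroup (centralizer ({z} : Set G))} [Q.Normal]

variable (Q) in
/-- The extraspecial subgroup inside the whole group. -/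
abbrev QG : Subgroup G := Q.map (centralizer ({z} : Set G)).subtype

variable (D : Dat z Q)
include D

omit [Finite G] in
theorem setup : Singular.Setup (LargeExtra.fam (QG Q) z) z := LargeExtra.toSetup D.pre

omit [Finite G] in
theorem fam_z : LargeExtra.fam (QG Q) z z = QG Q := LargeExtra.fam_self D.pre

omit [Finite G] D in
theorem QG_le : QG Q ≤ centralizer ({z} : Set G) := Subgroup.map_subtype_le Q

omit [Finite G] in
theorem genQ : Extra2.Gen (QG Q) z := D.pre.gen

open Classical in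
/-- The vector of an element. -/
noncomputable def vec (g : G) : V6 :=
  if h : ∃ a : Q, ((a : centralizer ({z} : Set G)) : G) = g then D.π h.choose else 0

omit [Finite G] in
theorem vec_coe (a : Q) : vec D ((a : centralizer ({z} : Set G)) : G) = D.π a := by
  have h : ∃ b : Q, ((b : centralizer ({z} : Set G)) : G) = ((a : centralizer ({z} : Set G)) : G) := ⟨a, rfl⟩
  rw [vec, dif_pos h]
  exact congrArg D.π (Subtype.ext (Subtype.ext h.choose_spec))

omit [Finite G] D in
theorem exists_el {g : G} (hg : g ∈ QG Q) : ∃ a : Q, ((a : centralizer ({z} : Set G)) : G) = g := by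
  obtain ⟨c, hc, rfl⟩ := hg
  exact ⟨⟨c, hc⟩, rfl⟩

omit [Finite G] D in
theorem coe_mem (a : Q) : ((a : centralizer ({z} : Set G)) : G) ∈ QG Q := ⟨_, a.2, rfl⟩

omit [Finite G] in
theorem vec_mul {g h : G} (hg : g ∈ QG Q) (hh : h ∈ QG Q) : vec D (g * h) = vec D g + vec D h := by
  obtain ⟨a, rfl⟩ := exists_el hg
  obtain ⟨b, rfl⟩ := exists_el hh
  rw [vec_coe, vec_coe, ← D.π_mul, ← vec_coe]
  rfl

omit [Finite G] in
theorem vec_eq_zero {g : G} (hg : g ∈ QG Q) : vec D g = 0 ↔ g = 1 ∨ g = z := by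
  obtain ⟨a, rfl⟩ := exists_el hg
  rw [vec_coe, D.π_eq_zero]

omit [Finite G] in
theorem vec_one : vec D (1 : G) = 0 := (vec_eq_zero D (one_mem _)).2 (Or.inl rfl)

omit [Finite G] in
theorem vec_z : vec D z = 0 := (vec_eq_zero D (genQ D).mem).2 (Or.inr rfl)

omit [Finite G] in
theorem vec_inv {g : G} (hg : g ∈ QG Q) : vec D g⁻¹ = vec D g := by
  have h := vec_mul D hg (inv_mem hg)
  rw [mul_inv_cancel, vec_one D] at h
  rw [← neg_self (vec D g)]
  exact (neg_eq_of_add_eq_zero_right h.symm).symm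

omit [Finite G] in
theorem vec_eq {g h : G} (hg : g ∈ QG Q) (hh : h ∈ QG Q) (he : vec D g = vec D h) :
    g = h ∨ g = z * h := by
  have h0 : vec D (g * h⁻¹) = 0 := by rw [vec_mul D hg (inv_mem hh), vec_inv D hh, he, add_self]
  rcases (vec_eq_zero D (mul_mem hg (inv_mem hh))).1 h0 with e | e
  · exact Or.inl (mul_inv_eq_one.1 e)
  · exact Or.inr (mul_inv_eq_iff_eq_mul.1 e)

omit [Finite G] in
theorem exists_vec (a : V6) : ∃ g ∈ QG Q, vec D g = a := by
  obtain ⟨b, rfl⟩ := D.π_surj a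
  exact ⟨_, coe_mem b, vec_coe D b⟩

omit [Finite G] in
theorem sq_iff {g : G} (hg : g ∈ QG Q) : g * g = 1 ↔ qn (vec D g) = 0 := by
  obtain ⟨a, rfl⟩ := exists_el hg
  rw [vec_coe, ← D.sq_iff]
  exact ⟨fun h => Subtype.ext (Subtype.ext h), fun h => congrArg (fun b : Q => ((b : centralizer ({z} : Set G)) : G)) h⟩

omit [Finite G] in
theorem comm_iff {g h : G} (hg : g ∈ QG Q) (hh : h ∈ QG Q) :
    g * h = h * g ↔ pol (vec D g) (vec D h) = 0 := by
  obtain ⟨a, rfl⟩ := exists_el hg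
  obtain ⟨b, rfl⟩ := exists_el hh
  rw [vec_coe, vec_coe, ← orth_iff, ← D.comm_iff]
  exact ⟨fun h => Subtype.ext (Subtype.ext h), fun h => congrArg (fun b : Q => ((b : centralizer ({z} : Set G)) : G)) h⟩

omit [Finite G] in
theorem vec_conj (c : centralizer ({z} : Set G)) {g : G} (hg : g ∈ QG Q) :
    (c : G) * g * (c : G)⁻¹ ∈ QG Q ∧
      vec D ((c : G) * g * (c : G)⁻¹) = D.T.r (QuotientGroup.mk c) (vec D g) := by
  obtain ⟨a, rfl⟩ := exists_el hg
  refine ⟨⟨_, (MulAut.conjNormal c a).2, rfl⟩, ?_⟩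
  rw [vec_coe, ← D.act, ← vec_coe]
  rfl

omit [Finite G] in
/-- The subgroup of elements with vector in a given subgroup. -/
noncomputable def pre (S : AddSubgroup V6) : Subgroup G where
  carrier := {g | g ∈ QG Q ∧ vec D g ∈ S}
  one_mem' := ⟨one_mem _, by rw [vec_one D]; exact zero_mem _⟩
  mul_mem' := fun {g h} ⟨hg, hg'⟩ ⟨hh, hh'⟩ => ⟨mul_mem hg hh, by rw [vec_mul D hg hh]; exact add_mem hg' hh'⟩
  inv_mem' := fun {g} ⟨hg, hg'⟩ => ⟨inv_mem hg, by rw [vec_inv D hg]; exact hg'⟩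

omit [Finite G] in
theorem mem_pre {S : AddSubgroup V6} {g : G} : g ∈ pre D S ↔ g ∈ QG Q ∧ vec D g ∈ S := Iff.rfl

theorem card_pre (S : AddSubgroup V6) : Nat.card (pre D S) = 2 * Nat.card S := by
  let f : ↥(pre D S) →* Multiplicative S :=
    MonoidHom.mk' (fun g => Multiplicative.ofAdd ⟨vec D g.1, g.2.2⟩) fun g h =>
      congrArg Multiplicative.ofAdd (Subtype.ext (vec_mul D g.2.1 h.2.1))
  have hf : Function.Surjective f := by
    intro s
    obtain ⟨g, hg, he⟩ := exists_vec D (s.toAdd : V6)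
    exact ⟨⟨g, hg, by rw [he]; exact s.toAdd.2⟩, congrArg Multiplicative.ofAdd (Subtype.ext he)⟩
  have hker : Nat.card f.ker = 2 := by
    have hz : z ∈ pre D S := ⟨(genQ D).mem, by rw [vec_z D]; exact zero_mem _⟩
    refine Eq.trans ?_ ((Nat.card_zpowers z).trans (Extra2.orderOf_gen (genQ D)))
    refine Nat.card_congr
      { toFun := fun g => ⟨g.1.1, ?_⟩
        invFun := fun g => ⟨⟨g.1, (Subgroup.zpowers_le.2 hz) g.2⟩, ?_⟩
        left_inv := fun g => rfl
        right_inv := fun g => rfl }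
    · have h : vec D g.1.1 = 0 := congrArg (fun s : Multiplicative S => (s.toAdd : V6)) g.2
      exact (Extra2.mem_zpowers_iff (genQ D).sq).2 ((vec_eq_zero D g.1.2.1).1 h)
    · show f _ = 1
      exact congrArg Multiplicative.ofAdd (Subtype.ext ((vec_eq_zero D
        ((Subgroup.zpowers_le.2 (genQ D).mem) g.2)).2 ((Extra2.mem_zpowers_iff (genQ D).sq).1 g.2)))
  have h := Subgroup.index_mul_card f.ker
  rw [Subgroup.index_ker, MonoidHom.range_eq_top.2 hf, Subgroup.card_top, hker] at h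
  rw [← h, mul_comm]
  rfl

omit [Finite G] in
theorem card_QG : Nat.card (QG Q) = 2 ^ 13 := by
  rw [← D.cardQ]
  exact Nat.card_congr (Q.equivMapOfInjective _ (centralizer ({z} : Set G)).subtype_injective).toEquiv.symm

theorem iso_bound (S : AddSubgroup V6) (hS : ∀ a ∈ S, ∀ b ∈ S, pol a b = 0) : Nat.card S ≤ 64 := by
  have hz : z ∈ pre D S := ⟨(genQ D).mem, by rw [vec_z D]; exact zero_mem _⟩
  have h := Extra2.card_mul_card_centralizer (genQ D) (R := pre D S) hz fun g hg => hg.1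
  have hle : pre D S ≤ QG Q ⊓ centralizer (pre D S : Set G) := fun g hg =>
    ⟨hg.1, mem_centralizer_iff.2 fun h' hh' => ((comm_iff D hh'.1 hg.1).2 (hS _ hh'.2 _ hg.2))⟩
  have h2 := Subgroup.card_le_of_le hle
  rw [card_QG D] at h
  rw [card_pre D] at h h2
  by_contra hlt
  have : 2 * 65 * (2 * 65) ≤ 2 * Nat.card S * Nat.card ↥(QG Q ⊓ centralizer (pre D S : Set G)) :=
    Nat.mul_le_mul (by omega) (le_trans (by omega) h2)
  omega

/-- A conjugate of the central involution inside the extraspecial subgroup, other than itself. -/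
structure Pt (_D : Dat z Q) (a : G) : Prop where
  conj : ∃ g : G, g * z * g⁻¹ = a
  mem : a ∈ QG Q
  ne : a ≠ z

variable {a : G}

omit [Finite G] in
theorem Pt.gen (ha : Pt D a) : Extra2.Gen (LargeExtra.fam (QG Q) z a) a :=
  Singular.gen_conj (setup D) ha.conj

theorem Pt.z_mem (ha : Pt D a) : z ∈ LargeExtra.fam (QG Q) z a := by
  obtain ⟨g, rfl⟩ := ha.conj
  exact Singular.mem_symm (setup D) (by rw [fam_z D]; exact ha.mem)

omit [Finite G] in
theorem Pt.vec_ne (ha : Pt D a) : vec D a ≠ 0 := fun h => by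
  rcases (vec_eq_zero D ha.mem).1 h with e | e
  · exact (ha.gen D).ne_one e
  · exact ha.ne e

omit [Finite G] in
theorem conj_QG {g w : G} (hw : w ∈ centralizer ({z} : Set G)) (hg : g ∈ QG Q) : w * g * w⁻¹ ∈ QG Q :=
  D.pre.conj_mem (mem_centralizer_singleton_iff.1 hw) hg

omit [Finite G] in
theorem Pt.move (ha : Pt D a) (c : centralizer ({z} : Set G)) :
    Pt D ((c : G) * a * (c : G)⁻¹) := by
  obtain ⟨g, hg⟩ := ha.conj
  refine ⟨⟨c * g, by rw [← hg]; group⟩, conj_QG D c.2 ha.mem, fun e => ha.ne ?_⟩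
  have h : (c : G)⁻¹ * ((c : G) * a * (c : G)⁻¹) * (c : G) = (c : G)⁻¹ * z * (c : G) := by rw [e]
  rw [← mul_assoc, ← mul_assoc, inv_mul_cancel, one_mul, inv_mul_cancel_right] at h
  rw [h, mul_assoc, ← mem_centralizer_singleton_iff.1 c.2, inv_mul_cancel_left]

omit [Finite G] in
theorem Pt.z_mul (ha : Pt D a) : Pt D (z * a) := by
  have hne : a ≠ 1 := (ha.gen D).ne_one
  obtain ⟨q, hq, hqa⟩ := Extra2.exists_conj_mul (genQ D) ha.mem hne ha.ne
  rw [← ((genQ D).comm_z a ha.mem).eq] at *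
  rw [← hqa]
  exact ha.move D ⟨q, QG_le hq⟩

omit [Finite G] in
theorem fix_lift (ha : Pt D a) (c : centralizer ({z} : Set G))
    (hc : D.T.r (QuotientGroup.mk c) (vec D a) = vec D a) :
    ∃ c' : centralizer ({z} : Set G), (QuotientGroup.mk c' : _ ⧸ Q) = QuotientGroup.mk c ∧
      (c' : G) * a * (c' : G)⁻¹ = a := by
  obtain ⟨h1, h2⟩ := vec_conj D c ha.mem
  rcases vec_eq D h1 ha.mem (by rw [h2, hc]) with e | e
  · exact ⟨c, rfl, e⟩
  obtain ⟨q, hq, hqa⟩ := Extra2.exists_conj_mul (genQ D) ha.mem (ha.gen D).ne_one ha.ne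
  obtain ⟨b, hb⟩ := exists_el hq
  rw [((genQ D).comm_z a ha.mem).eq] at hqa
  refine ⟨(b : centralizer ({z} : Set G)) * c, ?_, ?_⟩
  · rw [QuotientGroup.mk_mul, (QuotientGroup.eq_one_iff _).2 b.2, one_mul]
  · rw [Subgroup.coe_mul, hb]
    calc q * (c : G) * a * (q * (c : G))⁻¹ = q * ((c : G) * a * (c : G)⁻¹) * q⁻¹ := by group
      _ = q * (z * a) * q⁻¹ := by rw [e]
      _ = (q * z * q⁻¹) * (q * a * q⁻¹) := by group
      _ = a := by
        have hqz : q * z * q⁻¹ = z := by rw [((genQ D).comm_z q hq).eq, mul_inv_cancel_right]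
        rw [hqz, hqa, ← mul_assoc, (genQ D).sq, one_mul]

omit [Finite G] D in
/-- The image of the other radical in the quotient. -/
def radImage (_D : Dat z Q) (a : G) : Subgroup ((centralizer ({z} : Set G)) ⧸ Q) :=
  ((LargeExtra.fam (QG Q) z a).subgroupOf (centralizer ({z} : Set G))).map (QuotientGroup.mk' Q)

omit [Finite G] in
theorem mem_radImage {a : G} {e : (centralizer ({z} : Set G)) ⧸ Q} :
    e ∈ radImage D a ↔ ∃ c : centralizer ({z} : Set G), (c : G) ∈ LargeExtra.fam (QG Q) z a ∧ QuotientGroup.mk c = e :=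
  Iff.rfl

omit [Finite G] in
theorem meet_sq (ha : Pt D a) {g : G} (hg : g ∈ QG Q) (hg' : g ∈ LargeExtra.fam (QG Q) z a) : g * g = 1 := by
  rcases (genQ D).square g hg with e | e
  · exact e
  rcases (ha.gen D).square g hg' with e' | e'
  · exact e'
  · exact absurd (e'.symm.trans e) ha.ne

omit [Finite G] in
theorem meet_comm (ha : Pt D a) {g h : G} (hg : g ∈ QG Q) (hg' : g ∈ LargeExtra.fam (QG Q) z a)
    (hh : h ∈ QG Q) (hh' : h ∈ LargeExtra.fam (QG Q) z a) : g * h = h * g := by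
  refine mul_inv_eq_iff_eq_mul.1 (mul_inv_eq_one.1 ?_)
  rcases (genQ D).comm g hg h hh with e | e
  · exact e
  rcases (ha.gen D).comm g hg' h hh' with e' | e'
  · exact e'
  · exact absurd (e'.symm.trans e) ha.ne

theorem card_rad (ha : Pt D a) :
    Nat.card ↥(LargeExtra.fam (QG Q) z a ⊓ centralizer ({z} : Set G)) = 2 ^ 12 := by
  classical
  set v := vec D a
  let S : AddSubgroup V6 :=
    { carrier := {y | y = 0 ∨ y = v}
      zero_mem' := Or.inl rfl
      add_mem' := by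
        rintro x y (rfl | rfl) (rfl | rfl)
        · exact Or.inl (add_zero _)
        · exact Or.inr (zero_add _)
        · exact Or.inr (add_zero _)
        · exact Or.inl (add_self _)
      neg_mem' := fun {x} hx => by rw [neg_self]; exact hx }
  have hS : Nat.card S = 2 := by
    rw [Nat.card_eq_two_iff]
    refine ⟨⟨0, Or.inl rfl⟩, ⟨v, Or.inr rfl⟩, fun h => ha.vec_ne D (congrArg Subtype.val h).symm, ?_⟩
    ext ⟨y, hy⟩
    rcases hy with rfl | rfl <;> simp
  have hel : ∀ g, g ∈ pre D S ↔ g = 1 ∨ g = z ∨ g = a ∨ g = z * a := by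
    intro g
    constructor
    · rintro ⟨hg, h | h⟩
      · rcases (vec_eq_zero D hg).1 h with e | e <;> simp [e]
      · rcases vec_eq D hg ha.mem h with e | e <;> simp [e]
    · rintro (rfl | rfl | rfl | rfl)
      · exact one_mem _
      · exact ⟨(genQ D).mem, Or.inl (vec_z D)⟩
      · exact ⟨ha.mem, Or.inr rfl⟩
      · exact mul_mem ⟨(genQ D).mem, Or.inl (vec_z D)⟩ ⟨ha.mem, Or.inr rfl⟩
  have hga := ha.gen D
  have h := Extra2.card_mul_card_centralizer hga (R := pre D S) ((hel a).2 (by simp)) fun g hg => by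
    rcases (hel g).1 hg with rfl | rfl | rfl | rfl
    · exact one_mem _
    · exact ha.z_mem D
    · exact hga.mem
    · exact mul_mem (ha.z_mem D) hga.mem
  have heq : LargeExtra.fam (QG Q) z a ⊓ centralizer (pre D S : Set G) =
      LargeExtra.fam (QG Q) z a ⊓ centralizer ({z} : Set G) := by
    refine le_antisymm (inf_le_inf_left _ (centralizer_le fun x hx => ?_)) fun y hy => ⟨hy.1, ?_⟩
    · rw [Set.mem_singleton_iff] at hx
      exact (hel x).2 (by simp [hx])
    · refine mem_centralizer_iff.2 fun x hx => ?_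
      have h1 : Commute y z := mem_centralizer_singleton_iff.1 hy.2
      have h2 : Commute y a := hga.comm_z y hy.1
      rcases (hel x).1 hx with rfl | rfl | rfl | rfl
      exacts [(Commute.one_right y).eq.symm, h1.eq.symm, h2.eq.symm, (h1.mul_right h2).eq.symm]
  have hcard : Nat.card ↥(LargeExtra.fam (QG Q) z a) = 2 ^ 13 := by
    obtain ⟨g, rfl⟩ := ha.conj
    rw [LargeExtra.fam_eq D.pre, card_map_of_injective (MulAut.conj g).injective, card_QG D]
  rw [heq, card_pre D, hS, hcard] at h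
  omega

/-- The local data of a point. -/
noncomputable def Pt.loc (ha : Pt D a) : Loc D.T (vec D a) where
  W :=
    { carrier := {y | ∃ g ∈ QG Q, g ∈ LargeExtra.fam (QG Q) z a ∧ vec D g = y}
      zero_mem' := ⟨1, one_mem _, one_mem _, vec_one D⟩
      add_mem' := by
        rintro _ _ ⟨g, hg, hg', rfl⟩ ⟨h, hh, hh', rfl⟩
        exact ⟨g * h, mul_mem hg hh, mul_mem hg' hh', vec_mul D hg hh⟩
      neg_mem' := fun {x} hx => by rw [neg_self]; exact hx }
  E := radImage D a
  v_mem := ⟨a, ha.mem, (ha.gen D).mem, rfl⟩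
  v_ne := ha.vec_ne D
  qz := by
    rintro _ ⟨g, hg, hg', rfl⟩
    exact (sq_iff D hg).1 (meet_sq D ha hg hg')
  orth := by
    rintro _ ⟨g, hg, hg', rfl⟩ _ ⟨h, hh, hh', rfl⟩
    exact (comm_iff D hg hh).1 (meet_comm D ha hg hg' hh hh')
  E_fix := by
    rintro _ ⟨c, hc', rfl⟩
    have hc : (c : G) ∈ LargeExtra.fam (QG Q) z a := hc'
    rw [QuotientGroup.mk'_apply, ← (vec_conj D c ha.mem).2, ((ha.gen D).comm_z _ hc).eq, mul_inv_cancel_right]
  E_sq := by
    rintro _ ⟨c, hc', rfl⟩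
    have hc : (c : G) ∈ LargeExtra.fam (QG Q) z a := hc'
    rw [← map_mul, QuotientGroup.mk'_apply, QuotientGroup.eq_one_iff]
    have hmem : ((c * c : centralizer ({z} : Set G)) : G) ∈ QG Q := by
      rw [Subgroup.coe_mul]
      rcases (ha.gen D).square _ hc with e | e <;> rw [e]
      exacts [one_mem _, ha.mem]
    obtain ⟨b, hb⟩ := exists_el hmem
    exact (Subtype.ext hb) ▸ b.2
  E_comm := by
    rintro _ ⟨c, hc', rfl⟩ _ ⟨d, hd', rfl⟩
    have hc : (c : G) ∈ LargeExtra.fam (QG Q) z a := hc'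
    have hd : (d : G) ∈ LargeExtra.fam (QG Q) z a := hd'
    rw [← mul_inv_eq_one, mul_inv_rev, ← map_inv, ← map_inv, ← map_mul, ← map_mul, ← map_mul,
      QuotientGroup.mk'_apply, QuotientGroup.eq_one_iff]
    have hmem : ((c * d * (c⁻¹ * d⁻¹) : centralizer ({z} : Set G)) : G) ∈ QG Q := by
      simp only [Subgroup.coe_mul, InvMemClass.coe_inv]
      rw [← mul_assoc]
      rcases (ha.gen D).comm _ hc _ hd with e | e <;> rw [e]
      exacts [one_mem _, ha.mem]
    obtain ⟨b, hb⟩ := exists_el hmem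
    exact (Subtype.ext hb) ▸ b.2
  W_inv := by
    rintro c hc _ ⟨g, hg, hg', rfl⟩
    obtain ⟨c, rfl⟩ := QuotientGroup.mk_surjective c
    obtain ⟨c', hc', hca⟩ := fix_lift D ha c hc
    refine ⟨(c' : G) * g * (c' : G)⁻¹, (vec_conj D c' hg).1, ?_, by rw [(vec_conj D c' hg).2, hc']⟩
    exact Singular.normal_of_comm (setup D) (mul_inv_eq_iff_eq_mul.1 hca) hg'
  E_inv := by
    rintro c hc _ ⟨e, he, rfl⟩
    obtain ⟨c, rfl⟩ := QuotientGroup.mk_surjective c
    obtain ⟨c', hc', hca⟩ := fix_lift D ha c hc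
    refine ⟨c' * e * c'⁻¹, ?_, by rw [map_mul, map_mul, map_inv]; simp only [QuotientGroup.mk'_apply, hc']⟩
    exact Singular.normal_of_comm (setup D) (mul_inv_eq_iff_eq_mul.1 hca) he
  comm_mem := by
    rintro _ ⟨e, he, rfl⟩ u hu
    obtain ⟨g, hg, rfl⟩ := exists_vec D u
    obtain ⟨h1, h2⟩ := vec_conj D e hg
    have hga : g * a = a * g := ((comm_iff D ha.mem hg).2 hu).symm
    refine ⟨(e : G) * g * (e : G)⁻¹ * g⁻¹, mul_mem h1 (inv_mem hg), ?_, ?_⟩
    · rw [mul_assoc, mul_assoc (e : G)]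
      refine mul_mem he ?_
      rw [← mul_assoc]
      exact Singular.normal_of_comm (setup D) hga (inv_mem he)
    · rw [vec_mul D h1 (inv_mem hg), vec_inv D hg, h2]
      rfl
  card := by
    set A := (LargeExtra.fam (QG Q) z a).subgroupOf (centralizer ({z} : Set G))
    have hA : Nat.card A = 2 ^ 12 := by
      rw [← card_rad D ha]
      exact Nat.card_congr
        { toFun := fun g => ⟨(g.1 : G), g.2, g.1.2⟩
          invFun := fun g => ⟨⟨g.1, g.2.2⟩, g.2.1⟩
          left_inv := fun g => rfl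
          right_inv := fun g => rfl }
    let f := (QuotientGroup.mk' Q).comp A.subtype
    have hrange : f.range = radImage D a := by
      show f.range = A.map (QuotientGroup.mk' Q)
      rw [MonoidHom.range_comp, Subgroup.range_subtype]
    have h := Subgroup.index_mul_card f.ker
    rw [Subgroup.index_ker, hrange, hA] at h
    set S : AddSubgroup V6 :=
      { carrier := {y | ∃ g ∈ QG Q, g ∈ LargeExtra.fam (QG Q) z a ∧ vec D g = y}
        zero_mem' := ⟨1, one_mem _, one_mem _, vec_one D⟩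
        add_mem' := by
          rintro _ _ ⟨g, hg, hg', rfl⟩ ⟨h, hh, hh', rfl⟩
          exact ⟨g * h, mul_mem hg hh, mul_mem hg' hh', vec_mul D hg hh⟩
        neg_mem' := fun {x} hx => by rw [neg_self]; exact hx }
    have hk : Nat.card f.ker = Nat.card (pre D S) := by
      refine Nat.card_congr
        { toFun := fun g => ⟨((g.1.1 : centralizer ({z} : Set G)) : G), ?_⟩
          invFun := fun g => ⟨⟨⟨g.1, QG_le g.2.1⟩, ?_⟩, ?_⟩
          left_inv := fun g => rfl
          right_inv := fun g => rfl }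
      · have hq : g.1.1 ∈ Q := (QuotientGroup.eq_one_iff _).1 g.2
        exact ⟨⟨_, hq, rfl⟩, _, ⟨_, hq, rfl⟩, g.1.2, rfl⟩
      · obtain ⟨hg, h', hh, hh', he⟩ := g.2
        show g.1 ∈ LargeExtra.fam (QG Q) z a
        rcases vec_eq D hg hh he.symm with e | e <;> rw [e]
        exacts [hh', mul_mem (ha.z_mem D) hh']
      · show (QuotientGroup.mk (⟨g.1, QG_le g.2.1⟩ : centralizer ({z} : Set G)) : _ ⧸ Q) = 1
        obtain ⟨b, hb⟩ := exists_el g.2.1
        rw [QuotientGroup.eq_one_iff]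
        exact (Subtype.ext hb : (b : centralizer ({z} : Set G)) = ⟨g.1, _⟩) ▸ b.2
    rw [hk, card_pre D, ← mul_assoc, mul_comm _ 2] at h
    rw [mul_assoc] at h
    omega
  bound := iso_bound D

theorem Pt.W_mem (ha : Pt D a) {g : G} (hg : g ∈ QG Q) :
    vec D g ∈ (ha.loc D).W ↔ g ∈ LargeExtra.fam (QG Q) z a := by
  refine ⟨fun ⟨h, hh, hh', he⟩ => ?_, fun h => ⟨g, hg, h, rfl⟩⟩
  rcases vec_eq D hg hh he.symm with e | e <;> rw [e]
  exacts [hh', mul_mem (ha.z_mem D) hh']

theorem Pt.big (ha : Pt D a) : vec D a ∉ D.T.orb ⊤ v2 := fun h => by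
  obtain ⟨c, -, hc⟩ := D.T.mem_orb.1 h
  obtain ⟨c, rfl⟩ := QuotientGroup.mk_surjective c
  have hb := ha.move D c⁻¹
  have hv : vec D ((c⁻¹ : centralizer ({z} : Set G)) * a * ((c⁻¹ : centralizer ({z} : Set G)) : G)⁻¹) = v2 := by
    rw [(vec_conj D c⁻¹ ha.mem).2, QuotientGroup.mk_inv, ← hc, ← D.T.r_mul, inv_mul_cancel, D.T.r_one]
  exact (hv ▸ hb.loc D).not_small

theorem Pt.qn_zero (ha : Pt D a) : qn (vec D a) = 0 := (ha.loc D).qz _ (ha.loc D).v_mem

theorem Pt.move_to (ha : Pt D a) {y : V6} (hy : y ∈ D.T.orb ⊤ (vec D a)) {g : G} (hg : g ∈ QG Q)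
    (he : vec D g = y) : Pt D g := by
  obtain ⟨c, -, hc⟩ := D.T.mem_orb.1 hy
  obtain ⟨c, rfl⟩ := QuotientGroup.mk_surjective c
  have hb := ha.move D c
  rcases vec_eq D hg hb.mem (by rw [(vec_conj D c ha.mem).2, hc, he]) with e | e <;> rw [e]
  exacts [hb, hb.z_mul D]

theorem exists_pt {g : G} (hg : g * z * g⁻¹ ∈ QG Q) (hne : g * z * g⁻¹ ≠ z) :
    ∃ (s : G) (k : Fin 5), Pt D s ∧ 2 ≤ k.val ∧ vec D s = nf k := by
  have ha : Pt D (g * z * g⁻¹) := ⟨⟨g, rfl⟩, hg, hne⟩
  obtain ⟨-, ⟨k, hk, hkm⟩, -⟩ := orb_kinds (ha.qn_zero D) (ha.vec_ne D) (ha.big D)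
  obtain ⟨s, hs, he⟩ := exists_vec D (nf k)
  exact ⟨s, k, ha.move_to D hkm hs he, hk, he⟩

theorem inverter {s : G} {k : Fin 5} (hs : Pt D s) (hk : 2 ≤ k.val) (hv : vec D s = nf k) :
    ∃ c : (centralizer ({z} : Set G)) ⧸ Q, c * D.T.x ≠ D.T.x * c := by
  rw [← nf_twist k hk] at hv
  exact exists_inverter (hv ▸ hs.loc D) hk rfl (hv ▸ hs.big D)

/-- The meet with the radical of any point has order `2^7`. -/
theorem Pt.card_meet (ha : Pt D a) : Nat.card ↥(QG Q ⊓ LargeExtra.fam (QG Q) z a) = 128 := by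
  obtain ⟨-, ⟨k, hk, hkm⟩, -⟩ := orb_kinds (ha.qn_zero D) (ha.vec_ne D) (ha.big D)
  obtain ⟨c, -, hc⟩ := D.T.mem_orb.1 hkm
  obtain ⟨c, rfl⟩ := QuotientGroup.mk_surjective c
  have hb := ha.move D c
  have hvb : vec D ((c : G) * a * (c : G)⁻¹) = dmul (nfL k) one6 := by
    rw [(vec_conj D c ha.mem).2, hc, nf_twist k hk]
  have h64 : Nat.card (hb.loc D).W = 64 := by
    have h := fun (P : Loc D.T (vec D ((c : G) * a * (c : G)⁻¹))) => P
    have key : ∀ (v : V6) (P : Loc D.T v), v = dmul (nfL k) one6 → v ∉ D.T.orb ⊤ v2 → Nat.card P.W = 64 := by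
      intro v P hv hbig
      subst hv
      exact (card_W_eq P hbig).1
    exact key _ (hb.loc D) hvb (hb.big D)
  have heq : (QG Q ⊓ LargeExtra.fam (QG Q) z a).map (MulAut.conj (c : G)).toMonoidHom =
      pre D (hb.loc D).W := by
    ext g
    constructor
    · rintro ⟨x, ⟨hx, hx'⟩, rfl⟩
      have h1 : (c : G) * x * (c : G)⁻¹ ∈ QG Q := (vec_conj D c hx).1
      refine ⟨h1, (hb.W_mem D h1).2 ?_⟩
      exact (Singular.conj_mem_iff (setup D) (c : G) a x).2 hx'
    · rintro ⟨hg, hg'⟩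
      refine ⟨(c : G)⁻¹ * g * (c : G), ⟨?_, ?_⟩, by simp [mul_assoc]⟩
      · have := conj_QG D (inv_mem c.2) hg
        rwa [inv_inv] at this
      · show (c : G)⁻¹ * g * (c : G) ∈ LargeExtra.fam (QG Q) z a
        rw [← Singular.conj_mem_iff (setup D) (c : G)]
        have e : (c : G) * ((c : G)⁻¹ * g * (c : G)) * (c : G)⁻¹ = g := by group
        rw [e]
        exact (hb.W_mem D hg).1 hg'
  have h := Subgroup.card_map_of_injective (K := QG Q ⊓ LargeExtra.fam (QG Q) z a)
    (f := (MulAut.conj (c : G)).toMonoidHom) (MulAut.conj (c : G)).injective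
  rw [← h]
  show Nat.card ↥((QG Q ⊓ LargeExtra.fam (QG Q) z a).map (MulAut.conj (c : G)).toMonoidHom) = 128
  rw [heq, card_pre D, h64]

end CfsgLib.FiLarge.Eight
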