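import Cfsg.Agent.FiLarge.EightSpecial
import Cfsg.Agent.Classical.Transvections
import Cfsg.Agent.Solvable.Basics

/-!
The quotient of the local subgroup by its radical.
-/

set_option autoImplicit false
set_option linter.style.haveILetI false

namespace CfsgLib.FiLarge.Eight

open Subgroup

abbrev SL32 := Matrix.SpecialLinearGroup (Fin 3) (ZMod 2)

theorem center_SL32 : Subgroup.center SL32 = ⊥ := by
  refine (Subgroup.eq_bot_iff_forall _).2 fun A hA => ?_
  obtain ⟨r, hr, he⟩ := Matrix.SpecialLinearGroup.mem_center_iff.1 hA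
  have key : ∀ r : ZMod 2, r ^ 3 = 1 → r = 1 := by decide +kernel
  have h1 : r = 1 := key r (by rwa [Fintype.card_fin] at hr)
  rw [h1, map_one] at he
  exact Subtype.ext he.symm

theorem simple_SL32 : IsSimpleGroup SL32 := by
  haveI := CfsgLib.Linear.isSimpleGroup_PSL (ι := Fin 3) (F := ZMod 2) (Or.inl (by simp))
  exact ((QuotientGroup.quotientMulEquivOfEq center_SL32).trans QuotientGroup.quotientBot).isSimpleGroup_congr.1
    inferInstance

theorem center_A6 : Subgroup.center A6 = ⊥ := by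
  haveI := a6_simple
  refine (IsSimpleGroup.eq_bot_or_eq_top_of_normal (Subgroup.center A6) inferInstance).resolve_right
    fun h => ?_
  have hg : g3 ∈ Subgroup.center A6 := h ▸ mem_top _
  exact absurd (mem_center_iff.1 hg g5) (by decide +kernel)

theorem two_normal_bot {S : Type*} [Group S] [Finite S] [IsSimpleGroup S]
    (hc : Subgroup.center S = ⊥) {P : Subgroup S} (hn : P.Normal) (h2 : IsPGroup 2 P) : P = ⊥ := by
  haveI : Fact (Nat.Prime 2) := ⟨Nat.prime_two⟩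
  refine (IsSimpleGroup.eq_bot_or_eq_top_of_normal P hn).resolve_right fun h => ?_
  subst h
  have hS : IsPGroup 2 S := h2.of_equiv Subgroup.topEquiv
  haveI := hS.center_nontrivial
  obtain ⟨x, hx⟩ := exists_ne (1 : Subgroup.center S)
  exact hx (Subtype.ext (Subgroup.mem_bot.1 (hc ▸ x.2)))

theorem exists_mulAut_equiv {U : Type*} [CommGroup U] [Finite U] (h2 : ∀ u : U, u * u = 1)
    (hc : Nat.card U = 8) : Nonempty (MulAut U ≃* SL32) := by
  letI : Module (ZMod 2) (Additive U) := AddCommGroup.zmodModule fun x => by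
    rw [two_nsmul]; exact congrArg Additive.ofMul (h2 x.toMul)
  have hr : Module.finrank (ZMod 2) (Additive U) = 3 := by
    have h := Module.natCard_eq_pow_finrank (K := ZMod 2) (V := Additive U)
    rw [Nat.card_zmod, show Nat.card (Additive U) = 2 ^ 3 by
      rw [Nat.card_congr Additive.toMul, hc]; norm_num] at h
    exact (Nat.pow_right_injective le_rfl h).symm
  let b := Module.finBasisOfFinrankEq (ZMod 2) (Additive U) hr
  let lin : MulAut U →* Module.End (ZMod 2) (Additive U) :=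
    { toFun := fun φ => (MonoidHom.toAdditive φ.toMonoidHom).toZModLinearMap 2
      map_one' := LinearMap.ext fun _ => rfl
      map_mul' := fun _ _ => LinearMap.ext fun _ => rfl }
  let g : MulAut U →* Matrix (Fin 3) (Fin 3) (ZMod 2) :=
    ((LinearMap.toMatrixAlgEquiv b).toAlgHom.toRingHom.toMonoidHom).comp lin
  have hdet : ∀ φ, (g φ).det = 1 := fun φ =>
    (by decide +kernel : ∀ a : ZMod 2, a ≠ 0 → a = 1) _
      ((Matrix.isUnit_iff_isUnit_det _).1 ((Group.isUnit φ).map g)).ne_zero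
  let f : MulAut U →* SL32 :=
    { toFun := fun φ => ⟨g φ, hdet φ⟩
      map_one' := Subtype.ext g.map_one
      map_mul' := fun a c => Subtype.ext (g.map_mul a c) }
  refine ⟨MulEquiv.ofBijective f ⟨fun a c h => ?_, fun A => ?_⟩⟩
  · have h' := (LinearMap.toMatrixAlgEquiv b).injective (congrArg Subtype.val h)
    exact MulEquiv.ext fun x => congrArg Additive.toMul (LinearMap.congr_fun h' (Additive.ofMul x))
  · set ℓ := Matrix.toLinAlgEquiv b A.1 with hℓ
    set ℓ' := Matrix.toLinAlgEquiv b (A⁻¹).1 with hℓ'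
    have h1 : ∀ x, ℓ' (ℓ x) = x := fun x => by
      rw [hℓ, hℓ', ← Module.End.mul_apply, ← map_mul, ← Matrix.SpecialLinearGroup.coe_mul, inv_mul_cancel]
      simp
    have h1' : ∀ x, ℓ (ℓ' x) = x := fun x => by
      rw [hℓ, hℓ', ← Module.End.mul_apply, ← map_mul, ← Matrix.SpecialLinearGroup.coe_mul, mul_inv_cancel]
      simp
    refine ⟨
      { toFun := fun x => Additive.toMul (ℓ (Additive.ofMul x))
        invFun := fun x => Additive.toMul (ℓ' (Additive.ofMul x))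
        left_inv := fun x => by simp [h1]
        right_inv := fun x => by simp [h1']
        map_mul' := fun x y => by rw [ofMul_mul, map_add]; rfl }, Subtype.ext ?_⟩
    exact (LinearMap.toMatrixAlgEquiv b).symm.injective (LinearMap.ext fun x => by
      show (LinearMap.toMatrixAlgEquiv b).symm ((LinearMap.toMatrixAlgEquiv b) _) x = _
      rw [AlgEquiv.symm_apply_apply]; rfl)

variable {G : Type*} [Group G] [Finite G] {z : G}
  {Q : Subgroup (centralizer ({z} : Set G))} [Q.Normal] {D : Dat z Q} (X : Ctx D)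

/-- The local subgroup. -/
noncomputable abbrev Ctx.N : Subgroup G := normalizer (X.U : Set G)

theorem Ctx.exists_split (n : X.N) : ∃ j ∈ X.J, j⁻¹ * (n : G) ∈ X.CU := by
  obtain ⟨j, hj, he⟩ := Singular.induces_all (setup D) X.sing (X.U.normalizerMonoidHom n)
  refine ⟨j, hj, mem_centralizer_iff.2 fun u hu => ?_⟩
  have e : j * u * j⁻¹ = (n : G) * u * (n : G)⁻¹ := he ⟨u, hu⟩
  calc u * (j⁻¹ * (n : G)) = j⁻¹ * (j * u * j⁻¹) * (n : G) := by group
    _ = j⁻¹ * (n : G) * u := by rw [e]; group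

/-- A part in the join. -/
noncomputable def Ctx.jOf (n : X.N) : G := (X.exists_split n).choose

theorem Ctx.rho_congr {j j' n : G} (hj : j ∈ X.J) (hj' : j' ∈ X.J) (h : j⁻¹ * n ∈ X.CU) (h' : j'⁻¹ * n ∈ X.CU) :
    X.ρ ⟨j⁻¹ * n, h⟩ = X.ρ ⟨j'⁻¹ * n, h'⟩ := by
  have hm : j⁻¹ * n * (j'⁻¹ * n)⁻¹ ∈ X.R :=
    ⟨by rw [show j⁻¹ * n * (j'⁻¹ * n)⁻¹ = j⁻¹ * j' by group]; exact X.J.mul_mem (X.J.inv_mem hj) hj',
      X.CU.mul_mem h (X.CU.inv_mem h')⟩
  rw [X.R_eq] at hm
  have e : X.ρ (⟨j⁻¹ * n, h⟩ * ⟨j'⁻¹ * n, h'⟩⁻¹) = 1 := (X.mem_KG _).1 hm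
  rwa [map_mul, map_inv, mul_inv_eq_one] at e

/-- The map of the local subgroup onto `A6`. -/
noncomputable def Ctx.ψ : ↥X.N →* A6 :=
  MonoidHom.mk' (fun n => X.ρ ⟨(X.jOf n)⁻¹ * (n : G), (X.exists_split n).choose_spec.2⟩) fun n m => by
    obtain ⟨hj, hc⟩ := (X.exists_split n).choose_spec
    obtain ⟨hk, hd⟩ := (X.exists_split m).choose_spec
    obtain ⟨hl, hl'⟩ := (X.exists_split (n * m)).choose_spec
    change X.jOf n ∈ X.J at hj
    change X.jOf m ∈ X.J at hk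
    change X.jOf (n * m) ∈ X.J at hl
    set j := X.jOf n with hjd
    set k := X.jOf m with hkd
    set c := j⁻¹ * (n : G) with hcd
    have hc' : k⁻¹ * c * k ∈ X.CU := by
      have := X.CU_conj (inv_mem (X.J_le hk)) hc
      rwa [inv_inv] at this
    have hprod : (j * k)⁻¹ * ((n : G) * (m : G)) = (k⁻¹ * c * k) * (k⁻¹ * (m : G)) := by rw [hcd]; group
    have hmem : (j * k)⁻¹ * ((n : G) * (m : G)) ∈ X.CU := by rw [hprod]; exact X.CU.mul_mem hc' hd
    refine (X.rho_congr hl (X.J.mul_mem hj hk) hl' hmem).trans ?_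
    have e1 : (⟨(j * k)⁻¹ * ((n : G) * (m : G)), hmem⟩ : X.CU) = ⟨k⁻¹ * c * k, hc'⟩ * ⟨k⁻¹ * (m : G), hd⟩ :=
      Subtype.ext hprod
    refine (congrArg X.ρ e1).trans ((map_mul X.ρ _ _).trans (congrArg (· * _) ?_))
    have h := X.comm_J (X.J.inv_mem hk) hc
    rw [inv_inv] at h
    have e : X.ρ (⟨k⁻¹ * c * k, hc'⟩ * ⟨c, hc⟩⁻¹) = 1 := (X.mem_KG _).1 h
    rwa [map_mul, map_inv, mul_inv_eq_one] at e

theorem Ctx.ψ_eq (n : X.N) {j : G} (hj : j ∈ X.J) (h : j⁻¹ * (n : G) ∈ X.CU) :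
    X.ψ n = X.ρ ⟨j⁻¹ * (n : G), h⟩ :=
  X.rho_congr (X.exists_split n).choose_spec.1 hj (X.exists_split n).choose_spec.2 h

/-- The map of the local subgroup onto the two factors. -/
noncomputable def Ctx.Φ : ↥X.N →* MulAut X.U × A6 := X.U.normalizerMonoidHom.prod X.ψ

theorem Ctx.Φ_surj : Function.Surjective X.Φ := by
  rintro ⟨φ, a⟩
  obtain ⟨c, rfl⟩ := X.ρ_surj a
  obtain ⟨j, hj, he⟩ := Singular.induces_all (setup D) X.sing φ
  have hn : j * (c : G) ∈ X.N := mul_mem (X.J_le hj) (X.CU_le_N c.2)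
  refine ⟨⟨j * c, hn⟩, Prod.ext (MulEquiv.ext fun u => Subtype.ext ?_) ?_⟩
  · show j * (c : G) * (u : G) * (j * (c : G))⁻¹ = _
    calc j * (c : G) * (u : G) * (j * (c : G))⁻¹ = j * ((c : G) * (u : G) * (c : G)⁻¹) * j⁻¹ := by group
      _ = (φ u : G) := by rw [← X.U_comm u.2 c.2, mul_inv_cancel_right]; exact he u
  · show X.ψ _ = X.ρ c
    rw [X.ψ_eq ⟨j * c, hn⟩ hj (by rw [inv_mul_cancel_left]; exact c.2)]
    exact congrArg _ (Subtype.ext (inv_mul_cancel_left j (c : G)))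

theorem Ctx.R_le_N : X.R ≤ X.N := X.R_le_CU.trans X.CU_le_N

theorem Ctx.Φ_ker : X.Φ.ker = X.R.subgroupOf X.N := by
  ext n
  rw [MonoidHom.mem_ker, mem_subgroupOf]
  have hψ : ∀ h : (n : G) ∈ X.CU, X.ψ n = X.ρ ⟨n, h⟩ := fun h => by
    rw [X.ψ_eq n (one_mem X.J) (by rw [inv_one, one_mul]; exact h)]
    exact congrArg _ (Subtype.ext (show (1 : G)⁻¹ * (n : G) = n by rw [inv_one, one_mul]))
  constructor
  · intro h
    have h1 : n ∈ X.U.normalizerMonoidHom.ker := congrArg Prod.fst h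
    rw [normalizerMonoidHom_ker, mem_subgroupOf] at h1
    rw [X.R_eq, X.mem_KG h1, ← hψ h1]
    exact congrArg Prod.snd h
  · intro h
    refine Prod.ext ?_ ?_
    · show n ∈ X.U.normalizerMonoidHom.ker
      rw [normalizerMonoidHom_ker, mem_subgroupOf]
      exact X.R_le_CU h
    · show X.ψ n = 1
      rw [hψ (X.R_le_CU h), ← X.mem_KG, ← X.R_eq]
      exact h

theorem Ctx.exists_quot : ∃ Ψ : ↥X.N →* SL32 × A6, Function.Surjective Ψ ∧ Ψ.ker = X.R.subgroupOf X.N := by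
  haveI hcomm : IsMulCommutative X.U := ⟨⟨fun a b => Subtype.ext (X.U_comm a.2 (X.U_le_CU b.2))⟩⟩
  letI : CommGroup X.U := { (inferInstance : Group X.U) with mul_comm := hcomm.is_comm.comm }
  obtain ⟨e⟩ := exists_mulAut_equiv (U := X.U) (fun u => Subtype.ext (X.U_sq u.2)) X.card_U
  refine ⟨(e.prodCongr (MulEquiv.refl A6)).toMonoidHom.comp X.Φ,
    (e.prodCongr (MulEquiv.refl A6)).surjective.comp X.Φ_surj, ?_⟩
  rw [← X.Φ_ker]
  ext n
  exact MulEquiv.map_eq_one_iff (e.prodCongr (MulEquiv.refl A6))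

theorem Ctx.pCore_eq : (Cfsg.pCore 2 ↥X.N).map X.N.subtype = X.R := by
  haveI : Fact (Nat.Prime 2) := ⟨Nat.prime_two⟩
  haveI := a6_simple
  haveI := simple_SL32
  obtain ⟨Ψ, hs, hk⟩ := X.exists_quot
  suffices h : Cfsg.pCore 2 ↥X.N = X.R.subgroupOf X.N by
    rw [h, subgroupOf_map_subtype, inf_eq_left.2 X.R_le_N]
  refine le_antisymm (fun n hn => ?_) (CfsgLib.Solvable.le_pCore 2 (hk ▸ inferInstance)
    (X.two_R.of_equiv (subgroupOfEquivOfLe X.R_le_N).symm))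
  have hp := CfsgLib.Solvable.pCore_spec 2 (G := ↥X.N)
  have h1 : (Cfsg.pCore 2 ↥X.N).map ((MonoidHom.fst SL32 A6).comp Ψ) = ⊥ :=
    two_normal_bot center_SL32 (hp.1.map _ (Prod.fst_surjective.comp hs)) (hp.2.map _)
  have h2 : (Cfsg.pCore 2 ↥X.N).map ((MonoidHom.snd SL32 A6).comp Ψ) = ⊥ :=
    two_normal_bot center_A6 (hp.1.map _ (Prod.snd_surjective.comp hs)) (hp.2.map _)
  have e1 : (Ψ n).1 = 1 := by
    have : (Ψ n).1 ∈ (Cfsg.pCore 2 ↥X.N).map ((MonoidHom.fst SL32 A6).comp Ψ) := ⟨n, hn, rfl⟩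
    rwa [h1, Subgroup.mem_bot] at this
  have e2 : (Ψ n).2 = 1 := by
    have : (Ψ n).2 ∈ (Cfsg.pCore 2 ↥X.N).map ((MonoidHom.snd SL32 A6).comp Ψ) := ⟨n, hn, rfl⟩
    rwa [h2, Subgroup.mem_bot] at this
  rw [← hk, MonoidHom.mem_ker]
  exact Prod.ext e1 e2

theorem Ctx.elementary : Cfsg.IsElementaryAbelian 2 X.U :=
  ⟨⟨⟨fun a b => Subtype.ext (X.U_comm a.2 (X.U_le_CU b.2))⟩⟩, fun a ha => by rw [pow_two]; exact X.U_sq ha⟩

theorem Ctx.local_structure :
    ∃ R : Subgroup G, R = (Cfsg.pCore 2 ↥X.N).map X.N.subtype ∧ Cfsg.IsSpecial 2 ↥R ∧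
      Nat.card R = 2 ^ 15 ∧ (Subgroup.center ↥R).map R.subtype = X.U ∧
      ∃ _ : (R.subgroupOf X.N).Normal, Nonempty (↥X.N ⧸ R.subgroupOf X.N ≃* SL32 × A6) := by
  obtain ⟨Ψ, hs, hk⟩ := X.exists_quot
  haveI hn : (X.R.subgroupOf X.N).Normal := hk ▸ inferInstance
  exact ⟨X.R, X.pCore_eq.symm, X.special, X.card_R, X.center_map, hn,
    ⟨(QuotientGroup.quotientMulEquivOfEq hk.symm).trans (QuotientGroup.quotientKerEquivOfSurjective Ψ hs)⟩⟩

end CfsgLib.FiLarge.Eight
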