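import Cfsg.Agent.FiLarge.EightStab

/-!
An element inverting the scalar, and the structure of the stabiliser of a vector in the subgroup of
index two.
-/

set_option autoImplicit false
set_option maxRecDepth 100000
set_option linter.style.haveILetI false

namespace CfsgLib.FiLarge.Eight

open Subgroup

variable {C : Type*} [Group C] [Finite C] {T : Std C}

section Orbit

variable {v : V6} (hq : qn v = 0) (h0 : v ≠ 0) (hbig : v ∉ T.orb ⊤ v2)
include hq h0 hbig

omit hq h0 in
theorem nf_zero_notMem (H : Subgroup C) : nf 0 ∉ T.orb H v := fun h => by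
  obtain ⟨c, -, hc⟩ := T.mem_orb.1 h
  refine hbig (T.mem_orb.2 ⟨c⁻¹, mem_top _, ?_⟩)
  rw [v2, ← hc, ← T.r_mul, inv_mul_cancel, T.r_one]

theorem orb_M : (T.orb T.M v).card = 1701 := by
  obtain ⟨I, -, hI, h | h⟩ := T.exists_I le_rfl hq h0
  · exact absurd ((hI 0).1 h.1) (nf_zero_notMem hbig _)
  · exact h.2

theorem card_SM : Nat.card ↥(T.stab v ⊓ T.M) = 5760 := by
  have h := T.card_orb T.M v
  rw [orb_M hq h0 hbig, T.card_M] at h
  omega

theorem orb_kinds : (∀ a, kind a = some 1 → a ∈ T.orb ⊤ v) ∧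
    (∃ k, 2 ≤ k.val ∧ nf k ∈ T.orb ⊤ v) ∧
    ∃ k, 2 ≤ k.val ∧ ∀ a, kind a = some k → a ∉ T.orb ⊤ v := by
  obtain ⟨I, hc, hI, h | h⟩ := T.exists_I le_top hq h0
  · exact absurd ((hI 0).1 h.1) (nf_zero_notMem hbig _)
  rw [h.2] at hc
  obtain ⟨h1, ⟨ka, hka, hkI⟩, k, hk, hkn⟩ := unions_eight I h.1 hc.symm
  have hmove : ∀ a k, kind a = some k → (a ∈ T.orb ⊤ v ↔ nf k ∈ T.orb ⊤ v) := by
    intro a k ha
    obtain ⟨d, -, hd⟩ := T.exists_mono ha
    constructor <;> intro hm <;> obtain ⟨c, -, hcv⟩ := T.mem_orb.1 hm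
    · refine T.mem_orb.2 ⟨d⁻¹ * c, mem_top _, ?_⟩
      rw [T.r_mul, hcv, ← hd, ← T.r_mul, inv_mul_cancel, T.r_one]
    · exact T.mem_orb.2 ⟨d * c, mem_top _, by rw [T.r_mul, hcv, hd]⟩
  exact ⟨fun a ha => (hmove a 1 ha).2 ((hI 1).1 h1), ⟨ka, hka, (hI ka).1 hkI⟩,
    k, hk, fun a ha hm => hkn ((hI k).2 ((hmove a k ha).1 hm))⟩

end Orbit

section Inverter

variable {L : Fin 6 → ZMod 3}

local notation "vL" => dmul L one6

theorem qn_v : qn vL = 0 := by
  rw [dmul_qn]
  decide +kernel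

theorem sm_add (a b : V6) : sm (a + b) = sm a + sm b := Finset.sum_add_distrib

theorem sm_e0_twist : sm (dmul (-L) (u0 L)) = 1 := by
  rw [u0, dmul_dmul, neg_add_cancel, dmul_zero', e0_sm]

variable (P : Loc T (dmul L one6))

include P in
theorem v_ne' : vL ≠ 0 := P.v_ne

theorem delta_hyper {e : C} (hex : e * T.x = T.x * e) (hev : T.r e vL = vL) :
    sm (dmul (-L) (T.r e (u0 L) + u0 L)) = 0 := by
  refine sm_untwist.2 ⟨?_, ?_⟩
  · rw [pol_add']
    nth_rw 1 [← hev]
    rw [pol_r]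
    exact zmod_two _
  · rw [om_add, pol_add', ← r_om hex]
    nth_rw 1 [← hev]
    rw [pol_r]
    exact zmod_two _

include P in
/-- A linear element of the other radical moving the outside vector into the point is trivial. -/
theorem trivial_of_delta {k : Fin 5} (hk : 2 ≤ k.val) (hL : L = nfL k) (hbig : vL ∉ T.orb ⊤ v2)
    {e : C} (he : e ∈ P.E) (hlin : ∀ c ∈ P.E, c * T.x = T.x * c)
    (hd : T.r e (u0 L) + u0 L ∈ pt vL) : e = 1 := by
  have hex := hlin e he
  have hfix : ∀ u, sm (dmul (-L) u) = 0 → T.r e u = u := by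
    intro u hu
    obtain ⟨hm, -, -⟩ := move_hyper P he hex hu
    obtain ⟨d, hd'⟩ := mem_pt.1 hm
    obtain ⟨c, hc⟩ := mem_pt.1 hd
    have key : ∀ w, sm (dmul (-L) w) = 0 → pol (u0 L) (T.r e w + w) = 0 := by
      intro w hw
      have h1 : pol (T.r e (u0 L) + u0 L) w = 0 := by
        rw [hc, ← tw_smul, ← dmul_surj L w, dmul_pol, pol_comm]
        rcases F4_cases c with rfl | rfl | rfl | rfl
        · rw [zero_smul, pol_comm, pol_zero]
        · rw [one_smul, pol_comm]; exact ((sm_iff _).1 hw).1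
        · rw [pol_comm, pol_om, om_om, pol_add', ((sm_iff _).1 hw).1, ((sm_iff _).1 hw).2, add_zero]
        · rw [pol_comm, ← smul_smul, pol_om, pol_om, om_three, pol_comm one6, pol_comm]
          exact ((sm_iff _).1 hw).2
      have h2 : pol (u0 L) (T.r e w) = pol (T.r e (u0 L)) w := by
        conv_lhs => rw [← pol_r e, ← T.r_mul, P.E_sq e he, T.r_one]
      rw [pol_add', h2, ← pol_add, h1]
    have hu1 := key u hu
    have hu2 := key (om • u) (by
      obtain ⟨a, b⟩ := sm_untwist.1 hu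
      refine sm_untwist.2 ⟨b, ?_⟩
      rw [om_om, pol_add', a, b, add_zero])
    rw [r_om hex, ← om_add, hd', ← tw_smul, ← dmul_smul, u0, dmul_pol] at hu2
    rw [hd', ← tw_smul, u0, dmul_pol] at hu1
    rw [const_pol d hu1 hu2, zero_smul] at hd'
    exact (eq_neg_of_add_eq_zero_left hd').trans (neg_self u)
  obtain ⟨c, hc⟩ := mem_pt.1 hd
  have hq : qn (e0 + c • one6) = qn e0 := by
    rw [← dmul_qn L, dmul_add, tw_smul, ← hc, show dmul L e0 = u0 L from rfl,
      add_comm (T.r e (u0 L)), ← add_assoc, add_self, zero_add, T.inv]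
    exact dmul_qn L e0
  rcases const_qn c hq with rfl | rfl
  · refine eq_one_of_formula hex hfix ?_
    rw [zero_smul] at hc
    exact (eq_neg_of_add_eq_zero_left hc).trans (neg_self _)
  · exfalso
    rw [one_smul] at hc
    obtain ⟨h1, -, k0, hk0, hout⟩ := orb_kinds (qn_v) P.v_ne hbig
    have hne : k ≠ k0 := by
      rintro rfl
      refine hout vL ?_ (T.mem_orb.2 ⟨1, mem_top _, T.r_one _⟩)
      rw [hL, nf_twist k hk]
      exact kind_nf k
    obtain ⟨y, -, hy1, hy2⟩ := transvection_table k k0 hk hk0 hne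
    rw [← hL] at hy1 hy2
    obtain ⟨g, -, hg⟩ := T.mem_orb.1 (h1 _ hy1)
    refine hout _ hy2 (T.mem_orb.2 ⟨e * g, mem_top _, ?_⟩)
    rw [T.r_mul, hg, formula hex hfix, hc, dmul_add, dmul_smul]

include P in
/-- Some element does not commute with the scalar. -/
theorem exists_inverter {k : Fin 5} (hk : 2 ≤ k.val) (hL : L = nfL k) (hbig : vL ∉ T.orb ⊤ v2) :
    ∃ c : C, c * T.x ≠ T.x * c := by
  classical
  by_contra hall
  push Not at hall
  let d : C → V6 := fun e => T.r e (u0 L) + u0 L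
  have hmul : ∀ e ∈ P.E, ∀ f : C, d (e * f) = d e + d f + (T.r e (d f) + d f) := by
    intro e _ f
    simp only [d, T.r_mul, map_add]
    have h := add_self (T.r e (u0 L))
    have h' := add_self (T.r f (u0 L))
    calc T.r e (T.r f (u0 L)) + u0 L
        = T.r e (T.r f (u0 L)) + u0 L + (T.r e (u0 L) + T.r e (u0 L)) +
            (T.r f (u0 L) + T.r f (u0 L)) + (u0 L + u0 L) := by rw [h, h', add_self]; abel
      _ = _ := by abel
  have hhyp : ∀ f ∈ P.E, sm (dmul (-L) (d f)) = 0 := fun f hf => delta_hyper (hall f) (P.E_fix f hf)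
  have hw : ∀ e ∈ P.E, ∀ f ∈ P.E, T.r e (d f) + d f ∈ pt vL := fun e he f hf =>
    (move_hyper P he (hall e) (hhyp f hf)).1
  have hsym : ∀ e ∈ P.E, ∀ f ∈ P.E, T.r e (d f) + d f = T.r f (d e) + d e := by
    intro e he f hf
    have h := hmul e he f
    rw [P.E_comm e he f hf, hmul f hf e, add_comm (d f) (d e), add_right_inj] at h
    exact h.symm
  have hkey : ∀ e ∈ P.E, ∀ w, pol (d e) w = pol (u0 L) (T.r e w + w) := by
    intro e he w
    have h2 : pol (u0 L) (T.r e w) = pol (T.r e (u0 L)) w := by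
      conv_lhs => rw [← pol_r e, ← T.r_mul, P.E_sq e he, T.r_one]
    rw [pol_add, pol_add', h2]
  have horth : ∀ e ∈ P.E, ∀ f ∈ P.E, pol (d e) (d f) = 0 := by
    intro e he f hf
    have h1 : pol (d e) (om • d f) = pol (d f) (om • d e) := by
      rw [hkey e he, hkey f hf, r_om (hall e), r_om (hall f), ← om_add, ← om_add, hsym e he f hf]
    rw [pol_comm (d f), pol_om, om_om, pol_add'] at h1
    exact left_eq_add.1 h1
  have hone : d 1 = 0 := by simp only [d, T.r_one, add_self]
  let S : AddSubgroup V6 :=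
    { carrier := {y | ∃ e ∈ P.E, y + d e ∈ pt vL}
      zero_mem' := ⟨1, one_mem _, by rw [hone, add_zero]; exact zero_mem _⟩
      add_mem' := by
        rintro a b ⟨e, he, ha⟩ ⟨f, hf, hb⟩
        refine ⟨e * f, mul_mem he hf, ?_⟩
        have : a + b + d (e * f) = (a + d e) + (b + d f) + (T.r e (d f) + d f) := by
          rw [hmul e he f]; abel
        rw [this]
        exact add_mem (add_mem ha hb) (hw e he f hf)
      neg_mem' := by
        rintro a ha
        rw [neg_self]
        exact ha }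
  have hSpol : ∀ a ∈ S, ∀ b ∈ S, pol a b = 0 := by
    rintro a ⟨e, he, ha⟩ b ⟨f, hf, hb⟩
    have ea : a = d e + (a + d e) := by
      rw [add_comm a, ← add_assoc, add_self, zero_add]
    have eb : b = d f + (b + d f) := by
      rw [add_comm b, ← add_assoc, add_self, zero_add]
    have hpd : ∀ g ∈ P.E, ∀ w ∈ pt vL, pol (d g) w = 0 := by
      intro g hg w hw'
      obtain ⟨c, rfl⟩ := mem_pt.1 hw'
      obtain ⟨h1, h2⟩ := sm_untwist.1 (hhyp g hg)
      rw [pol_comm]
      rcases F4_cases c with rfl | rfl | rfl | rfl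
      · rw [zero_smul, pol_zero]
      · rw [one_smul, h1]
      · rw [pol_om, om_om, pol_add', h1, h2, add_zero]
      · rw [← smul_smul, pol_om, pol_om, om_three, h2]
    rw [ea, eb, pol_add (d e), pol_add' (d e) (d f), pol_add' (a + d e) (d f), horth e he f hf, hpd e he _ hb, pol_comm (a + d e),
      hpd f hf _ ha, pt_pol ha hb]
    simp
  let φ : P.E × F4 → S := fun x => ⟨d x.1.1 + x.2 • vL, x.1.1, x.1.2, by
    rw [add_comm (d x.1.1), add_assoc, add_self, add_zero]; exact mem_pt.2 ⟨_, rfl⟩⟩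
  have hinj : Function.Injective φ := by
    rintro ⟨e, a⟩ ⟨f, b⟩ h
    have h1 : d e.1 + a • vL = d f.1 + b • vL := congrArg Subtype.val h
    have h2 : d e.1 + d f.1 ∈ pt vL := by
      have : d e.1 + d f.1 = a • vL + b • vL := by
        rw [eq_sub_of_add_eq h1, sub_eq_add_neg, neg_self]
        have := add_self (d f.1)
        calc d f.1 + b • vL + a • vL + d f.1 = (d f.1 + d f.1) + (a • vL + b • vL) := by abel
          _ = _ := by rw [this, zero_add]
      rw [this, ← add_smul]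
      exact mem_pt.2 ⟨_, rfl⟩
    have h3 : d (e.1 * f.1) ∈ pt vL := by
      rw [hmul e.1 e.2 f.1]
      exact add_mem h2 (hw e.1 e.2 f.1 f.2)
    have h4 := trivial_of_delta P hk hL hbig (mul_mem e.2 f.2) (fun c _ => hall c) h3
    have h5 : e.1 = f.1 := by
      rw [eq_inv_of_mul_eq_one_left h4, inv_eq_of_mul_eq_one_right (P.E_sq _ f.2)]
    rw [h5, add_right_inj] at h1
    exact Prod.ext (Subtype.ext h5) (smul_v_inj h1)
  have h1 := Nat.card_le_card_of_injective φ hinj
  rw [Nat.card_prod, Nat.card_eq_fintype_card (α := F4), card_F4] at h1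
  have h2 := P.bound S hSpol
  have h3 := card_E P
  omega

end Inverter

omit [Finite C] in
/-- With an inverting element present, the subgroup of index two is the centraliser of the scalar. -/
theorem mem_M_of_comm (hinv : ∃ c : C, c * T.x ≠ T.x * c) {c : C} (hc : c * T.x = T.x * c) :
    c ∈ T.M := by
  obtain ⟨e, he⟩ := hinv
  by_contra hcM
  have heM : e ∉ T.M := fun h => he (T.central e h)
  have h := T.central _ ((Subgroup.mul_mem_iff_of_index_two T.idx).2 (iff_of_false hcM heM))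
  apply he
  rw [mul_assoc, ← mul_assoc T.x, ← hc, mul_assoc] at h
  exact mul_left_cancel h

section Rho

variable {L : Fin 6 → ZMod 3}

local notation "vL" => dmul L one6
local notation "SM" => T.stab (dmul L one6) ⊓ T.M

theorem mono_spec (σ : A6) : ∃ c : ↥SM, ∀ y, T.r (c : C) (dmul L y) = dmul L fun i => y (σ.1⁻¹ i) := by
  obtain ⟨c, hc, h⟩ := mono_exists (T := T) (L := L) σ.1⁻¹ (by rw [map_inv, σ.2, inv_one])
  exact ⟨⟨c, h one6, hc⟩, h⟩

/-- The monomial copy of `A6` in the stabiliser. -/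
noncomputable def iota : A6 →* ↥SM :=
  MonoidHom.mk' (fun σ => (mono_spec σ).choose) fun σ τ => Subtype.ext (T.inj (LinearEquiv.ext fun a => by
    obtain ⟨y, rfl⟩ : ∃ y, dmul L y = a := ⟨_, dmul_surj L a⟩
    show T.r _ (dmul L y) = T.r ((mono_spec σ).choose.1 * (mono_spec τ).choose.1) (dmul L y)
    rw [T.r_mul, (mono_spec (σ * τ)).choose_spec, (mono_spec τ).choose_spec, (mono_spec σ).choose_spec]
    simp only [Subgroup.coe_mul, mul_inv_rev, Equiv.Perm.mul_apply]))

theorem iota_apply (σ : A6) (y : V6) :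
    T.r (iota (T := T) (L := L) σ : C) (dmul L y) = dmul L fun i => y (σ.1⁻¹ i) :=
  (mono_spec σ).choose_spec y

/-- The stabiliser in the subgroup of index two maps onto `A6` with kernel the other radical. -/
theorem exists_rho (P : Loc T (dmul L one6)) (hbig : vL ∉ T.orb ⊤ v2) :
    ∃ ρ : ↥SM →* A6, Function.Surjective ρ ∧ (∀ c, ρ c = 1 ↔ (c : C) ∈ P.E) ∧
      Nat.card ↥(P.E ⊓ T.M) = 16 := by
  classical
  set N := (P.E ⊓ T.M).subgroupOf SM with hN
  have hle : P.E ⊓ T.M ≤ SM := fun e he => ⟨P.E_fix e he.1, he.2⟩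
  haveI hNn : N.Normal := ⟨fun e he c => ⟨P.E_inv c.1 c.2.1 _ he.1,
    T.M.mul_mem (T.M.mul_mem c.2.2 he.2) (T.M.inv_mem c.2.2)⟩⟩
  have hcN : Nat.card N = Nat.card ↥(P.E ⊓ T.M) := Nat.card_congr (Subgroup.subgroupOfEquivOfLe hle).toEquiv
  have hSM : Nat.card ↥SM = 5760 := card_SM qn_v P.v_ne hbig
  let q := (QuotientGroup.mk' N).comp (iota (T := T) (L := L))
  haveI : IsSimpleGroup A6 := alternatingGroup.isSimpleGroup (by simp)
  have hqinj : Function.Injective q := by
    rw [← MonoidHom.ker_eq_bot_iff]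
    refine (IsSimpleGroup.eq_bot_or_eq_top_of_normal _ inferInstance).resolve_right fun htop => ?_
    have hg : q g3 = 1 := by rw [← MonoidHom.mem_ker, htop]; exact mem_top _
    have h2 : (iota (T := T) (L := L) g3 : C) * (iota (T := T) (L := L) g3 : C) = 1 :=
      P.E_sq _ ((QuotientGroup.eq_one_iff _).1 hg).1
    have h3 : T.r ((iota (T := T) (L := L) g3 : C) * (iota (T := T) (L := L) g3 : C)) (dmul L e0) = dmul L e0 := by
      rw [h2, T.r_one]
    rw [T.r_mul, iota_apply, iota_apply] at h3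
    exact absurd (dmul_inj L h3) (by decide +kernel)
  have hidx : Nat.card (↥SM ⧸ N) * Nat.card N = 5760 := by
    rw [← hSM, ← Subgroup.card_eq_card_quotient_mul_card_subgroup]
  have hA : 360 ≤ Nat.card (↥SM ⧸ N) := card_A6 ▸ Nat.card_le_card_of_injective q hqinj
  have h16 := card_E0 P
  rw [← hcN] at h16
  have hN16 : Nat.card N = 16 := by
    by_contra hne
    have : 360 * 17 ≤ Nat.card (↥SM ⧸ N) * Nat.card N := Nat.mul_le_mul hA (by omega)
    omega
  have hquot : Nat.card (↥SM ⧸ N) = 360 := by rw [hN16] at hidx; omega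
  have hbij : Function.Bijective q :=
    (Nat.bijective_iff_injective_and_card q).2 ⟨hqinj, by rw [card_A6, hquot]⟩
  let eq' := MulEquiv.ofBijective q hbij
  refine ⟨eq'.symm.toMonoidHom.comp (QuotientGroup.mk' N),
    eq'.symm.surjective.comp (QuotientGroup.mk'_surjective N), fun c => ?_, hcN ▸ hN16⟩
  show eq'.symm (QuotientGroup.mk c) = 1 ↔ _
  rw [eq'.symm.map_eq_one_iff, QuotientGroup.eq_one_iff, hN, Subgroup.mem_subgroupOf]
  exact ⟨fun h => h.1, fun h => ⟨h, c.2.2⟩⟩

theorem card_W_eq (P : Loc T (dmul L one6)) (hbig : vL ∉ T.orb ⊤ v2) : Nat.card P.W = 64 ∧ Nat.card P.E = 32 := by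
  obtain ⟨-, -, -, h16⟩ := exists_rho P hbig
  haveI : T.M.Normal := Subgroup.normal_of_index_eq_two T.idx
  have h1 := Nat.le_of_dvd (by norm_num : 0 < 2) (T.idx ▸ Subgroup.relIndex_dvd_index_of_normal T.M P.E)
  have h2 : Nat.card P.E = T.M.relIndex P.E * Nat.card ↥(T.M ⊓ P.E) := by
    have h3 := Subgroup.index_mul_card ((T.M).subgroupOf P.E)
    rw [← Subgroup.inf_subgroupOf_right, Nat.card_congr (Subgroup.subgroupOfEquivOfLe inf_le_right).toEquiv,
      Subgroup.inf_subgroupOf_right] at h3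
    exact h3.symm
  rw [inf_comm, h16] at h2
  have h32 : Nat.card P.E = 32 := by
    have := card_E P
    omega
  have hc := P.card
  rw [h32] at hc
  exact ⟨by norm_num at hc; omega, h32⟩

end Rho

end CfsgLib.FiLarge.Eight
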