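import Cfsg.Agent.FiLarge.EightGroup
import Cfsg.Agent.Solvable.PGroupBasic

/-!
The radical of the local subgroup is special with centre the group of order eight.
-/

set_option autoImplicit false
set_option linter.style.haveILetI false

namespace CfsgLib.FiLarge.Eight

open Subgroup
open scoped commutatorElement Pointwise

variable {G : Type*} [Group G] [Finite G] {z : G}
  {Q : Subgroup (centralizer ({z} : Set G))} [Q.Normal]

local notation "Qf" => LargeExtra.fam (QG Q) z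

theorem sup_eq_of_card {H K X : Subgroup G} (hH : H ≤ X) (hK : K ≤ X)
    (h : Nat.card X * Nat.card ↥(H ⊓ K) ≤ Nat.card H * Nat.card K) : H ⊔ K = X := by
  refine Subgroup.eq_of_le_of_card_ge (sup_le hH hK) ?_
  have h1 := relIndex_mul_relIndex ⊥ (H ⊓ K) K bot_le inf_le_right
  rw [relIndex_bot_left, relIndex_bot_left, inf_relIndex_right] at h1
  have h2 := relIndex_mul_relIndex ⊥ H (H ⊔ K) bot_le le_sup_left
  rw [relIndex_bot_left, relIndex_bot_left] at h2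
  have h0 : H.relIndex (H ⊔ K) ≠ 0 := fun e => by
    rw [e, mul_zero] at h2
    exact (Nat.card_pos (α := ↥(H ⊔ K))).ne h2
  have h3 := Nat.mul_le_mul_left (Nat.card H * Nat.card ↥(H ⊓ K))
    (relIndex_le_of_le_right (H := H) (le_sup_right : K ≤ H ⊔ K) h0)
  refine Nat.le_of_mul_le_mul_right ?_ (Nat.card_pos (α := ↥(H ⊓ K)))
  calc Nat.card X * Nat.card ↥(H ⊓ K) ≤ Nat.card H * Nat.card K := h
    _ = Nat.card H * Nat.card ↥(H ⊓ K) * H.relIndex K := by rw [← h1]; ring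
    _ ≤ Nat.card H * Nat.card ↥(H ⊓ K) * H.relIndex (H ⊔ K) := h3
    _ = Nat.card ↥(H ⊔ K) * Nat.card ↥(H ⊓ K) := by rw [← h2]; ring

variable {D : Dat z Q} (X : Ctx D)

theorem Ctx.gen_U {u : G} (hu : u ∈ X.U) (h1 : u ≠ 1) : Extra2.Gen (Qf u) u :=
  Singular.gen_conj (setup D) (X.sing.conj u hu h1)

theorem Ctx.comm_mem_meet {u w y v : G} (hu : u ∈ X.U) (hu1 : u ≠ 1) (hw : w ∈ X.U) (hw1 : w ≠ 1)
    (hne : u ≠ w) (hy : y ∈ Qf u) (hy' : y ∈ Qf w) (hv : v ∈ X.U) : y * v * y⁻¹ * v⁻¹ = 1 := by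
  rcases (X.gen_U hu hu1).comm y hy v (Singular.le_core (setup D) X.sing hu hu1 hv) with e | e
  · exact e
  rcases (X.gen_U hw hw1).comm y hy' v (Singular.le_core (setup D) X.sing hw hw1 hv) with e' | e'
  · exact e'
  · exact absurd (e.symm.trans e') hne

theorem Ctx.meet_le_CU {u w : G} (hu : u ∈ X.U) (hu1 : u ≠ 1) (hw : w ∈ X.U) (hw1 : w ≠ 1)
    (hne : u ≠ w) : Qf u ⊓ Qf w ≤ X.CU := fun y hy => mem_centralizer_iff.2 fun v hv =>
  (mul_inv_eq_iff_eq_mul.1 (mul_inv_eq_one.1 (X.comm_mem_meet hu hu1 hw hw1 hne hy.1 hy.2 hv))).symm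

theorem Ctx.s_ne : X.s ≠ 1 := (X.hs.gen D).ne_one

theorem Ctx.t_ne : X.t ≠ 1 ∧ X.t ≠ z := by
  have h : vec D X.t ≠ 0 := by
    rw [X.ht]; exact fun h => X.smul_ne (c := om) (d := 0) (by decide +kernel) (by rw [h, zero_smul])
  exact ⟨fun e => h ((vec_eq_zero D X.t_mem).2 (Or.inl e)), fun e => h ((vec_eq_zero D X.t_mem).2 (Or.inr e))⟩

theorem Ctx.s_ne_t : X.s ≠ X.t := fun e => by
  have h := X.ht
  rw [← e] at h
  exact X.smul_ne (c := 1) (d := om) (by decide +kernel) (by rw [one_smul]; exact h)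

theorem Ctx.U_le_fam {u : G} (hu : u ∈ X.U) (h1 : u ≠ 1) : X.U ≤ Qf u :=
  Singular.le_core (setup D) X.sing hu h1

theorem Ctx.mem_meet_of {T : Set G} (hT : closure T = X.U) (hT1 : (1 : G) ∉ T) {y : G}
    (hy : ∀ t ∈ T, y ∈ Qf t) {u : G} (hu : u ∈ X.U) (h1 : u ≠ 1) : y ∈ Qf u := by
  have h := Singular.meet_eq_of_closure (setup D) X.sing hT hT1
  have hm : y ∈ ⨅ u ∈ ((X.U : Set G) \ {1}), Qf u := by
    rw [h]; exact mem_iInf.2 fun t => mem_iInf.2 (hy t)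
  exact Singular.mem_meet.1 hm u hu h1

theorem Ctx.meet3 {y : G} (hz : y ∈ QG Q) (hs : y ∈ Qf X.s) (ht : y ∈ Qf X.t) : y ∈ X.U := by
  refine ⟨hz, loc_in_point (X.hs.loc D) X.hv ((X.hs.W_mem D hz).2 hs) ?_⟩
  obtain ⟨c, hc⟩ := QuotientGroup.mk_surjective (D.T.x)
  obtain ⟨h1, h2⟩ := vec_conj D c hz
  rw [hc, D.T.x_act] at h2
  rw [← h2]
  refine (X.hs.W_mem D h1).2 ?_
  obtain ⟨g1, g2⟩ := vec_conj D c⁻¹ X.hs.mem
  have hu : ((c : G))⁻¹ * X.s * (c : G) ∈ X.U := by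
    have e : ((c⁻¹ : centralizer ({z} : Set G)) : G) * X.s * ((c⁻¹ : centralizer ({z} : Set G)) : G)⁻¹ =
        (c : G)⁻¹ * X.s * (c : G) := by simp
    rw [e] at g1 g2
    refine ⟨g1, mem_pt.2 ⟨om * om, ?_⟩⟩
    rw [g2, QuotientGroup.mk_inv, hc]
    have : D.T.r D.T.x ((om * om) • vec D X.s) = vec D X.s := by
      rw [D.T.x_act, smul_smul, (by decide +kernel : om * (om * om) = 1), one_smul]
    conv_lhs => rw [← this, ← D.T.r_mul, inv_mul_cancel, D.T.r_one]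
  have hu1 : ((c : G))⁻¹ * X.s * (c : G) ≠ 1 := fun e => X.s_ne (by
    calc X.s = (c : G) * ((c : G)⁻¹ * X.s * (c : G)) * (c : G)⁻¹ := by group
      _ = 1 := by rw [e]; group)
  have hy := X.mem_meet_of X.closure_eq ?_ ?_ hu hu1 (y := y)
  · have := (Singular.conj_mem_iff (setup D) (c : G) _ y).2 hy
    rwa [show (c : G) * ((c : G)⁻¹ * X.s * (c : G)) * (c : G)⁻¹ = X.s by group] at this
  · rintro (e | e | e)
    exacts [X.z_ne e.symm, X.s_ne e.symm, X.t_ne.1 e.symm]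
  · rintro u (rfl | rfl | rfl)
    · rw [fam_z D]; exact hz
    · exact hs
    · exact ht

theorem Ctx.t_pt : Pt D X.t := (X.pt_of_mem X.t_U X.t_ne.1 X.t_ne.2).1

theorem Ctx.card_st : Nat.card ↥(Qf X.s ⊓ Qf X.t) = 128 := by
  obtain ⟨g, hg⟩ := X.hs.conj
  obtain ⟨g', hg'⟩ := X.t_pt.conj
  have hconj : g * (g⁻¹ * X.t * g) * g⁻¹ = X.t := by group
  have hts : X.t ∈ Qf X.s := X.U_le_fam X.s_U X.s_ne X.t_U
  have hb : Pt D (g⁻¹ * X.t * g) := by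
    refine ⟨⟨g⁻¹ * g', by rw [← hg']; group⟩, ?_, fun e => X.s_ne_t ?_⟩
    · rw [← fam_z D, ← Singular.conj_mem_iff (setup D) g, hg, hconj]
      exact hts
    · rw [← hg, ← hconj, e]
  have h := Subgroup.card_map_of_injective (K := QG Q ⊓ Qf (g⁻¹ * X.t * g))
    (f := (MulAut.conj g).toMonoidHom) (MulAut.conj g).injective
  rw [Subgroup.map_inf _ _ _ (MulAut.conj g).injective] at h
  rw [show (QG Q).map (MulAut.conj g).toMonoidHom = Qf X.s by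
      rw [← hg, ← Singular.map_conj_eq (setup D), fam_z D],
    Singular.map_conj_eq (setup D), hconj, hb.card_meet D] at h
  exact h

theorem Ctx.U_le_QG : X.U ≤ QG Q := fun _ h => h.1

theorem Ctx.le_qs : QG Q ⊓ Qf X.s ≤ X.CU := by
  exact fun y hy => X.meet_le_CU X.z_U X.z_ne X.s_U X.s_ne X.hs.ne.symm
    ⟨(fam_z D).symm ▸ hy.1, hy.2⟩

theorem Ctx.le_qt : QG Q ⊓ Qf X.t ≤ X.CU := by
  exact fun y hy => X.meet_le_CU X.z_U X.z_ne X.t_U X.t_ne.1 X.t_ne.2.symm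
    ⟨(fam_z D).symm ▸ hy.1, hy.2⟩

theorem Ctx.le_st : Qf X.s ⊓ Qf X.t ≤ X.CU :=
  X.meet_le_CU X.s_U X.s_ne X.t_U X.t_ne.1 X.s_ne_t

theorem Ctx.inter_card {A B : Subgroup G} (h : ∀ y, y ∈ A → y ∈ B → y ∈ QG Q ∧ y ∈ Qf X.s ∧ y ∈ Qf X.t) :
    Nat.card ↥(A ⊓ B) ≤ 8 := by
  rw [← X.card_U]
  exact card_le_of_le fun y hy =>
    have ⟨a, b, c⟩ := h y hy.1 hy.2
    X.meet3 a b c

theorem Ctx.QG_CU : (QG Q ⊓ Qf X.s) ⊔ (QG Q ⊓ Qf X.t) = QG Q ⊓ X.CU := by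
  refine sup_eq_of_card (le_inf inf_le_left X.le_qs) (le_inf inf_le_left X.le_qt) ?_
  have hc : Nat.card ↥(QG Q ⊓ X.CU) = 2 ^ 11 := by
    have := X.card_famCU X.z_U X.z_ne; rwa [fam_z D] at this
  rw [X.hs.card_meet D, X.t_pt.card_meet D, hc]
  have := X.inter_card (A := QG Q ⊓ Qf X.s) (B := QG Q ⊓ Qf X.t) fun y hy hy' => ⟨hy.1, hy.2, hy'.2⟩
  omega

theorem Ctx.s_CU : (QG Q ⊓ Qf X.s) ⊔ (Qf X.s ⊓ Qf X.t) = Qf X.s ⊓ X.CU := by
  refine sup_eq_of_card (le_inf inf_le_right X.le_qs) (le_inf inf_le_left X.le_st) ?_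
  rw [X.hs.card_meet D, X.card_st, X.card_famCU X.s_U X.s_ne]
  have := X.inter_card (A := QG Q ⊓ Qf X.s) (B := Qf X.s ⊓ Qf X.t) fun y hy hy' => ⟨hy.1, hy.2, hy'.2⟩
  omega

theorem Ctx.R_sup : X.R = (QG Q ⊓ X.CU) ⊔ (Qf X.s ⊓ Qf X.t) := by
  rw [X.R_eq]
  refine le_antisymm (X.KG_le_sup.trans (sup_le le_sup_left ?_)) (sup_le ?_ ?_)
  · rw [← X.s_CU, ← X.QG_CU]
    exact sup_le (le_sup_left.trans le_sup_left) le_sup_right
  · have := X.famCU_le_KG X.z_U X.z_ne; rwa [fam_z D] at this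
  · exact (le_inf inf_le_left X.le_st).trans (X.famCU_le_KG X.s_U X.s_ne)

theorem Ctx.famCU_le_R {u : G} (hu : u ∈ X.U) (h1 : u ≠ 1) : Qf u ⊓ X.CU ≤ X.R := by
  rw [X.R_eq]; exact X.famCU_le_KG hu h1

theorem Ctx.R_le_CU : X.R ≤ X.CU := inf_le_right

theorem Ctx.U_le_CU : X.U ≤ X.CU := fun v hv => mem_centralizer_iff.2 fun u hu => by
  have h1 := X.U_sq (mul_mem hu hv)
  calc u * v = (u * v)⁻¹ := eq_inv_of_mul_eq_one_left h1
    _ = v⁻¹ * u⁻¹ := mul_inv_rev u v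
    _ = v * u := by rw [inv_eq_of_mul_eq_one_right (X.U_sq hu), inv_eq_of_mul_eq_one_right (X.U_sq hv)]

theorem Ctx.U_le_R : X.U ≤ X.R :=
  (le_inf (X.U_le_fam X.z_U X.z_ne) X.U_le_CU).trans (X.famCU_le_R X.z_U X.z_ne)

theorem Ctx.U_comm {u y : G} (hu : u ∈ X.U) (hy : y ∈ X.CU) : u * y = y * u :=
  mem_centralizer_iff.1 hy u hu

/-- The elements of the centraliser whose commutator with a given one lies in the small group. -/
noncomputable def Ctx.Kc (b : G) : Subgroup G where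
  carrier := {a | a ∈ X.CU ∧ a * b * a⁻¹ * b⁻¹ ∈ X.U}
  one_mem' := ⟨one_mem _, by simp⟩
  mul_mem' := by
    rintro a a' ⟨ha, ha'⟩ ⟨hc, hc'⟩
    refine ⟨mul_mem ha hc, ?_⟩
    have e : a * a' * b * (a * a')⁻¹ * b⁻¹ = a * (a' * b * a'⁻¹ * b⁻¹) * a⁻¹ * (a * b * a⁻¹ * b⁻¹) := by group
    rw [e, ← X.U_comm hc' ha, mul_inv_cancel_right]
    exact mul_mem hc' ha'
  inv_mem' := by
    rintro a ⟨ha, ha'⟩
    refine ⟨inv_mem ha, ?_⟩
    have e : a⁻¹ * b * a⁻¹⁻¹ * b⁻¹ = a⁻¹ * (a * b * a⁻¹ * b⁻¹)⁻¹ * a⁻¹⁻¹ := by group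
    rw [e, ← X.U_comm (inv_mem ha') (inv_mem ha), mul_inv_cancel_right]
    exact inv_mem ha'

theorem Ctx.R_gens {P : Subgroup G} (h1 : QG Q ⊓ Qf X.s ≤ P) (h2 : QG Q ⊓ Qf X.t ≤ P)
    (h3 : Qf X.s ⊓ Qf X.t ≤ P) : X.R ≤ P := by
  rw [X.R_sup, ← X.QG_CU]; exact sup_le (sup_le h1 h2) h3

theorem Ctx.pair_comm {u a b : G} (hu : u ∈ X.U) (h1 : u ≠ 1) (ha : a ∈ Qf u) (hb : b ∈ Qf u) :
    a * b * a⁻¹ * b⁻¹ ∈ X.U := by
  rcases (X.gen_U hu h1).comm a ha b hb with e | e <;> rw [e]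
  exacts [one_mem _, hu]

theorem Ctx.pair_comm_z {a b : G} (ha : a ∈ QG Q) (hb : b ∈ QG Q) : a * b * a⁻¹ * b⁻¹ ∈ X.U := by
  refine X.pair_comm X.z_U X.z_ne ?_ ?_ <;> rw [fam_z D] <;> assumption

theorem Ctx.comm_U {a b : G} (ha : a ∈ X.R) (hb : b ∈ X.R) : a * b * a⁻¹ * b⁻¹ ∈ X.U := by
  have hgen : ∀ g, (g ∈ QG Q ⊓ Qf X.s ∨ g ∈ QG Q ⊓ Qf X.t ∨ g ∈ Qf X.s ⊓ Qf X.t) → X.R ≤ X.Kc g := by
    intro g hg
    refine X.R_gens ?_ ?_ ?_ <;> intro y hy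
    · refine ⟨X.le_qs hy, ?_⟩
      rcases hg with h | h | h
      exacts [X.pair_comm_z hy.1 h.1, X.pair_comm_z hy.1 h.1, X.pair_comm X.s_U X.s_ne hy.2 h.1]
    · refine ⟨X.le_qt hy, ?_⟩
      rcases hg with h | h | h
      exacts [X.pair_comm_z hy.1 h.1, X.pair_comm_z hy.1 h.1, X.pair_comm X.t_U X.t_ne.1 hy.2 h.2]
    · refine ⟨X.le_st hy, ?_⟩
      rcases hg with h | h | h
      exacts [X.pair_comm X.s_U X.s_ne hy.1 h.2, X.pair_comm X.t_U X.t_ne.1 hy.2 h.2,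
        X.pair_comm X.s_U X.s_ne hy.1 h.1]
  have hswap : ∀ {x y : G}, x * y * x⁻¹ * y⁻¹ ∈ X.U → y * x * y⁻¹ * x⁻¹ ∈ X.U := fun {x y} h => by
    have : y * x * y⁻¹ * x⁻¹ = (x * y * x⁻¹ * y⁻¹)⁻¹ := by group
    rw [this]; exact inv_mem h
  have : X.R ≤ X.Kc a := X.R_gens (fun g hg => ⟨X.le_qs hg, hswap (hgen g (Or.inl hg) ha).2⟩)
    (fun g hg => ⟨X.le_qt hg, hswap (hgen g (Or.inr (Or.inl hg)) ha).2⟩)
    (fun g hg => ⟨X.le_st hg, hswap (hgen g (Or.inr (Or.inr hg)) ha).2⟩)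
  exact hswap (this hb).2

theorem Ctx.sq_U {a : G} (ha : a ∈ X.R) : a * a ∈ X.U := by
  let P : Subgroup G :=
    { carrier := {a | a ∈ X.R ∧ a * a ∈ X.U}
      one_mem' := ⟨one_mem _, by simp⟩
      mul_mem' := by
        rintro x y ⟨hx, hx'⟩ ⟨hy, hy'⟩
        refine ⟨mul_mem hx hy, ?_⟩
        have e : x * y * (x * y) = x * (y * x * y⁻¹ * x⁻¹) * x * (y * y) := by group
        rw [e, ← X.U_comm (X.comm_U hy hx) (X.R_le_CU hx), mul_assoc (y * x * y⁻¹ * x⁻¹) x x]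
        exact mul_mem (mul_mem (X.comm_U hy hx) hx') hy'
      inv_mem' := by
        rintro x ⟨hx, hx'⟩
        refine ⟨inv_mem hx, ?_⟩
        rw [← mul_inv_rev]; exact inv_mem hx' }
  have hsq : ∀ {u y : G}, u ∈ X.U → u ≠ 1 → y ∈ Qf u → y * y ∈ X.U := fun {u y} hu h1 hy => by
    rcases (X.gen_U hu h1).square y hy with e | e <;> rw [e]
    exacts [one_mem _, hu]
  have : X.R ≤ P := X.R_gens
    (fun y hy => ⟨X.famCU_le_R X.s_U X.s_ne ⟨hy.2, X.le_qs hy⟩, hsq X.s_U X.s_ne hy.2⟩)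
    (fun y hy => ⟨X.famCU_le_R X.t_U X.t_ne.1 ⟨hy.2, X.le_qt hy⟩, hsq X.t_U X.t_ne.1 hy.2⟩)
    (fun y hy => ⟨X.famCU_le_R X.s_U X.s_ne ⟨hy.1, X.le_st hy⟩, hsq X.s_U X.s_ne hy.1⟩)
  exact (this ha).2

theorem Ctx.center_U {w : G} (hw : w ∈ X.R) (hc : ∀ y ∈ X.R, w * y = y * w) : w ∈ X.U := by
  have hz : QG Q ⊓ X.CU ≤ X.R := by
    have := X.famCU_le_R X.z_U X.z_ne; rwa [fam_z D] at this
  have hcc : ∀ y ∈ QG Q, (∀ v ∈ QG Q ⊓ X.CU, y * v = v * y) → y ∈ X.U := fun y hy h => by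
    rw [← Extra2.centralizer_centralizer (genQ D) X.z_U X.U_le_QG]
    exact ⟨hy, mem_centralizer_iff.2 fun v hv => (h v hv).symm⟩
  have hle : Qf X.s ⊓ Qf X.t ≤ normalizer ((QG Q ⊓ X.CU : Subgroup G) : Set G) := by
    intro c hc'
    have hcC := X.le_st hc'
    have key : ∀ d ∈ X.CU, ∀ y ∈ QG Q ⊓ X.CU, d * y * d⁻¹ ∈ QG Q ⊓ X.CU := fun d hd y hy =>
      ⟨conj_QG D (X.CU_le hd) hy.1, X.CU.mul_mem (X.CU.mul_mem hd hy.2) (X.CU.inv_mem hd)⟩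
    refine mem_normalizer_iff.2 fun y => ⟨key c hcC y, fun h => ?_⟩
    have := key _ (inv_mem hcC) _ h
    rwa [show c⁻¹ * (c * y * c⁻¹) * c⁻¹⁻¹ = y by group] at this
  have hwm : w ∈ ((QG Q ⊓ X.CU : Subgroup G) : Set G) * ((Qf X.s ⊓ Qf X.t : Subgroup G) : Set G) := by
    rw [← coe_mul_of_right_le_normalizer_left _ _ hle, ← X.R_sup]; exact hw
  obtain ⟨b, hb, a, ha, rfl⟩ := hwm
  have hzW : z ∈ pre D (pair (vec D X.t)) := ⟨(genQ D).mem, Or.inl (vec_z D)⟩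
  obtain ⟨q, hq, hqs, hqW⟩ := Singular.exists_transvection (setup D) X.sing X.z_U X.z_ne
    (W := pre D (pair (vec D X.t))) (X.pair_le X.t_U.2) hzW (a := X.s)
    (by rw [fam_z D]; exact X.hs.mem) X.s_notMem
  have hqN : q ∈ normalizer (X.U : Set G) := X.J_le (X.fam_le_J X.z_U X.z_ne hq)
  rw [fam_z D] at hq
  -- the commutator with the shift
  have hq_R : ∀ y ∈ X.R, q * y * q⁻¹ ∈ X.R := fun y hy => X.R_normal hqN hy
  have hqc : ∀ y ∈ X.R, q * (b * a) * q⁻¹ * y = y * (q * (b * a) * q⁻¹) := by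
    intro y hy
    have hy' := X.R_normal (inv_mem hqN) hy
    rw [inv_inv] at hy'
    calc q * (b * a) * q⁻¹ * y = q * ((b * a) * (q⁻¹ * y * q)) * q⁻¹ := by group
      _ = q * ((q⁻¹ * y * q) * (b * a)) * q⁻¹ := by rw [hc _ hy']
      _ = _ := by group
  have he : q * (b * a) * q⁻¹ * (b * a)⁻¹ ∈ X.U := by
    refine hcc _ ?_ fun v hv => ?_
    · have hw' : b * a ∈ centralizer ({z} : Set G) := X.CU_le (X.R_le_CU hw)
      rw [show q * (b * a) * q⁻¹ * (b * a)⁻¹ = q * ((b * a) * q⁻¹ * (b * a)⁻¹) by group]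
      exact mul_mem hq (conj_QG D hw' (inv_mem hq))
    · have h1 : Commute (q * (b * a) * q⁻¹) v := hqc v (hz hv)
      have h2 : Commute (b * a) v := hc v (hz hv)
      exact (h1.mul_left h2.inv_left).eq
  have hbz : q * b * q⁻¹ * b⁻¹ ∈ X.U := X.pair_comm_z hq hb.1
  have hb' : b ∈ X.CU := hb.2
  have haU : q * a * q⁻¹ * a⁻¹ ∈ X.U := by
    have e1 : q * a * q⁻¹ * a⁻¹ = b⁻¹ * ((q * b * q⁻¹ * b⁻¹)⁻¹ * (q * (b * a) * q⁻¹ * (b * a)⁻¹)) * b := by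
      group
    rw [e1, ← X.U_comm (mul_mem (inv_mem hbz) he) (inv_mem hb'), inv_mul_cancel_right]
    exact mul_mem (inv_mem hbz) he
  set a' := q * a * q⁻¹ with ha'
  have has : a' ∈ Qf X.s ∧ a' ∈ Qf X.t := by
    have e : a' = a' * a⁻¹ * a := (inv_mul_cancel_right _ _).symm
    rw [e]
    exact ⟨mul_mem (X.U_le_fam X.s_U X.s_ne haU) ha.1, mul_mem (X.U_le_fam X.t_U X.t_ne.1 haU) ha.2⟩
  have hazs : a' ∈ Qf (z * X.s) := by
    rw [← hqs]; exact (Singular.conj_mem_iff (setup D) q X.s a).2 ha.1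
  have hcl : closure ({z * X.s, X.s, X.t} : Set G) = X.U := by
    refine le_antisymm ((closure_le _).2 ?_) ?_
    · rintro g (rfl | rfl | rfl)
      exacts [mul_mem X.z_U X.s_U, X.s_U, X.t_U]
    · rw [← X.closure_eq, closure_le]
      rintro g (rfl | rfl | rfl)
      · have h := mul_mem (subset_closure (Or.inl rfl) : g * X.s ∈ closure ({g * X.s, X.s, X.t} : Set G))
          (inv_mem (subset_closure (Or.inr (Or.inl rfl)) : X.s ∈ closure ({g * X.s, X.s, X.t} : Set G)))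
        rwa [mul_inv_cancel_right] at h
      · exact subset_closure (Or.inr (Or.inl rfl))
      · exact subset_closure (Or.inr (Or.inr rfl))
  have haz : a' ∈ QG Q := by
    rw [← fam_z D]
    refine X.mem_meet_of hcl ?_ ?_ X.z_U X.z_ne
    · rintro (e | e | e)
      · exact X.hs.ne ((mul_eq_one_iff_eq_inv.1 e.symm).trans
          (inv_eq_of_mul_eq_one_right (X.U_sq X.s_U))).symm
      · exact X.s_ne e.symm
      · exact X.t_ne.1 e.symm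
    · rintro u (rfl | rfl | rfl)
      exacts [hazs, has.1, has.2]
  have ha'U : a' ∈ X.U := X.meet3 haz has.1 has.2
  have haQ : a ∈ QG Q := by
    have e : a = (a' * a⁻¹)⁻¹ * a' := by group
    rw [e]; exact mul_mem (inv_mem (X.U_le_QG haU)) haz
  exact hcc _ (mul_mem hb.1 haQ) fun v hv => hc v (hz hv)

theorem Ctx.exists_comm {u : G} (hu : u ∈ X.U) (h1 : u ≠ 1) :
    ∃ a ∈ X.R, ∃ b ∈ X.R, a * b * a⁻¹ * b⁻¹ = u := by
  by_contra h
  have hle : Qf u ⊓ X.CU ≤ Qf u ⊓ centralizer ((Qf u ⊓ X.CU : Subgroup G) : Set G) := by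
    refine fun y hy => ⟨hy.1, mem_centralizer_iff.2 fun v hv => ?_⟩
    rcases (X.gen_U hu h1).comm v hv.1 y hy.1 with e | e
    · exact mul_inv_eq_iff_eq_mul.1 (mul_inv_eq_one.1 e)
    · exact absurd ⟨v, X.famCU_le_R hu h1 hv, y, X.famCU_le_R hu h1 hy, e⟩ h
  have hcc : Qf u ⊓ centralizer ((Qf u ⊓ X.CU : Subgroup G) : Set G) = X.U :=
    Extra2.centralizer_centralizer (X.gen_U hu h1) hu (X.U_le_fam hu h1)
  rw [hcc] at hle
  have := card_le_of_le hle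
  rw [X.card_famCU hu h1, X.card_U] at this
  omega

theorem Ctx.mem_center {x : ↥X.R} : x ∈ Subgroup.center ↥X.R ↔ (x : G) ∈ X.U := by
  refine ⟨fun h => X.center_U x.2 fun y hy => ?_, fun h => mem_center_iff.2 fun y => Subtype.ext ?_⟩
  · exact (congrArg Subtype.val (mem_center_iff.1 h ⟨y, hy⟩)).symm
  · exact (X.U_comm h (X.R_le_CU y.2)).symm

theorem Ctx.center_map : (Subgroup.center ↥X.R).map X.R.subtype = X.U := by
  ext g
  refine ⟨fun ⟨x, hx, he⟩ => he ▸ X.mem_center.1 hx, fun hg => ⟨⟨g, X.U_le_R hg⟩, X.mem_center.2 hg, rfl⟩⟩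

theorem Ctx.two_R : IsPGroup 2 ↥X.R := IsPGroup.of_card X.card_R

theorem Ctx.commutator_R : commutator ↥X.R = Subgroup.center ↥X.R := by
  refine le_antisymm ?_ fun x hx => ?_
  · rw [commutator_def, commutator_le]
    exact fun a _ b _ => X.mem_center.2 (X.comm_U a.2 b.2)
  · by_cases h1 : (x : G) = 1
    · rw [show x = 1 from Subtype.ext h1]; exact one_mem _
    obtain ⟨a, ha, b, hb, he⟩ := X.exists_comm (X.mem_center.1 hx) h1
    rw [commutator_def, show x = ⁅(⟨a, ha⟩ : ↥X.R), ⟨b, hb⟩⁆ from Subtype.ext he.symm]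
    exact commutator_mem_commutator (mem_top _) (mem_top _)

theorem Ctx.special : Cfsg.IsSpecial 2 ↥X.R := by
  haveI : Fact (Nat.Prime 2) := ⟨Nat.prime_two⟩
  refine ⟨X.two_R, le_antisymm ?_ ?_, X.commutator_R⟩
  · refine CfsgLib.PGroupBasic.frattini_le_of_elementary (p := 2) _ X.commutator_R.le fun x => ?_
    rw [pow_two]; exact X.mem_center.2 (X.sq_U x.2)
  · rw [← X.commutator_R]
    exact (CfsgLib.PGroupBasic.commutator_pow_le_frattini X.two_R).1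

end CfsgLib.FiLarge.Eight
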