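import Cfsg.Agent.FiLarge.EightLinear

/-!
The stabiliser of a vector carried by a conjugate of the central involution: the point over the
field of four elements lies in the meet, some element inverts the scalar, and the stabiliser in the
subgroup of index two is an extension of an elementary abelian group of order 16 by `A6`.
-/

set_option autoImplicit false
set_option maxRecDepth 100000
set_option linter.style.haveILetI false

namespace CfsgLib.FiLarge.Eight

open Subgroup

variable {C : Type*} [Group C] [Finite C]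

/-- The data carried by the vector of a conjugate of the central involution. -/
structure Loc (T : Std C) (v : V6) where
  /-- The image of the meet. -/
  W : AddSubgroup V6
  /-- The image of the other radical. -/
  E : Subgroup C
  v_mem : v ∈ W
  v_ne : v ≠ 0
  qz : ∀ w ∈ W, qn w = 0
  orth : ∀ a ∈ W, ∀ b ∈ W, pol a b = 0
  E_fix : ∀ e ∈ E, T.r e v = v
  E_sq : ∀ e ∈ E, e * e = 1
  E_comm : ∀ e ∈ E, ∀ f ∈ E, e * f = f * e
  W_inv : ∀ c, T.r c v = v → ∀ w ∈ W, T.r c w ∈ W
  E_inv : ∀ c, T.r c v = v → ∀ e ∈ E, c * e * c⁻¹ ∈ E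
  comm_mem : ∀ e ∈ E, ∀ u, pol v u = 0 → T.r e u + u ∈ W
  card : Nat.card E * Nat.card W = 2 ^ 11
  bound : ∀ S : AddSubgroup V6, (∀ a ∈ S, ∀ b ∈ S, pol a b = 0) → Nat.card S ≤ 64

variable {T : Std C}

theorem pol_r (c : C) (a b : V6) : pol (T.r c a) (T.r c b) = pol a b := by
  have h : qn (T.r c a) + qn (T.r c b) + pol (T.r c a) (T.r c b) = qn a + qn b + pol a b := by
    rw [← qn_add, ← qn_add, ← map_add, T.inv]
  rwa [T.inv, T.inv, add_right_inj] at h

theorem r_om {c : C} (h : c * T.x = T.x * c) (a : V6) : T.r c (om • a) = om • T.r c a := by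
  rw [← T.x_act, ← T.x_act, ← T.r_mul, ← T.r_mul, h]

theorem card_V6 : Nat.card V6 = 4096 := by
  rw [Nat.card_eq_fintype_card]; simp [card_F4]

theorem Loc.two_le {v : V6} (P : Loc T v) : Nat.card P.W ≤ 64 := P.bound P.W P.orth

/-- A vector of a conjugate of the central involution does not lie in the orbit of length 378. -/
theorem Loc.not_small (P : Loc T v2) : False := by
  classical
  have hsub : ∀ y ∈ P.W, (∀ i : Fin 6, 2 ≤ i.val → y i = 0) ∧ qn y = 0 := by
    intro y hy
    refine ⟨(small_table y).resolve_right ?_, P.qz y hy⟩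
    have hmove : ∀ p ∈ tailPh, ∀ w ∈ P.W, w + dmul p w ∈ P.W := by
      intro p hp w hw
      obtain ⟨hp1, hp2⟩ := tailPh_ok p hp
      obtain ⟨c, -, hc⟩ := T.diag p hp1
      have h := P.W_inv c (by rw [hc, hp2]) w hw
      rw [hc] at h
      exact add_mem hw h
    rintro ⟨p, hp, h | ⟨p', hp', h⟩⟩
    · exact h (P.qz _ (hmove p hp y hy))
    · exact h (P.qz _ (hmove p' hp' _ (hmove p hp y hy)))
  have h10 : Nat.card P.W ≤ 10 := by
    rw [← small_card, ← Nat.card_eq_finsetCard]
    exact Nat.card_le_card_of_injective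
      (fun y => (⟨y.1, Finset.mem_filter.2 ⟨Finset.mem_univ _, hsub y.1 y.2⟩⟩ :
        {y // y ∈ Finset.univ.filter fun y : V6 => (∀ i : Fin 6, 2 ≤ i.val → y i = 0) ∧ qn y = 0}))
      fun a b h => Subtype.ext (congrArg (fun w => (w.1 : V6)) h)
  have hdv : Nat.card P.E ∣ Nat.card (T.stab v2) := Subgroup.card_dvd_of_le fun e he => P.E_fix e he
  have hst : Nat.card (T.stab v2) = 51840 := by
    have h := T.card_orb ⊤ v2
    rw [(T.card_small le_top).1, inf_top_eq, Subgroup.card_top, T.card] at h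
    omega
  have hW : Nat.card P.W ∣ 2 ^ 11 := Dvd.intro_left _ P.card
  obtain ⟨k, -, hk⟩ := (Nat.dvd_prime_pow Nat.prime_two).1 hW
  have hk3 : k ≤ 3 := by
    by_contra hlt
    have : 2 ^ 4 ≤ 2 ^ k := Nat.pow_le_pow_right (by norm_num) (by omega)
    omega
  have hE := P.card
  rw [hk] at hE
  rw [hst] at hdv
  have hE' : Nat.card P.E * 2 ^ k = 2 ^ 11 := hE
  interval_cases k <;> norm_num at hE' <;>
    first
      | (rw [hE'] at hdv; norm_num at hdv)
      | (have h8 : Nat.card P.E = 2048 ∨ Nat.card P.E = 1024 ∨ Nat.card P.E = 512 ∨ Nat.card P.E = 256 := by omega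
         rcases h8 with h8 | h8 | h8 | h8 <;> rw [h8] at hdv <;> norm_num at hdv)

/-- The point of a vector over the field of four elements. -/
def pt (v : V6) : AddSubgroup V6 :=
  AddMonoidHom.range (AddMonoidHom.mk' (fun c : F4 => c • v) fun a b => add_smul a b v)

theorem mem_pt {v y : V6} : y ∈ pt v ↔ ∃ c : F4, y = c • v :=
  ⟨fun ⟨c, h⟩ => ⟨c, h.symm⟩, fun ⟨c, h⟩ => ⟨c, h.symm⟩⟩

theorem smul_mem_pt {v y : V6} (c : F4) (h : y ∈ pt v) : c • y ∈ pt v := by
  obtain ⟨d, rfl⟩ := mem_pt.1 h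
  exact mem_pt.2 ⟨c * d, smul_smul c d v⟩

theorem F4_cases : ∀ c : F4, c = 0 ∨ c = 1 ∨ c = om ∨ c = om * om := by decide +kernel

section Full

variable {L : Fin 6 → ZMod 3}

local notation "vL" => dmul L one6

/-- A twist. -/
theorem tw_smul (c : F4) : dmul L (c • one6) = c • vL := dmul_smul L c one6

theorem smul_v_inj {c d : F4} (h : c • vL = d • vL) : c = d := by
  rw [← tw_smul, ← tw_smul] at h
  simpa [one6] using congrFun (dmul_inj L h) 0

theorem const_mem_pt {y : V6} (h : ∀ i, dmul (-L) y i = dmul (-L) y 0) : y ∈ pt vL := by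
  refine mem_pt.2 ⟨dmul (-L) y 0, ?_⟩
  rw [← tw_smul]
  conv_lhs => rw [← dmul_surj L y]
  congr 1
  funext i
  rw [h i]
  exact (mul_one _).symm

theorem pol_v (y : V6) : pol vL (dmul L y) = pol one6 y := dmul_pol _ _ _

theorem sm_untwist {u : V6} : sm (dmul (-L) u) = 0 ↔ pol vL u = 0 ∧ pol vL (om • u) = 0 := by
  rw [sm_iff]
  conv_rhs => rw [← dmul_surj L u, ← dmul_smul, pol_v, pol_v]

theorem pt_pol {a b : V6} (ha : a ∈ pt vL) (hb : b ∈ pt vL) : pol a b = 0 := by
  obtain ⟨c, rfl⟩ := mem_pt.1 ha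
  obtain ⟨d, rfl⟩ := mem_pt.1 hb
  rw [← tw_smul, ← tw_smul, dmul_pol]
  exact (by decide +kernel : ∀ c d : F4, pol (c • one6) (d • one6) = 0) c d

theorem mono_exists (σ : Equiv.Perm (Fin 6)) (hσ : Equiv.Perm.sign σ = 1) :
    ∃ c ∈ T.M, ∀ y, T.r c (dmul L y) = dmul L fun i => y (σ i) := by
  obtain ⟨c, hc, hcp⟩ := T.perm σ hσ
  obtain ⟨d, hd, hdp⟩ := T.diag (fun i => L i - L (σ i))
    (by rw [Finset.sum_sub_distrib, Equiv.sum_comp σ L, sub_self])
  refine ⟨d * c, mul_mem hd hc, fun y => ?_⟩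
  rw [T.r_mul, hcp, hdp]
  funext i
  show omp (L i - L (σ i)) * (omp (L (σ i)) * y (σ i)) = omp (L i) * y (σ i)
  rw [← mul_assoc, ← omp_add, sub_add_cancel]

theorem mono_fix {c : C} {f : Fin 6 → Fin 6} (hc : ∀ y, T.r c (dmul L y) = dmul L fun i => y (f i)) :
    T.r c vL = vL := hc one6

/-- A set of orthogonal vectors closed under scalars and the monomial stabiliser lies in the point. -/
theorem core (K : Set V6) (hq : ∀ y ∈ K, qn y = 0) (hv : ∀ y ∈ K, pol vL y = 0)
    (hom : ∀ y ∈ K, om • y ∈ K) (hinv : ∀ c ∈ T.M, T.r c vL = vL → ∀ y ∈ K, T.r c y ∈ K)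
    (horth : ∀ a ∈ K, ∀ b ∈ K, pol a b = 0) {y : V6} (hy : y ∈ K) : y ∈ pt vL := by
  set y' := dmul (-L) y with hy'
  have hyy : dmul L y' = y := dmul_surj L y
  refine const_mem_pt ((core_table y' (sm_untwist.2 ⟨hv y hy, hv _ (hom y hy)⟩)
    (by rw [hy', dmul_qn, hq y hy])).resolve_right ?_)
  rintro ⟨f, hf, h⟩
  obtain ⟨σ, hσ, hσf⟩ := cycFun_eq f hf
  obtain ⟨c, hcM, hc⟩ := mono_exists (T := T) (L := L) σ (cycs_even σ hσ)
  have hc' : ∀ w, T.r c (dmul L w) = dmul L fun i => w (f i) := fun w => by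
    rw [hc]; simp only [hσf]
  have hm : dmul L (fun i => y' (f i)) ∈ K := by
    rw [← hc', hyy]
    exact hinv c hcM (mono_fix hc') y hy
  rcases h with h | h <;> apply h <;> rw [← dmul_pol L, hyy]
  · exact horth _ hy _ hm
  · rw [dmul_smul]; exact horth _ hy _ (hom _ hm)

/-- A vector orthogonal to all vectors of zero sum lies in the point. -/
theorem perp {d : V6} (h : ∀ u, sm (dmul (-L) u) = 0 → pol d u = 0) : d ∈ pt vL := by
  refine const_mem_pt ((perp_table _).resolve_right ?_)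
  rintro ⟨w, hw, hne⟩
  apply hne
  rw [← dmul_pol L, dmul_surj]
  refine h _ ?_
  rw [dmul_dmul, neg_add_cancel, dmul_zero']
  exact hvec_sm w hw

/-- The vector outside the hyperplanes. -/
def u0 (L : Fin 6 → ZMod 3) : V6 := dmul L e0

/-- A linear map trivial on the hyperplane is determined by the vector outside. -/
theorem formula {c : C} (hcx : c * T.x = T.x * c)
    (hH : ∀ u, sm (dmul (-L) u) = 0 → T.r c u = u) (y : V6) :
    T.r c (dmul L y) = dmul L y + sm y • (T.r c (u0 L) + u0 L) := by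
  have hs : ∀ (s : F4) (a : V6), T.r c (s • a) = s • T.r c a := by
    intro s a
    rcases F4_cases s with rfl | rfl | rfl | rfl
    · rw [zero_smul, zero_smul, map_zero]
    · rw [one_smul, one_smul]
    · exact r_om hcx a
    · rw [← smul_smul, r_om hcx, r_om hcx, smul_smul]
  conv_lhs => rw [split y, dmul_add, map_add, hH _ (by rw [dmul_dmul, neg_add_cancel, dmul_zero']; exact split_sm y),
    dmul_smul, hs]
  rw [dmul_add, dmul_smul, smul_add, u0]
  abel

theorem eq_one_of_formula {c : C} (hcx : c * T.x = T.x * c)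
    (hH : ∀ u, sm (dmul (-L) u) = 0 → T.r c u = u) (h0 : T.r c (u0 L) = u0 L) : c = 1 := by
  refine T.inj (LinearEquiv.ext fun a => ?_)
  rw [T.r_one, ← dmul_surj L a, formula hcx hH, h0, add_self, smul_zero, add_zero]

variable (P : Loc T (dmul L one6))
include P

/-- The largest subspace of the meet over the field of four elements. -/
theorem in_point {y : V6} (hy : y ∈ P.W) (hy' : om • y ∈ P.W) : y ∈ pt vL := by
  refine core (T := T) {y | y ∈ P.W ∧ om • y ∈ P.W} (fun a ha => P.qz a ha.1)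
    (fun a ha => P.orth _ P.v_mem a ha.1) (fun a ha => ⟨ha.2, ?_⟩)
    (fun c hc hcv a ha => ⟨P.W_inv c hcv a ha.1, ?_⟩)
    (fun a ha b hb => P.orth a ha.1 b hb.1) ⟨hy, hy'⟩
  · rw [om_om]; exact add_mem ha.2 ha.1
  · rw [← r_om (T.central c hc)]; exact P.W_inv c hcv _ ha.2

/-- A linear element of the other radical moves the hyperplane into the point. -/
theorem move_hyper {e : C} (he : e ∈ P.E) (hex : e * T.x = T.x * e) {u : V6}
    (hu : sm (dmul (-L) u) = 0) : T.r e u + u ∈ pt vL ∧ T.r e u + u ∈ P.W ∧ om • (T.r e u + u) ∈ P.W := by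
  obtain ⟨h1, h2⟩ := sm_untwist.1 hu
  have a1 := P.comm_mem e he u h1
  have a2 := P.comm_mem e he (om • u) h2
  rw [r_om hex, ← om_add] at a2
  exact ⟨in_point P a1 a2, a1, a2⟩

theorem card_E : 32 ≤ Nat.card P.E := by
  have h := P.card
  have h2 := P.two_le
  by_contra hlt
  have : Nat.card P.E * Nat.card P.W ≤ 31 * 64 := Nat.mul_le_mul (by omega) h2
  omega

/-- The elements of the other radical in the subgroup of index two. -/
theorem card_E0 : 16 ≤ Nat.card ↥(P.E ⊓ T.M) := by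
  haveI : T.M.Normal := Subgroup.normal_of_index_eq_two T.idx
  have h1 := Subgroup.relIndex_dvd_index_of_normal T.M P.E
  rw [T.idx] at h1
  have h2 : Nat.card P.E = T.M.relIndex P.E * Nat.card ↥(T.M ⊓ P.E) := by
    have h3 := Subgroup.index_mul_card ((T.M).subgroupOf P.E)
    rw [← Subgroup.inf_subgroupOf_right, Nat.card_congr (Subgroup.subgroupOfEquivOfLe inf_le_right).toEquiv,
      Subgroup.inf_subgroupOf_right] at h3
    exact h3.symm
  have h4 := card_E P
  have h5 := Nat.le_of_dvd (by norm_num) h1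
  rw [inf_comm]
  by_contra hlt
  have : T.M.relIndex P.E * Nat.card ↥(T.M ⊓ P.E) ≤ 2 * 15 := Nat.mul_le_mul h5 (by omega)
  omega

/-- The whole point lies in the meet. -/
theorem om_mem : om • vL ∈ P.W := by
  classical
  by_contra hno
  have hK : ∀ y ∈ pt vL, y ∈ P.W → om • y ∈ P.W → y = 0 := by
    intro y hy h1 h2
    obtain ⟨c, rfl⟩ := mem_pt.1 hy
    rcases F4_cases c with rfl | rfl | rfl | rfl
    · exact zero_smul _ _
    · rw [one_smul] at h2; exact absurd h2 hno
    · exact absurd h1 hno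
    · rw [← smul_smul, om_om] at h1
      refine absurd ?_ hno
      have := add_mem h1 P.v_mem
      rwa [add_assoc, add_self, add_zero] at this
  have hfix : ∀ e ∈ P.E ⊓ T.M, ∀ u, sm (dmul (-L) u) = 0 → T.r e u = u := by
    intro e he u hu
    obtain ⟨a, b, c⟩ := move_hyper P he.1 (T.central e he.2) hu
    exact (eq_neg_of_add_eq_zero_left (hK _ a b c)).trans (neg_self u)
  have hd : ∀ e : ↥(P.E ⊓ T.M), T.r (e : C) (u0 L) + u0 L ∈ pt vL := by
    intro e
    refine perp fun u hu => ?_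
    have h := hfix e.1 e.2 u hu
    conv_lhs => rw [pol_add]
    nth_rw 1 [← h]
    rw [pol_r]
    exact zmod_two _
  have hinj : Function.Injective fun e : ↥(P.E ⊓ T.M) => (⟨_, hd e⟩ : pt vL) := by
    intro e f hef
    have h : T.r (e : C) (u0 L) = T.r (f : C) (u0 L) := add_right_cancel (congrArg Subtype.val hef)
    refine Subtype.ext (mul_inv_eq_one.1 (eq_one_of_formula (T := T) (L := L) ?_ (hfix _ ?_) ?_))
    · exact T.central _ (mul_mem e.2.2 (inv_mem f.2.2))
    · exact mul_mem e.2 (inv_mem f.2)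
    · have hf : (f : C)⁻¹ = f := inv_eq_of_mul_eq_one_right (P.E_sq _ f.2.1)
      rw [hf, P.E_comm _ e.2.1 _ f.2.1, T.r_mul, h, ← T.r_mul, P.E_sq _ f.2.1, T.r_one]
  haveI : Finite (pt vL) := inferInstance
  have h1 := Nat.card_le_card_of_injective _ hinj
  have h2 : Nat.card (pt vL) ≤ 4 := by
    rw [← card_F4, ← Nat.card_eq_fintype_card]
    exact Nat.card_le_card_of_surjective (fun c => ⟨c • vL, mem_pt.2 ⟨c, rfl⟩⟩)
      fun ⟨y, hy⟩ => by obtain ⟨c, rfl⟩ := mem_pt.1 hy; exact ⟨c, rfl⟩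
  have h3 := card_E0 P
  omega

theorem pt_le : pt vL ≤ P.W := by
  intro y hy
  obtain ⟨c, rfl⟩ := mem_pt.1 hy
  rcases F4_cases c with rfl | rfl | rfl | rfl
  · rw [zero_smul]; exact zero_mem _
  · rw [one_smul]; exact P.v_mem
  · exact om_mem P
  · rw [← smul_smul, om_om]; exact add_mem (om_mem P) P.v_mem

end Full

end CfsgLib.FiLarge.Eight
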