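import Cfsg.Agent.FiLarge.SylowQuot

/-!
The elementary abelian subgroup of order `2 ^ 11` of the involution centraliser.
-/

set_option autoImplicit false
set_option maxHeartbeats 1000000

namespace CfsgLib.FiLarge

open CfsgLib Subgroup Eleven Std

variable {G : Type*} [Group G] [Finite G] {z : G} {Q : Subgroup (centralizer ({z} : Set G))} [Q.Normal]

namespace Dat

variable (D : Dat z Q)

/-- The centre as an element of the centraliser. -/
def zc : centralizer ({z} : Set G) := ⟨z, mem_centralizer_singleton_iff.2 rfl⟩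

local notation "ZC" => (zc (z := z))

theorem zc_central (c : centralizer ({z} : Set G)) : (ZC : centralizer ({z} : Set G)) * c = c * ZC :=
  Subtype.ext (mem_centralizer_singleton_iff.1 c.2).symm

include D in
theorem zc_mem : (ZC : centralizer ({z} : Set G)) ∈ Q := by
  obtain ⟨q, hq, e⟩ := D.pre.gen.mem
  rwa [show q = ZC from Subtype.ext e] at hq

include D in
theorem zc_ne : (ZC : centralizer ({z} : Set G)) ≠ 1 := by
  intro e
  obtain ⟨a, ha⟩ := D.π_surj (Pi.single 0 1)
  have h1 : a * a ≠ 1 := fun h => by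
    have := (D.sq_iff a).1 h
    rw [ha] at this
    exact absurd this (by decide +kernel)
  have h2 : D.π (a * a) = 0 := by rw [D.π_mul]; funext i; exact f4_add_self _
  rcases (D.π_eq_zero _).1 h2 with h | h
  · exact h1 (Subtype.ext (Subtype.ext h))
  · exact h1 (Subtype.ext (Subtype.ext (h.trans (congrArg Subtype.val e))))

theorem eq_or_mul {a b : Q} (h : D.π a = D.π b) :
    (b : centralizer ({z} : Set G)) = a ∨ (b : centralizer ({z} : Set G)) = a * ZC :=
  (D.eq_of_π h).imp (fun e => Subtype.ext e) fun e => Subtype.ext e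

/-- The lift of the plane. -/
def planeLift : Subgroup (centralizer ({z} : Set G)) where
  carrier := {c | ∃ h : c ∈ Q, InL (D.π ⟨c, h⟩)}
  one_mem' := ⟨one_mem _, by
    rw [show D.π ⟨1, one_mem _⟩ = 0 from (D.π_eq_zero _).2 (Or.inl rfl)]; exact ⟨rfl, rfl, rfl⟩⟩
  mul_mem' := by
    rintro a b ⟨ha, ha'⟩ ⟨hb, hb'⟩
    refine ⟨mul_mem ha hb, ?_⟩
    rw [show (⟨a * b, mul_mem ha hb⟩ : Q) = ⟨a, ha⟩ * ⟨b, hb⟩ from rfl, D.π_mul]
    exact inL_add ha' hb'
  inv_mem' := by
    rintro a ⟨ha, ha'⟩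
    refine ⟨inv_mem ha, ?_⟩
    have h : D.π (⟨a, ha⟩⁻¹ * ⟨a, ha⟩ : Q) = 0 := (D.π_eq_zero _).2 (Or.inl (by rw [inv_mul_cancel]; rfl))
    rw [D.π_mul] at h
    have : ∀ u v : V6, u + v = 0 → u = v := fun u v e => funext fun i =>
      (by decide +kernel : ∀ x y : F4, x + y = 0 → x = y) _ _ (congrFun e i)
    rw [show (⟨a⁻¹, inv_mem ha⟩ : Q) = ⟨a, ha⟩⁻¹ from rfl, this _ _ h]
    exact ha'

theorem planeLift_le : D.planeLift ≤ Q := fun _ h => h.1

theorem mem_planeLift {a : Q} : (a : centralizer ({z} : Set G)) ∈ D.planeLift ↔ InL (D.π a) :=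
  ⟨fun ⟨_, h⟩ => h, fun h => ⟨a.2, h⟩⟩

theorem planeLift_sq {a : centralizer ({z} : Set G)} (ha : a ∈ D.planeLift) : a * a = 1 := by
  obtain ⟨h, h'⟩ := ha
  exact congrArg Subtype.val ((D.sq_iff ⟨a, h⟩).2 (qn_inL h'))

theorem planeLift_comm {a b : centralizer ({z} : Set G)} (ha : a ∈ D.planeLift) (hb : b ∈ D.planeLift) :
    a * b = b * a := by
  obtain ⟨ha, ha'⟩ := ha
  obtain ⟨hb, hb'⟩ := hb
  refine congrArg Subtype.val ((D.comm_iff ⟨a, ha⟩ ⟨b, hb⟩).2 ?_)
  rw [qn_inL (inL_add ha' hb'), qn_inL ha', qn_inL hb', add_zero]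

include D in
theorem card_planeLift : Nat.card D.planeLift = 2 ^ 7 := by
  classical
  let f : D.planeLift → {v : V6 // InL v} := fun a => ⟨D.π ⟨a.1, D.planeLift_le a.2⟩, D.mem_planeLift.1 a.2⟩
  have hL : Nat.card {v : V6 // InL v} = 64 := by
    let e : {v : V6 // InL v} ≃ F4 × F4 × F4 :=
      { toFun := fun v => (v.1 0, v.1 1, v.1 4)
        invFun := fun t => ⟨![t.1, t.2.1, t.1, t.2.1, t.2.2, t.2.2], rfl, rfl, rfl⟩
        left_inv := fun v => Subtype.ext (funext fun i => by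
          fin_cases i
          exacts [rfl, rfl, v.2.1, v.2.2.1, rfl, v.2.2.2])
        right_inv := fun t => rfl }
    rw [Nat.card_congr e, Nat.card_prod, Nat.card_prod, Nat.card_eq_fintype_card, card_F4]
  have hfib : ∀ v, Nat.card {a : D.planeLift // f a = v} = 2 := by
    rintro ⟨v, hv⟩
    obtain ⟨a, ha⟩ := D.π_surj v
    have hz : (ZC : centralizer ({z} : Set G)) ∈ Q := D.zc_mem
    have hπz : D.π (a * ⟨ZC, hz⟩) = v := by
      rw [D.π_mul, (D.π_eq_zero ⟨ZC, hz⟩).2 (Or.inr rfl), add_zero, ha]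
    rw [Nat.card_eq_two_iff]
    refine ⟨⟨⟨a, D.mem_planeLift.2 (ha ▸ hv)⟩, Subtype.ext ha⟩,
      ⟨⟨(a * ⟨ZC, hz⟩ : Q), D.mem_planeLift.2 (hπz ▸ hv)⟩, Subtype.ext hπz⟩, fun e => D.zc_ne ?_, ?_⟩
    · have e' : (a : centralizer ({z} : Set G)) = a * ZC := congrArg (fun u => ((u.1 : D.planeLift) : centralizer ({z} : Set G))) e
      exact left_eq_mul.1 e'
    · refine Set.eq_univ_of_forall fun b => ?_
      have hb : D.π a = D.π ⟨b.1.1, D.planeLift_le b.1.2⟩ := ha.trans (congrArg Subtype.val b.2).symm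
      rcases D.eq_or_mul hb with h | h
      · exact Or.inl (Subtype.ext (Subtype.ext h))
      · exact Or.inr (Subtype.ext (Subtype.ext h))
  rw [← Nat.card_congr (Equiv.sigmaFiberEquiv f), Nat.card_sigma, Finset.sum_congr rfl fun v _ => hfib v,
    Finset.sum_const, Finset.card_univ, ← Nat.card_eq_fintype_card, hL]
  rfl

/-- The elementary abelian subgroup. -/
def bigA : Subgroup (centralizer ({z} : Set G)) :=
  D.T.planeFix.comap (QuotientGroup.mk' Q) ⊓ centralizer (D.planeLift : Set (centralizer ({z} : Set G)))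

theorem mem_bigA {c : centralizer ({z} : Set G)} : c ∈ D.bigA ↔
    QuotientGroup.mk c ∈ D.T.planeFix ∧ ∀ a ∈ D.planeLift, a * c = c * a :=
  ⟨fun h => ⟨(Subgroup.mem_inf.1 h).1, mem_centralizer_iff.1 (Subgroup.mem_inf.1 h).2⟩,
    fun h => Subgroup.mem_inf.2 ⟨h.1, mem_centralizer_iff.2 h.2⟩⟩

theorem mk_eq_one {c : centralizer ({z} : Set G)} (h : c ∈ Q) :
    (QuotientGroup.mk c : centralizer ({z} : Set G) ⧸ Q) = 1 := (QuotientGroup.eq_one_iff c).2 h

theorem planeLift_le_bigA : D.planeLift ≤ D.bigA := fun c hc => D.mem_bigA.2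
  ⟨by rw [mk_eq_one (D.planeLift_le hc)]; exact one_mem _, fun a ha => D.planeLift_comm ha hc⟩

theorem bigA_inf : ∀ c ∈ D.bigA, c ∈ Q → c ∈ D.planeLift := by
  intro c hc hcQ
  refine ⟨hcQ, herm_plane fun b hb => ?_⟩
  have key : ∀ b, InL b → trF (herm (D.π ⟨c, hcQ⟩) b) = 0 := by
    intro b hb
    obtain ⟨a, rfl⟩ := D.π_surj b
    have h := (D.comm_iff ⟨c, hcQ⟩ a).1 (Subtype.ext ((D.mem_bigA.1 hc).2 a (D.mem_planeLift.2 hb)).symm)
    rw [← polar_qn, h]
    generalize qn (D.π ⟨c, hcQ⟩) = x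
    generalize qn (D.π a) = y
    revert x y
    decide
  have hz : ∀ x : F4, trF x = 0 → trF (om * x) = 0 → x = 0 := by decide +kernel
  refine hz _ (key b hb) ?_
  have h2 := key ((om * om) • b) (inL_smul _ hb)
  have e : herm (D.π ⟨c, hcQ⟩) ((om * om) • b) = om * herm (D.π ⟨c, hcQ⟩) b := by
    simp only [herm, Pi.smul_apply, smul_eq_mul, Finset.mul_sum]
    refine Finset.sum_congr rfl fun i _ => ?_
    rw [show om * om * b i * (om * om * b i) = (om * om * (om * om)) * (b i * b i) by ring, f4_pow_four]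
    ring
  rwa [e] at h2

theorem exists_adjust {c : centralizer ({z} : Set G)} (hc : QuotientGroup.mk c ∈ D.T.planeFix) :
    ∃ d ∈ D.bigA, (QuotientGroup.mk d : centralizer ({z} : Set G) ⧸ Q) = QuotientGroup.mk c := by
  classical
  have hb : ∀ k : Fin 6, lBasis.getD k.val 0 ∈ lBasis := by decide
  choose a ha using fun k : Fin 6 => D.π_surj (dec (lBasis.getD k.val 0))
  have haL : ∀ k, InL (D.π (a k)) := fun k => by
    rw [ha]; exact inL_dec (basis_inL _ (hb k)).2 (basis_inL _ (hb k)).1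
  let flip : Fin 6 → Bool := fun k => decide (c * (a k : centralizer ({z} : Set G)) * c⁻¹ ≠ a k)
  obtain ⟨v, -, hv⟩ := dual_ok flip
  obtain ⟨q, hq⟩ := D.π_surj (dec v.val)
  refine ⟨q * c, D.mem_bigA.2 ⟨?_, ?_⟩, ?_⟩
  · rw [QuotientGroup.mk_mul, mk_eq_one q.2, one_mul]; exact hc
  · have hbase : ∀ k, (a k : centralizer ({z} : Set G)) * (q * c) = q * c * a k := by
      intro k
      have hca : c * (a k : centralizer ({z} : Set G)) * c⁻¹ = a k ∨
          c * (a k : centralizer ({z} : Set G)) * c⁻¹ = a k * ZC := by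
        have h := D.act c (a k)
        rw [hc _ (haL k)] at h
        exact D.eq_or_mul h.symm
      have hqa : (q : centralizer ({z} : Set G)) * a k * (q : centralizer ({z} : Set G))⁻¹ = a k ∨
          (q : centralizer ({z} : Set G)) * a k * (q : centralizer ({z} : Set G))⁻¹ = a k * ZC := by
        have h := D.act (q : centralizer ({z} : Set G)) (a k)
        rw [D.π_inner] at h
        exact D.eq_or_mul h.symm
      have hiff : (q : centralizer ({z} : Set G)) * a k * (q : centralizer ({z} : Set G))⁻¹ = a k ↔ flip k = false := by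
        rw [mul_inv_eq_iff_eq_mul]
        have h : (q : centralizer ({z} : Set G)) * a k = a k * q ↔ q * a k = a k * q :=
          ⟨fun e => Subtype.ext e, fun e => congrArg Subtype.val e⟩
        rw [h, D.comm_iff, hq, ha]
        have h2 := hv k
        generalize qn (dec v.val + dec (lBasis.getD k.val 0)) = X at h2 ⊢
        generalize qn (dec v.val) = Y at h2 ⊢
        generalize qn (dec (lBasis.getD k.val 0)) = W at h2 ⊢
        revert X Y W
        generalize flip k = b
        revert b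
        decide
      have hflip : flip k = false ↔ c * (a k : centralizer ({z} : Set G)) * c⁻¹ = a k := by simp [flip]
      have hzz : (ZC : centralizer ({z} : Set G)) * ZC = 1 := Subtype.ext D.pre.gen.sq
      have hfix : (q : centralizer ({z} : Set G)) * (c * a k * c⁻¹) * (q : centralizer ({z} : Set G))⁻¹ = a k := by
        by_cases hf : flip k = false
        · rw [hflip.1 hf]; exact hiff.2 hf
        · rw [hca.resolve_left fun e => hf (hflip.2 e)]
          have h := hqa.resolve_left fun e => hf (hiff.1 e)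
          calc (q : centralizer ({z} : Set G)) * (a k * ZC) * (q : centralizer ({z} : Set G))⁻¹ =
              (q : centralizer ({z} : Set G)) * a k * (ZC * (q : centralizer ({z} : Set G))⁻¹) := by group
            _ = (q : centralizer ({z} : Set G)) * a k * (q : centralizer ({z} : Set G))⁻¹ * ZC := by
              rw [zc_central]; group
            _ = a k := by rw [h, mul_assoc, hzz, mul_one]
      conv_lhs => rw [← hfix]
      group
    intro b hb'
    let K := centralizer ({(q : centralizer ({z} : Set G)) * c} : Set (centralizer ({z} : Set G)))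
    have hK : ∀ {x}, x ∈ K ↔ x * (q * c) = q * c * x := fun {x} => mem_centralizer_singleton_iff
    suffices hsum : ∀ (s : Finset (Fin 6)), ∃ w : Q, (w : centralizer ({z} : Set G)) ∈ K ∧
        D.π w = ∑ k ∈ s, D.π (a k) by
      obtain ⟨hbQ, hbL⟩ := hb'
      obtain ⟨x, hx, hxe⟩ := Std.vec_code (D.π ⟨b, hbQ⟩)
      have hxL := (inL_enc _).1 hbL
      rw [hxe] at hxL
      have hin := plane_gen x hxL
      rw [hx, ← Finset.sum_filter] at hin
      obtain ⟨w, hw, hwπ⟩ := hsum (Finset.univ.filter fun k : Fin 6 =>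
        x.val.testBit ([0, 1, 2, 3, 8, 9].getD k.val 0) = true)
      have he : D.π w = D.π ⟨b, hbQ⟩ := by
        rw [hwπ, ← hin]; exact Finset.sum_congr rfl fun k _ => ha k
      refine hK.1 ?_
      rcases D.eq_or_mul he with h | h
      · rw [show b = _ from h]; exact hw
      · rw [show b = _ from h]; exact mul_mem hw (hK.2 (zc_central _))
    intro s
    induction s using Finset.induction with
    | empty => exact ⟨1, one_mem _, by rw [Finset.sum_empty]; exact (D.π_eq_zero 1).2 (Or.inl rfl)⟩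
    | insert k s hk ih =>
      obtain ⟨w, hw, hwπ⟩ := ih
      exact ⟨a k * w, mul_mem (hK.2 (hbase k)) hw, by rw [D.π_mul, Finset.sum_insert hk, hwπ]⟩
  · rw [QuotientGroup.mk_mul, mk_eq_one q.2, one_mul]

theorem bigA_normalised {n : centralizer ({z} : Set G)} (hn : QuotientGroup.mk n ∈ D.T.planeStab)
    {a : centralizer ({z} : Set G)} (ha : a ∈ D.bigA) : n * a * n⁻¹ ∈ D.bigA := by
  have hL : ∀ m : centralizer ({z} : Set G), QuotientGroup.mk m ∈ D.T.planeStab →
      ∀ b ∈ D.planeLift, m * b * m⁻¹ ∈ D.planeLift := by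
    rintro m hm b ⟨hb, hb'⟩
    refine ⟨Subgroup.Normal.conj_mem inferInstance b hb m, ?_⟩
    have h := D.act m ⟨b, hb⟩
    have e : MulAut.conjNormal m (⟨b, hb⟩ : Q) = ⟨m * b * m⁻¹, Subgroup.Normal.conj_mem inferInstance b hb m⟩ :=
      Subtype.ext rfl
    rw [← e, h]
    exact (hm _).1 hb'
  obtain ⟨ha1, ha2⟩ := D.mem_bigA.1 ha
  refine D.mem_bigA.2 ⟨?_, fun b hb => ?_⟩
  · rw [QuotientGroup.mk_mul, QuotientGroup.mk_mul, QuotientGroup.mk_inv]
    intro v hv
    rw [r_mul, r_mul, ha1 _ ((inv_mem hn v).1 hv), ← r_mul, mul_inv_cancel, r_one]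
  · have hb' : n⁻¹ * b * n ∈ D.planeLift := by
      have := hL n⁻¹ (by rw [QuotientGroup.mk_inv]; exact inv_mem hn) b hb
      rwa [inv_inv] at this
    calc b * (n * a * n⁻¹) = n * (n⁻¹ * b * n * a) * n⁻¹ := by group
      _ = n * (a * (n⁻¹ * b * n)) * n⁻¹ := by rw [ha2 _ hb']
      _ = n * a * n⁻¹ * b := by group

section tables

variable (hf : ∃ f ∈ D.T.M, D.T.Rep f (gn 2))
  (hinv : ∃ u, u * D.T.x * u⁻¹ = D.T.x⁻¹)
include hf hinv

theorem map_bigA : D.bigA.map (QuotientGroup.mk' Q) = D.T.planeFix := by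
  refine le_antisymm (map_le_iff_le_comap.2 inf_le_left) fun x hx => ?_
  obtain ⟨c, rfl⟩ := QuotientGroup.mk_surjective x
  obtain ⟨d, hd, hdc⟩ := D.exists_adjust hx
  exact ⟨d, hd, hdc⟩

theorem card_bigA : Nat.card D.bigA = 2 ^ 11 := by
  let f := (QuotientGroup.mk' Q).comp D.bigA.subtype
  have h := Subgroup.card_mul_index f.ker
  rw [Subgroup.index_ker, show f.range = D.bigA.map (QuotientGroup.mk' Q) by
    rw [MonoidHom.range_comp, range_subtype], D.map_bigA hf hinv, (Std.planeFix_card hf hinv).1] at h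
  have hk : Nat.card f.ker = 2 ^ 7 := by
    rw [← D.card_planeLift]
    refine Nat.card_congr
      { toFun := fun a => ⟨a.1.1, D.bigA_inf _ a.1.2 ((QuotientGroup.eq_one_iff _).1 (MonoidHom.mem_ker.1 a.2))⟩
        invFun := fun a => ⟨⟨a.1, D.planeLift_le_bigA a.2⟩,
          MonoidHom.mem_ker.2 ((QuotientGroup.eq_one_iff _).2 (D.planeLift_le a.2))⟩
        left_inv := fun a => rfl
        right_inv := fun a => rfl }
  rw [← h, hk]
  norm_num

theorem sq_central {a : centralizer ({z} : Set G)} (ha : a ∈ D.bigA) : a * a = 1 ∨ a * a = ZC := by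
  have hP : QuotientGroup.mk a ∈ D.T.planeFix := (D.mem_bigA.1 ha).1
  have hQ : a * a ∈ Q := by
    rw [← QuotientGroup.eq_one_iff, QuotientGroup.mk_mul]
    exact D.T.planeFix_sq hP
  have hl := D.bigA_inf _ (mul_mem ha ha) hQ
  obtain ⟨c, hc⟩ := QuotientGroup.mk_surjective D.T.x
  have hxs : QuotientGroup.mk c ∈ D.T.planeStab := by
    intro v
    rw [hc, D.T.x_act]
    refine ⟨inL_smul om, fun h => ?_⟩
    have := inL_smul (om * om) h
    rwa [smul_smul, show om * om * om = 1 by decide +kernel, one_smul] at this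
  have hca := D.bigA_normalised hxs ha
  have hd : a⁻¹ * (c * a * c⁻¹) ∈ D.planeLift := by
    refine D.bigA_inf _ (mul_mem (inv_mem ha) hca) ?_
    rw [← QuotientGroup.eq_one_iff]
    simp only [QuotientGroup.mk_mul, QuotientGroup.mk_inv, hc]
    rw [← D.T.central _ (D.T.linear_mem hinv (D.T.planeFix_linear hP)), mul_inv_cancel_right, inv_mul_cancel]
  have hfix : c * (a * a) * c⁻¹ = a * a := by
    set l := a⁻¹ * (c * a * c⁻¹) with hldef
    have hcomm : l * a = a * l := (D.mem_bigA.1 ha).2 l hd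
    have e : c * a * c⁻¹ = a * l := by rw [hldef]; group
    calc c * (a * a) * c⁻¹ = c * a * c⁻¹ * (c * a * c⁻¹) := by group
      _ = a * (l * a) * l := by rw [e]; group
      _ = a * a := by rw [hcomm, mul_assoc a (a * l) l, mul_assoc a l l, D.planeLift_sq hd, mul_one]
  have h := D.act c ⟨a * a, hQ⟩
  rw [show MulAut.conjNormal c (⟨a * a, hQ⟩ : Q) = ⟨a * a, hQ⟩ from Subtype.ext hfix, hc, D.T.x_act] at h
  rcases (D.π_eq_zero _).1 (Std.om_fix h.symm) with e | e
  · exact Or.inl (Subtype.ext e)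
  · exact Or.inr (Subtype.ext e)

theorem bigA_sq {a : centralizer ({z} : Set G)} (ha : a ∈ D.bigA) : a * a = 1 := by
  classical
  have hzc := zc_central (z := z)
  have hzz : (ZC : centralizer ({z} : Set G)) * ZC = 1 := Subtype.ext D.pre.gen.sq
  have step : ∀ e : centralizer ({z} : Set G), (e = 1 ∨ e = ZC) →
      ∀ g ∈ D.T.planeStab, ∀ b ∈ D.T.planeFix,
        (∀ a ∈ D.bigA, QuotientGroup.mk a = b → a * a = e) →
        ∀ a ∈ D.bigA, QuotientGroup.mk a = g * b * g⁻¹ → a * a = e := by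
    intro e he g hg b hb hP a ha hab
    obtain ⟨n, rfl⟩ := QuotientGroup.mk_surjective g
    have hn' : QuotientGroup.mk n⁻¹ ∈ D.T.planeStab := by rw [QuotientGroup.mk_inv]; exact inv_mem hg
    have h := hP (n⁻¹ * a * n) (by have := D.bigA_normalised hn' ha; rwa [inv_inv] at this) (by
      simp only [QuotientGroup.mk_mul, QuotientGroup.mk_inv, hab]; group)
    have hne : n * e * n⁻¹ = e := by
      rcases he with rfl | rfl
      · group
      · rw [← hzc, mul_inv_cancel_right]
    rw [← hne, ← h]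
    group
  have hzero : ∀ a ∈ D.bigA, (QuotientGroup.mk a : centralizer ({z} : Set G) ⧸ Q) = 1 → a * a = 1 :=
    fun a ha h => D.planeLift_sq (D.bigA_inf _ ha ((QuotientGroup.eq_one_iff _).1 h))
  have same : ∀ a ∈ D.bigA, ∀ a' ∈ D.bigA,
      (QuotientGroup.mk a : centralizer ({z} : Set G) ⧸ Q) = QuotientGroup.mk a' → a * a = a' * a' := by
    intro a ha a' ha' h
    have hl : a⁻¹ * a' ∈ D.planeLift := D.bigA_inf _ (mul_mem (inv_mem ha) ha') (by
      rw [← QuotientGroup.eq_one_iff, QuotientGroup.mk_mul, QuotientGroup.mk_inv, h, inv_mul_cancel])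
    have hc : (a⁻¹ * a') * a = a * (a⁻¹ * a') := (D.mem_bigA.1 ha).2 _ hl
    calc a * a = a * (a * ((a⁻¹ * a') * (a⁻¹ * a'))) := by rw [D.planeLift_sq hl, mul_one]
      _ = a * ((a⁻¹ * a') * a) * (a⁻¹ * a') := by rw [hc]; group
      _ = a' * a' := by group
  -- every non-trivial image has the same square
  obtain ⟨b1, hb1, hb11, hspread⟩ := Std.planeFix_spread hf hinv
  obtain ⟨a1, ha1, ha1b⟩ : b1 ∈ D.bigA.map (QuotientGroup.mk' Q) := by rwa [D.map_bigA hf hinv]
  have he := D.sq_central hf hinv ha1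
  have hz : ∀ a ∈ D.bigA, (QuotientGroup.mk a : centralizer ({z} : Set G) ⧸ Q) ≠ 1 → a * a = a1 * a1 :=
    fun a ha h => hspread (fun b => ∀ a ∈ D.bigA, QuotientGroup.mk a = b → a * a = a1 * a1) (step _ he)
      (fun a ha hab => same a ha a1 ha1 (hab.trans ha1b.symm)) _ (D.mem_bigA.1 ha).1 h a ha rfl
  by_cases h : (QuotientGroup.mk a : centralizer ({z} : Set G) ⧸ Q) = 1
  · exact hzero a ha h
  rw [hz a ha h]
  refine he.resolve_right fun he => ?_
  -- otherwise three independent elements contradict one another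
  have hcomm : ∀ u ∈ D.bigA, ∀ v ∈ D.bigA, (QuotientGroup.mk u : centralizer ({z} : Set G) ⧸ Q) ≠ 1 →
      (QuotientGroup.mk v : centralizer ({z} : Set G) ⧸ Q) ≠ 1 →
      (QuotientGroup.mk u : centralizer ({z} : Set G) ⧸ Q) ≠ QuotientGroup.mk v → v * u = u * v * ZC := by
    intro u hu v hv hu1 hv1 huv
    have h3 : (QuotientGroup.mk (u * v) : centralizer ({z} : Set G) ⧸ Q) ≠ 1 := by
      rw [QuotientGroup.mk_mul]
      intro e
      refine huv (mul_right_cancel (b := QuotientGroup.mk v) (e.trans ?_))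
      exact (D.T.planeFix_sq (D.mem_bigA.1 hv).1).symm
    have e1 := hz u hu hu1
    have e2 := hz v hv hv1
    have e3 := hz _ (mul_mem hu hv) h3
    rw [he] at e1 e2 e3
    have i1 : u⁻¹ = u * ZC := inv_eq_of_mul_eq_one_right (by rw [← mul_assoc, e1, hzz])
    have i2 : v⁻¹ = v * ZC := inv_eq_of_mul_eq_one_right (by rw [← mul_assoc, e2, hzz])
    calc v * u = u⁻¹ * ((u * v) * (u * v)) * v⁻¹ := by group
      _ = u * (ZC * ZC) * (v * ZC) := by rw [e3, i1, i2, mul_assoc u ZC ZC]
      _ = u * v * ZC := by rw [hzz, mul_one, mul_assoc]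
  obtain ⟨p, hp, hp1, q, hq, hq1, r, hr, hr1, hpq, hrp, hrq, hrpq⟩ :
      ∃ p ∈ D.T.planeFix, p ≠ 1 ∧ ∃ q ∈ D.T.planeFix, q ≠ 1 ∧ ∃ r ∈ D.T.planeFix, r ≠ 1 ∧
        p ≠ q ∧ r ≠ p ∧ r ≠ q ∧ r ≠ p * q := by
    have pick : ∀ l : Finset (centralizer ({z} : Set G) ⧸ Q), l.card < 16 → ∃ r ∈ D.T.planeFix, r ∉ l := by
      intro l hl
      by_contra hno
      push Not at hno
      have := Nat.card_le_card_of_injective (fun r : D.T.planeFix => (⟨r.1, hno r.1 r.2⟩ : l))
        fun x y e => Subtype.ext (congrArg (fun u : l => (u : centralizer ({z} : Set G) ⧸ Q)) e)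
      rw [(Std.planeFix_card hf hinv).1, Nat.card_eq_fintype_card, Fintype.card_coe] at this
      omega
    obtain ⟨p, hp, hp'⟩ := pick {1} (by simp)
    obtain ⟨q, hq, hq'⟩ := pick {1, p} (Finset.card_le_two.trans_lt (by norm_num))
    obtain ⟨r, hr, hr'⟩ := pick {1, p, q, p * q} (Finset.card_le_four.trans_lt (by norm_num))
    simp only [Finset.mem_insert, Finset.mem_singleton, not_or] at hp' hq' hr'
    exact ⟨p, hp, hp', q, hq, hq'.1, r, hr, hr'.1, fun e => hq'.2 e.symm, hr'.2.1, hr'.2.2.1, hr'.2.2.2⟩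
  have lift : ∀ b ∈ D.T.planeFix, ∃ a ∈ D.bigA, QuotientGroup.mk a = b := fun b hb => by
    have : b ∈ D.bigA.map (QuotientGroup.mk' Q) := by rwa [D.map_bigA hf hinv]
    exact this
  obtain ⟨u, hu, rfl⟩ := lift p hp
  obtain ⟨v, hv, rfl⟩ := lift q hq
  obtain ⟨w, hw, rfl⟩ := lift r hr
  have c1 := hcomm w hw u hu hr1 hp1 hrp
  have c2 := hcomm w hw v hv hr1 hq1 hrq
  have c3 := hcomm w hw (u * v) (mul_mem hu hv) hr1 (by
    rw [QuotientGroup.mk_mul]
    intro e
    refine hpq (mul_right_cancel (b := QuotientGroup.mk v) (e.trans ?_))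
    exact (D.T.planeFix_sq (D.mem_bigA.1 hv).1).symm) (by rwa [QuotientGroup.mk_mul])
  refine D.zc_ne (mul_left_cancel (a := w * (u * v)) ?_)
  rw [mul_one, ← c3]
  calc u * v * w = u * (v * w) := mul_assoc _ _ _
    _ = (u * w) * (v * ZC) := by rw [c2]; group
    _ = w * u * (ZC * v * ZC) := by rw [c1]; group
    _ = w * u * (v * (ZC * ZC)) := by rw [hzc]; group
    _ = w * (u * v) := by rw [hzz, mul_one, mul_assoc]

end tables

end Dat

end CfsgLib.FiLarge
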