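import Cfsg.Agent.FiLarge.ElevenGroup

/-!
Every elementary abelian 2-subgroup has order at most `2 ^ 11`, with one subgroup attaining it.
-/

set_option autoImplicit false
set_option maxHeartbeats 1000000

namespace CfsgLib.FiLarge

open CfsgLib Subgroup Eleven Std

variable {G : Type*} [Group G] [Finite G] {z : G} {Q : Subgroup (centralizer ({z} : Set G))} [Q.Normal]

namespace Dat

local notation "ZC" => (zc (z := z))

variable (D : Dat z Q) (hf : ∃ f ∈ D.T.M, D.T.Rep f (gn 2))
  (hinv : ∃ u, u * D.T.x * u⁻¹ = D.T.x⁻¹)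

include D in
theorem elementary_inter_le {K : Subgroup (centralizer ({z} : Set G))} (hK : K ≤ Q)
    (hc : ∀ a ∈ K, ∀ b ∈ K, a * b = b * a) : Nat.card K ≤ 2 ^ 7 := by
  classical
  set R0 := K ⊔ zpowers (ZC : centralizer ({z} : Set G))
  have hR0 : R0 ≤ Q := sup_le hK (zpowers_le.2 D.zc_mem)
  have hcz : ∀ c : centralizer ({z} : Set G), (ZC : centralizer ({z} : Set G)) ∈
      centralizer ({c} : Set (centralizer ({z} : Set G))) := fun c =>
    mem_centralizer_singleton_iff.2 (zc_central c)
  have hab : R0 ≤ centralizer (R0 : Set (centralizer ({z} : Set G))) := by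
    refine sup_le ?_ (zpowers_le.2 (mem_centralizer_iff.2 fun b _ => (zc_central b).symm))
    refine le_centralizer_iff.1 (sup_le ?_ (zpowers_le.2 ?_))
    · exact fun a ha => mem_centralizer_iff.2 fun b hb => hc b hb a ha
    · exact mem_centralizer_iff.2 fun b _ => (zc_central b).symm
  set R := R0.map (centralizer ({z} : Set G)).subtype
  have hRle : R ≤ Q.map (centralizer ({z} : Set G)).subtype ⊓ centralizer ((R : Subgroup G) : Set G) := by
    refine le_inf (map_mono hR0) ?_
    rintro _ ⟨a, ha, rfl⟩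
    refine mem_centralizer_iff.2 ?_
    rintro _ ⟨b, hb, rfl⟩
    exact congrArg Subtype.val (mem_centralizer_iff.1 (hab ha) b hb)
  have hzR : z ∈ R := ⟨ZC, mem_sup_right (mem_zpowers _), rfl⟩
  have h := Extra2.card_mul_card_centralizer D.pre.gen hzR (map_mono hR0)
  have h2 := Subgroup.card_le_of_le hRle
  rw [D.card_QG] at h
  have h3 : Nat.card K ≤ Nat.card R := by
    rw [card_map_of_injective (centralizer ({z} : Set G)).subtype_injective]
    exact Subgroup.card_le_of_le le_sup_left
  nlinarith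

variable {Y : Subgroup (centralizer ({z} : Set G))}

include D in
theorem card_inter_le (hY : ∀ a ∈ Y, ∀ b ∈ Y, a * b = b * a) (U : Finset V6)
    (hU : ∀ a : Q, (a : centralizer ({z} : Set G)) ∈ Y → D.π a ∈ U) :
    Nat.card ↥(Y ⊓ Q) ≤ 2 * U.card := by
  classical
  have hmem : ∀ a : ↥(Y ⊓ Q), (a : centralizer ({z} : Set G)) ∈ Q := fun a => (Subgroup.mem_inf.1 a.2).2
  let f : ↥(Y ⊓ Q) → U := fun a => ⟨D.π ⟨a.1, hmem a⟩, hU ⟨a.1, hmem a⟩ (Subgroup.mem_inf.1 a.2).1⟩
  haveI := Fintype.ofFinite ↥(Y ⊓ Q)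
  rw [Nat.card_eq_fintype_card]
  have h := Finset.card_le_mul_card_image (Finset.univ : Finset ↥(Y ⊓ Q)) (f := f) 2 fun v hv => by
    obtain ⟨a, -, rfl⟩ := Finset.mem_image.1 hv
    by_contra hgt
    push Not at hgt
    obtain ⟨x, hx, y, hy, w, hw, hxy, hxw, hyw⟩ := Finset.two_lt_card.1 hgt
    have key : ∀ b, b ∈ Finset.univ.filter (fun b => f b = f a) →
        (b : centralizer ({z} : Set G)) = a ∨ (b : centralizer ({z} : Set G)) = a * ZC := fun b hb =>
      D.eq_or_mul (a := ⟨a.1, hmem a⟩) (b := ⟨b.1, hmem b⟩)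
        (congrArg Subtype.val (Finset.mem_filter.1 hb).2).symm
    rcases key x hx with h1 | h1 <;> rcases key y hy with h2 | h2 <;> rcases key w hw with h3 | h3
    all_goals first
      | exact hxy (Subtype.ext (h1.trans h2.symm))
      | exact hxw (Subtype.ext (h1.trans h3.symm))
      | exact hyw (Subtype.ext (h2.trans h3.symm))
  rw [Finset.card_univ] at h
  exact h.trans (Nat.mul_le_mul_left 2 (Finset.card_le_univ _ |>.trans_eq (Fintype.card_coe U)))

include hf hinv

theorem max_main (hY : ∀ a ∈ Y, ∀ b ∈ Y, a * b = b * a) (hsq : ∀ a ∈ Y, a * a = 1)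
    (hS : Y.map (QuotientGroup.mk' Q) ⊓ D.T.M ≤ Std.syl hf) :
    Nat.card Y ≤ 2 ^ 11 ∧ (Nat.card Y = 2 ^ 11 → Y = D.bigA) := by
  classical
  set B := Y.map (QuotientGroup.mk' Q)
  set B0 := B ⊓ D.T.M
  have hYc : Nat.card Y = Nat.card B * Nat.card ↥(Y ⊓ Q) := by
    let f := (QuotientGroup.mk' Q).comp Y.subtype
    have h := Subgroup.card_mul_index f.ker
    rw [Subgroup.index_ker, show f.range = B by rw [MonoidHom.range_comp, range_subtype]] at h
    rw [← h, mul_comm]
    congr 1
    refine Nat.card_congr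
      { toFun := fun a => ⟨a.1.1, Subgroup.mem_inf.2 ⟨a.1.2, (QuotientGroup.eq_one_iff _).1 (MonoidHom.mem_ker.1 a.2)⟩⟩
        invFun := fun a => ⟨⟨a.1, (Subgroup.mem_inf.1 a.2).1⟩,
          MonoidHom.mem_ker.2 ((QuotientGroup.eq_one_iff _).2 (Subgroup.mem_inf.1 a.2).2)⟩
        left_inv := fun a => rfl
        right_inv := fun a => rfl }
  have hBc : ∀ a ∈ B, ∀ b ∈ B, a * b = b * a := by
    rintro _ ⟨a, ha, rfl⟩ _ ⟨b, hb, rfl⟩
    rw [← map_mul, hY a ha b hb, map_mul]
  have hBs : ∀ a ∈ B, a * a = 1 := by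
    rintro _ ⟨a, ha, rfl⟩
    rw [← map_mul, hsq a ha, map_one]
  obtain ⟨hB0le, hB016⟩ := Std.elem_cases hf hS (fun a ha b hb => hBc a (Subgroup.mem_inf.1 ha).1 b (Subgroup.mem_inf.1 hb).1)
    (fun a ha => hBs a (Subgroup.mem_inf.1 ha).1)
  have hB2 : Nat.card B ≤ 2 * Nat.card B0 := by
    haveI hMn : D.T.M.Normal := Subgroup.normal_of_index_eq_two D.T.idx
    have h1 := Nat.le_of_dvd (by rw [D.T.idx]; norm_num) (Subgroup.relIndex_dvd_index_of_normal D.T.M B)
    rw [D.T.idx] at h1
    have h2 : D.T.M.relIndex B * Nat.card ↥(B ⊓ D.T.M) = Nat.card B := card_split_inf B D.T.M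
    rw [← h2]
    exact Nat.mul_le_mul_right _ h1
  have hK := D.elementary_inter_le (inf_le_right : Y ⊓ Q ≤ Q)
    (fun a ha b hb => hY a (Subgroup.mem_inf.1 ha).1 b (Subgroup.mem_inf.1 hb).1)
  -- images of the intersection are fixed by everything
  have hfix : ∀ a : Q, (a : centralizer ({z} : Set G)) ∈ Y → ∀ b ∈ B, D.T.r b (D.π a) = D.π a := by
    rintro a ha _ ⟨y, hy, rfl⟩
    show D.T.r (QuotientGroup.mk y) _ = _
    rw [← D.act]
    congr 1
    exact Subtype.ext (by
      show y * (a : centralizer ({z} : Set G)) * y⁻¹ = a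
      rw [hY y hy a ha, mul_inv_cancel_right])
  let U : Finset V6 := Finset.univ.filter fun v => ∀ b ∈ B0, D.T.r b v = v
  let W : Finset V6 := Finset.univ.filter fun v => ∃ a : Q, (a : centralizer ({z} : Set G)) ∈ Y ∧ D.π a = v
  have hKW : Nat.card ↥(Y ⊓ Q) ≤ 2 * W.card :=
    D.card_inter_le hY W fun a ha => Finset.mem_filter.2 ⟨Finset.mem_univ _, a, ha, rfl⟩
  have hWU : W ⊆ U := fun v hv => by
    obtain ⟨-, a, ha, rfl⟩ := Finset.mem_filter.1 hv
    exact Finset.mem_filter.2 ⟨Finset.mem_univ _, fun b hb => hfix a ha b (Subgroup.mem_inf.1 hb).1⟩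
  have hWW : ¬ B ≤ D.T.M → W.card * W.card ≤ U.card := by
    intro hout
    obtain ⟨c, hcB, hcM⟩ := SetLike.not_le_iff_exists.1 hout
    have hc : c * D.T.x * c⁻¹ = D.T.x⁻¹ := (D.T.semi c).resolve_left fun h => hcM (D.T.linear_mem hinv h)
    have hcW : ∀ v ∈ W, D.T.r c v = v := fun v hv => by
      obtain ⟨-, a, ha, rfl⟩ := Finset.mem_filter.1 hv
      exact hfix a ha c hcB
    have hsub : (W ×ˢ W).image (fun p => p.1 + om • p.2) ⊆ U := by
      intro v hv
      obtain ⟨⟨a, b⟩, hab, rfl⟩ := Finset.mem_image.1 hv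
      obtain ⟨ha, hb⟩ := Finset.mem_product.1 hab
      refine Finset.mem_filter.2 ⟨Finset.mem_univ _, fun d hd => ?_⟩
      have hd' : d * D.T.x * d⁻¹ = D.T.x := mul_inv_eq_iff_eq_mul.2 (D.T.central d (Subgroup.mem_inf.1 hd).2)
      rw [map_add, D.T.semilinear hd', (Finset.mem_filter.1 (hWU ha)).2 d hd, (Finset.mem_filter.1 (hWU hb)).2 d hd]
    refine le_trans (le_of_eq ?_) (Finset.card_le_card hsub)
    rw [Finset.card_image_of_injOn, Finset.card_product]
    rintro ⟨a, b⟩ hab ⟨a', b'⟩ hab' (e : a + om • b = a' + om • b')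
    obtain ⟨ha, hb⟩ := Finset.mem_product.1 (Finset.mem_coe.1 hab)
    obtain ⟨ha', hb'⟩ := Finset.mem_product.1 (Finset.mem_coe.1 hab')
    have e2 := congrArg (D.T.r c) e
    rw [map_add, map_add, D.T.semilinear_inv hc, D.T.semilinear_inv hc, hcW a ha, hcW b hb, hcW a' ha', hcW b' hb'] at e2
    have hpt : ∀ x y x' y' : F4, x + om * y = x' + om * y' → x + om * om * y = x' + om * om * y' → x = x' ∧ y = y' := by
      decide +kernel
    have h := fun i => hpt _ _ _ _ (congrFun e i) (congrFun e2 i)
    exact Prod.ext (funext fun i => (h i).1) (funext fun i => (h i).2)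
  rw [hYc]
  have hpow : ∃ k, Nat.card B0 = 2 ^ k := by
    haveI : Fact (Nat.Prime 2) := ⟨Nat.prime_two⟩
    refine IsPGroup.iff_card.1 fun b => ⟨1, Subtype.ext ?_⟩
    rw [pow_one, pow_two]
    exact hBs b.1 (Subgroup.mem_inf.1 b.2).1
  obtain ⟨k, hk⟩ := hpow
  have hin : B ≤ D.T.M → Nat.card B = Nat.card B0 := fun h => by rw [show B0 = B from inf_eq_left.2 h]
  have hk4 : k ≤ 4 := by
    rw [hk] at hB0le
    exact (Nat.pow_le_pow_iff_right (a := 2) one_lt_two).1 (hB0le.trans (by norm_num))
  by_cases hk4' : k = 4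
  · -- maximal rank
    subst hk4'
    rcases hB016 hk with hP | hE
    · have hU : U ⊆ Finset.univ.filter fun v => InL v := fun v hv => Finset.mem_filter.2
        ⟨Finset.mem_univ _, (Std.fixed_small hf (Finset.mem_filter.1 hv).2).1 hP⟩
      have hU64 : U.card ≤ 64 := (Finset.card_le_card hU).trans (by
        rw [show (Finset.univ.filter fun v : V6 => InL v) =
          (Finset.univ : Finset (F4 × F4 × F4)).image fun t => ![t.1, t.2.1, t.1, t.2.1, t.2.2, t.2.2] by
            ext v
            simp only [Finset.mem_filter, Finset.mem_univ, true_and, Finset.mem_image]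
            constructor
            · intro h
              refine ⟨(v 0, v 1, v 4), funext fun i => ?_⟩
              fin_cases i
              exacts [rfl, rfl, h.1, h.2.1, rfl, h.2.2]
            · rintro ⟨t, rfl⟩
              exact ⟨rfl, rfl, rfl⟩]
        refine Finset.card_image_le.trans ?_
        simp [card_F4])
      by_cases hout : B ≤ D.T.M
      · rw [hin hout, hk]
        refine ⟨by omega, fun heq => ?_⟩
        have hYA : Y ≤ D.bigA := by
          have hsubK : Y ⊓ Q ≤ D.planeLift := fun a ha => by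
            obtain ⟨haY, haQ⟩ := Subgroup.mem_inf.1 ha
            exact ⟨haQ, (Finset.mem_filter.1 (hU (hWU (Finset.mem_filter.2 ⟨Finset.mem_univ _, ⟨a, haQ⟩, haY, rfl⟩)))).2⟩
          have hEq : Y ⊓ Q = D.planeLift :=
            Subgroup.eq_of_le_of_card_ge hsubK (by rw [D.card_planeLift]; omega)
          intro y hy
          refine D.mem_bigA.2 ⟨?_, fun a ha => hY a (Subgroup.mem_inf.1 (hEq ▸ ha)).1 y hy⟩
          have hyB : (QuotientGroup.mk y : centralizer ({z} : Set G) ⧸ Q) ∈ B := ⟨y, hy, rfl⟩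
          have hle : D.T.planeFix ≤ B := fun b hb => by
            obtain ⟨i, hi, rfl⟩ := (Std.planeFix_card hf hinv).2.2 b hb
            exact (Subgroup.mem_inf.1 (hP i hi)).1
          rwa [Subgroup.eq_of_le_of_card_ge hle (by rw [hin hout, hk, (Std.planeFix_card hf hinv).1]; norm_num)]
        refine Subgroup.eq_of_le_of_card_ge hYA (le_of_eq ?_)
        rw [D.card_bigA hf hinv, hYc, hin hout, hk]
        exact heq.symm
      · have h := hWW hout
        have hW : W.card ≤ 8 := by nlinarith
        constructor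
        · nlinarith
        · intro heq; exfalso; nlinarith
    · have hU : U ⊆ lineFix.toFinset.image dec := fun v hv => Finset.mem_image.2
        ⟨enc v, List.mem_toFinset.2 ((Std.fixed_small hf (Finset.mem_filter.1 hv).2).2 hE), (dec_enc v).1⟩
      have hU4 : U.card ≤ 4 := (Finset.card_le_card hU).trans (Finset.card_image_le.trans
        ((List.toFinset_card_le _).trans lineFix_len.le))
      have hW4 : W.card ≤ 4 := (Finset.card_le_card hWU).trans hU4
      rw [hk] at hB2
      constructor
      · nlinarith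
      · intro heq; exfalso; nlinarith
  · have hk3 : Nat.card B0 ≤ 2 ^ 3 := hk ▸ Nat.pow_le_pow_right (by norm_num) (by omega)
    by_cases hout : B ≤ D.T.M
    · rw [hin hout]
      constructor
      · nlinarith
      · intro heq; exfalso; nlinarith
    · by_cases hk0 : k = 0
      · subst hk0
        rw [hk] at hB2
        constructor
        · nlinarith
        · intro heq; exfalso; nlinarith
      -- a non-trivial linear element moves some vector
      have hne : B0 ≠ ⊥ := fun e => by
        rw [e, Subgroup.card_bot] at hk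
        have := Nat.one_lt_two_pow hk0
        omega
      obtain ⟨b, hb, hb1⟩ := (Subgroup.bot_or_exists_ne_one B0).resolve_left hne
      obtain ⟨v, hv⟩ : ∃ v, D.T.r b v ≠ v := by
        by_contra hno
        push Not at hno
        exact hb1 (D.T.inj (LinearEquiv.ext fun v => by rw [hno v, map_one]; rfl))
      have hU2 : 2 * U.card ≤ 4096 := by
        have hdis : Disjoint U (U.image (v + ·)) := by
          refine Finset.disjoint_left.2 fun u hu hu' => hv ?_
          obtain ⟨w, hw, rfl⟩ := Finset.mem_image.1 hu'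
          have h := (Finset.mem_filter.1 hu).2 b hb
          rw [map_add, (Finset.mem_filter.1 hw).2 b hb] at h
          exact add_right_cancel h
        have h := Finset.card_union_of_disjoint hdis
        rw [Finset.card_image_of_injective _ (add_right_injective v)] at h
        have h' := Finset.card_le_univ (U ∪ U.image (v + ·))
        rw [h, show Fintype.card V6 = 4096 by simp [card_F4]] at h'
        omega
      have h := hWW hout
      have hW : W.card ≤ 45 := by nlinarith
      constructor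
      · nlinarith
      · intro heq; exfalso; nlinarith

end Dat

end CfsgLib.FiLarge
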