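import Cfsg.Agent.FiLarge.Pair

/-!
Some element of the quotient inverts the scalar: otherwise it would contain transvections whose
product has order eleven.
-/

set_option autoImplicit false
set_option maxRecDepth 100000

namespace CfsgLib.FiLarge

open CfsgLib Subgroup

/-- The hermitian form. -/
def herm (a b : V6) : F4 := ∑ i, a i * (b i * b i)

/-- The trace to the prime field. -/
def trF (x : F4) : ZMod 2 := x.im

theorem trF_inj : ∀ x y : F4, trF x = trF y → trF (om * x) = trF (om * y) → x = y := by decide +kernel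

theorem trF_add (x y : F4) : trF (x + y) = trF x + trF y := rfl

theorem herm_smul (c : F4) (a b : V6) : herm (c • a) b = c * herm a b := by
  simp only [herm, Pi.smul_apply, smul_eq_mul, Finset.mul_sum, mul_assoc]

theorem herm_add (a b w : V6) : herm (a + b) w = herm a w + herm b w := by
  simp only [herm, Pi.add_apply, add_mul, Finset.sum_add_distrib]

theorem polar_qn (a b : V6) : qn (a + b) + qn a + qn b = trF (herm a b) := by
  have h : ∀ s : Finset (Fin 6), trF (∑ i ∈ s, a i * (b i * b i)) =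
      ∑ i ∈ s, trF (a i * (b i * b i)) := by
    intro s
    induction s using Finset.induction with
    | empty => rfl
    | insert j s hj ih => rw [Finset.sum_insert hj, Finset.sum_insert hj, trF_add, ih]
  rw [herm, h, qn, qn, qn, ← Finset.sum_add_distrib, ← Finset.sum_add_distrib]
  refine Finset.sum_congr rfl fun i _ => ?_
  exact (by decide +kernel : ∀ s t : F4, (if s + t = 0 then (0 : ZMod 2) else 1) +
    (if s = 0 then 0 else 1) + (if t = 0 then 0 else 1) = trF (s * (t * t))) (a i) (b i)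

theorem smul_split : ∀ c : F4, c = 0 ∨ c = 1 ∨ c = om ∨ c = om * om := by decide +kernel

namespace Std

variable {C : Type*} [Group C] (T : Std C)

theorem semilinear {c : C} (hc : c * T.x * c⁻¹ = T.x) (l : F4) (a : V6) :
    T.r c (l • a) = l • T.r c a := by
  have h : ∀ b, T.r c (om • b) = om • T.r c b := fun b => by
    rw [← T.x_act, ← T.x_act, ← LinearEquiv.mul_apply, ← LinearEquiv.mul_apply, ← map_mul, ← map_mul,
      mul_inv_eq_iff_eq_mul.1 hc]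
  rcases smul_split l with rfl | rfl | rfl | rfl
  · simp
  · simp
  · exact h a
  · rw [← smul_smul, ← smul_smul, h, h]

theorem semilinear_inv {c : C} (hc : c * T.x * c⁻¹ = T.x⁻¹) (l : F4) (a : V6) :
    T.r c (l • a) = (l * l) • T.r c a := by
  have h : ∀ b, T.r c (om • b) = (om * om) • T.r c b := fun b => by
    have e : ∀ u : V6, T.r T.x⁻¹ u = (om * om) • u := fun u => by
      conv_lhs => rw [show u = om • (om * om) • u by
        rw [smul_smul, show om * (om * om) = 1 by decide +kernel, one_smul]]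
      rw [← T.x_act, ← LinearEquiv.mul_apply, ← map_mul, inv_mul_cancel, map_one]
      rfl
    rw [← T.x_act, ← e, ← LinearEquiv.mul_apply, ← LinearEquiv.mul_apply, ← map_mul, ← map_mul,
      mul_inv_eq_iff_eq_mul.1 hc]
  rcases smul_split l with rfl | rfl | rfl | rfl
  · simp
  · simp
  · exact h a
  · rw [← smul_smul, h, h, smul_smul]

theorem herm_r {c : C} (hc : c * T.x * c⁻¹ = T.x) (a b : V6) :
    herm (T.r c a) (T.r c b) = herm a b := by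
  have h : ∀ u, trF (herm (T.r c u) (T.r c b)) = trF (herm u b) := fun u => by
    rw [← polar_qn, ← polar_qn, ← map_add, T.inv, T.inv, T.inv]
  refine trF_inj _ _ (h a) ?_
  rw [← herm_smul, ← herm_smul, ← T.semilinear hc, h]

end Std

/-- A transvection. -/
def tv (v a : V6) : V6 := a + herm a v • v

theorem tv_add (v a b : V6) : tv v (a + b) = tv v a + tv v b := by
  simp only [tv, herm_add, add_smul]; abel

theorem tv_smul (v a : V6) (c : F4) : tv v (c • a) = c • tv v a := by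
  simp only [tv, herm_smul, smul_add, smul_smul]

/-- The candidate matrix in twisted coordinates, from five circulant entries and a border entry. -/
def cmat (a : Fin 5 → F4) (c : F4) (i j : Fin 6) : F4 :=
  if hi : i.val < 5 then
    if hj : j.val < 5 then a (⟨j.val, hj⟩ - ⟨i.val, hi⟩) else 1 + (a 0 + a 1 + a 2 + a 3 + a 4)
  else if j.val < 5 then c else 1 + c

theorem cmat_rigid : ∀ (a : Fin 5 → F4) (c : F4),
    (∀ j : Fin 6, ∑ k, cmat a c 0 k * cmat a c k j = if 0 = j then 1 else 0) →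
    (∑ k, cmat a c 5 k * cmat a c k 5 = 1) →
    (∑ k, cmat a c k 0 * (cmat a c k 1 * cmat a c k 1) = 0) →
    (∀ i j, cmat a c i j = if i = j then 1 else 0) ∨
      ∀ i j, cmat a c i j = (if i = j then 1 else 0) + 1 := by decide +kernel

/-- The five cycle fixing the last point. -/
def rot5 : A6 := ⟨Equiv.swap 0 1 * Equiv.swap 1 2 * Equiv.swap 2 3 * Equiv.swap 3 4, Equiv.Perm.mem_alternatingGroup.2 (by decide)⟩

theorem rot5_spec : rot5 ^ 5 = 1 ∧ ∀ i, rot5.1 i = ![1, 2, 3, 4, 0, 5] i := by decide +kernel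

theorem rigid_shape (M : Fin 6 → Fin 6 → F4) (hshift : ∀ i j, M (rot5.1 i) (rot5.1 j) = M i j)
    (hrow : ∀ i, ∑ j, M i j = 1) : M = cmat (fun k => M 0 ⟨k.val, by omega⟩) (M 5 0) := by
  have h := fun i j => hshift i j
  simp only [rot5_spec.2] at h
  have e00 := h 0 0; have e01 := h 0 1; have e02 := h 0 2; have e03 := h 0 3; have e04 := h 0 4
  have e10 := h 1 0; have e11 := h 1 1; have e12 := h 1 2; have e13 := h 1 3; have e14 := h 1 4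
  have e20 := h 2 0; have e21 := h 2 1; have e22 := h 2 2; have e23 := h 2 3; have e24 := h 2 4
  have e30 := h 3 0; have e31 := h 3 1; have e32 := h 3 2; have e33 := h 3 3; have e34 := h 3 4
  have e50 := h 5 0; have e51 := h 5 1; have e52 := h 5 2; have e53 := h 5 3
  have e05 := h 0 5; have e15 := h 1 5; have e25 := h 2 5; have e35 := h 3 5
  simp only [Matrix.cons_val] at e00 e01 e02 e03 e04 e10 e11 e12 e13 e14 e20 e21 e22 e23 e24 e30 e31 e32 e33 e34 e50 e51 e52 e53 e05 e15 e25 e35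
  have r0 := hrow 0
  have r5 := hrow 5
  simp only [Fin.sum_univ_six] at r0 r5
  rw [e53, e52, e51, e50] at r5
  have h2 : ∀ x : F4, x + x = 0 := by decide +kernel
  have hb : M 0 5 = 1 + (M 0 0 + M 0 1 + M 0 2 + M 0 3 + M 0 4) := by
    conv_rhs => rw [← r0]
    rw [add_assoc _ (M 0 5), add_comm (M 0 5), ← add_assoc, h2, zero_add]
  have hd : M 5 5 = 1 + M 5 0 := by
    conv_rhs => rw [← r5]
    rw [h2, zero_add, h2, zero_add, add_assoc, add_comm (M 5 5), ← add_assoc, h2, zero_add]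
  funext i j
  fin_cases i <;> fin_cases j <;>
    simp [cmat, hb, hd, show (-1 : Fin 5) = 4 from rfl, show (-2 : Fin 5) = 3 from rfl,
      show (-3 : Fin 5) = 2 from rfl, show (-4 : Fin 5) = 1 from rfl, e00, e01, e02, e03, e04, e10, e11, e12, e13, e14, e20, e21, e22, e23, e24, e30, e31, e32,
      e33, e34, e50, e51, e52, e53, e05, e15, e25, e35]

/-- Decoding of a code. -/
def dec4 (c : ℕ) : F4 := if c = 0 then 0 else if c = 1 then 1 else if c = 2 then om else om * om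

/-- The five vectors, in the order of application. -/
def fiveVecs : List (List ℕ) := [[1, 0, 2, 1, 1, 0], [1, 2, 1, 3, 0, 0], [0, 1, 2, 1, 1, 0], [0, 1, 3, 2, 1, 0], [0, 1, 2, 2, 1, 0]]

/-- The vectors met along the cycles of the product, by unit vector. -/
def elevenTab : List (List (List ℕ)) := [[[1, 0, 0, 0, 0, 0], [0, 0, 2, 1, 1, 0], [0, 0, 2, 1, 1, 0], [0, 1, 0, 0, 0, 0], [0, 0, 3, 2, 1, 0], [0, 2, 0, 1, 3, 0], [2, 2, 3, 3, 1, 0], [3, 0, 2, 0, 1, 0], [3, 0, 2, 0, 1, 0], [3, 2, 3, 3, 3, 0], [3, 3, 1, 1, 2, 0], [0, 3, 0, 2, 1, 0], [1, 1, 1, 1, 1, 0], [1, 3, 2, 3, 3, 0], [1, 2, 1, 1, 2, 0], [1, 2, 1, 1, 2, 0], [0, 2, 3, 0, 3, 0], [2, 1, 1, 1, 3, 0], [2, 1, 1, 1, 3, 0], [2, 2, 3, 0, 0, 0], [2, 2, 3, 0, 0, 0], [2, 2, 3, 0, 0, 0], [2, 2, 3, 0, 0, 0], [2, 2, 3, 0, 0, 0], [2, 1, 1, 1, 3, 0], [2, 3, 2, 2, 1, 0], [2, 3, 2, 2, 1, 0], [3, 1, 3, 1, 1, 0], [3, 2, 2, 2, 2, 0],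 [3, 0, 3, 1, 0, 0], [3, 1, 1, 3, 1, 0], [1, 1, 2, 1, 3, 0], [3, 2, 0, 0, 3, 0], [3, 3, 2, 1, 2, 0], [3, 2, 1, 3, 3, 0], [3, 2, 1, 3, 3, 0], [3, 2, 1, 3, 3, 0], [1, 1, 3, 2, 3, 0], [1, 3, 0, 0, 1, 0], [1, 1, 1, 3, 3, 0], [1, 2, 0, 2, 0, 0], [2, 2, 1, 1, 3, 0], [2, 2, 1, 1, 3, 0], [2, 1, 0, 2, 0, 0], [2, 1, 0, 2, 0, 0], [2, 1, 0, 2, 0, 0], [2, 1, 0, 2, 0, 0], [0, 2, 2, 3, 0, 0], [0, 2, 2, 3, 0, 0], [0, 1, 0, 2, 3, 0], [0, 2, 1, 3, 0, 0], [0, 2, 1, 3, 0, 0], [1, 0, 0, 0, 0, 0], [1, 0, 0, 0, 0, 0], [1, 0, 0, 0, 0, 0], [1, 0, 0, 0, 0, 0]], [[0, 1, 0, 0, 0, 0], [0, 1, 0, 0, 0, 0], [3, 0, 3, 2, 0, 0], [3, 0, 3, 2, 0, 0], [3, 0, 3, 2, 0, 0], [3, 3, 2, 3, 3, 0], [1, 3, 1, 1, 1, 0], [1, 3, 1, 1, 1, 0], [1, 3, 1, 1, 1, 0], [1, 0, 3, 0, 2, 0], [1, 0, 3, 0, 2, 0], [0, 0, 1, 1, 3, 0], [3, 1, 2, 3, 3, 0], [3, 1, 2, 3, 3, 0], [3, 2, 0, 2, 0, 0], [3, 1, 1, 3, 3, 0], [3, 1, 1, 3, 3, 0],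 [3, 1, 1, 3, 3, 0], [3, 3, 2, 1, 1, 0], [3, 1, 3, 2, 3, 0], [3, 0, 1, 0, 2, 0], [1, 0, 2, 2, 0, 0], [1, 0, 2, 2, 0, 0], [1, 3, 3, 1, 3, 0], [1, 1, 2, 2, 1, 0], [1, 1, 2, 2, 1, 0], [2, 1, 3, 1, 2, 0], [2, 1, 3, 1, 2, 0], [2, 1, 3, 1, 2, 0], [2, 0, 0, 3, 3, 0], [2, 1, 2, 1, 2, 0], [2, 1, 2, 1, 2, 0], [3, 3, 3, 2, 2, 0], [3, 2, 1, 3, 3, 0], [3, 3, 2, 1, 2, 0], [3, 0, 3, 0, 1, 0], [3, 0, 3, 0, 1, 0], [3, 0, 3, 0, 1, 0], [3, 3, 2, 3, 2, 0], [3, 3, 2, 3, 2, 0], [3, 1, 1, 0, 0, 0], [3, 1, 1, 0, 0, 0], [2, 3, 0, 3, 0, 0], [2, 3, 0, 3, 0, 0], [2, 2, 3, 1, 1, 0], [2, 0, 0, 2, 3, 0], [1, 0, 1, 1, 0, 0], [3, 3, 3, 0, 0, 0], [3, 2, 1, 1, 1, 0], [3, 0, 0, 2, 3, 0], [3, 2, 3, 1, 1, 0], [2, 2, 1, 0, 0, 0], [0, 1, 3, 1, 0, 0], [0, 3, 0, 3, 2, 0], [0, 0, 2, 2, 1, 0], [0, 1, 0, 0, 0, 0]], [[0, 0, 1, 0, 0, 0], [3, 0, 0, 3, 3, 0], [1, 3, 2, 2, 3, 0], [1, 0, 3, 1, 0, 0], [1, 2, 2, 2, 2, 0],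 [1, 2, 2, 2, 2, 0], [1, 2, 2, 2, 2, 0], [0, 0, 3, 1, 2, 0], [0, 1, 1, 0, 3, 0], [0, 1, 1, 0, 3, 0], [0, 0, 3, 2, 2, 0], [2, 0, 0, 0, 0, 0], [0, 3, 2, 1, 0, 0], [0, 0, 3, 2, 3, 0], [0, 3, 1, 3, 0, 0], [0, 1, 2, 0, 2, 0], [3, 1, 3, 3, 1, 0], [1, 2, 1, 2, 1, 0], [1, 0, 2, 0, 3, 0], [1, 0, 2, 0, 3, 0], [1, 2, 1, 3, 1, 0], [1, 2, 1, 3, 1, 0], [1, 2, 1, 3, 1, 0], [1, 1, 0, 0, 2, 0], [1, 2, 2, 1, 1, 0], [1, 3, 0, 3, 0, 0], [3, 3, 3, 1, 2, 0], [3, 3, 3, 1, 2, 0], [3, 1, 0, 3, 0, 0], [3, 2, 2, 2, 3, 0], [3, 3, 0, 0, 2, 0], [2, 3, 2, 1, 3, 0], [2, 3, 2, 1, 3, 0], [2, 3, 2, 1, 3, 0], [2, 3, 2, 1, 3, 0], [2, 1, 1, 2, 1, 0], [0, 1, 2, 0, 3, 0], [1, 3, 3, 3, 3, 0], [1, 2, 1, 2, 2, 0], [1, 1, 3, 3, 1, 0], [1, 1, 3, 3, 1, 0], [0, 1, 1, 2, 0, 0], [1, 3, 0, 1, 0, 0], [1, 1, 3, 3, 2, 0], [1, 1, 3, 3, 2, 0], [1, 2, 2, 2, 1, 0], [2, 2, 3, 1, 2, 0], [0, 1, 1, 0, 2, 0], [0, 1, 1, 0, 2, 0], [0,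 0, 2, 2, 3, 0], [0, 3, 3, 3, 0, 0], [1, 3, 1, 2, 1, 0], [0, 1, 0, 1, 1, 0], [0, 0, 2, 0, 0, 0], [0, 3, 0, 1, 3, 0], [0, 0, 1, 0, 0, 0]], [[0, 0, 0, 1, 0, 0], [1, 0, 2, 0, 1, 0], [2, 1, 1, 2, 1, 0], [2, 0, 3, 3, 0, 0], [2, 3, 1, 2, 3, 0], [2, 1, 2, 1, 1, 0], [1, 1, 3, 2, 2, 0], [3, 2, 1, 3, 2, 0], [3, 2, 1, 3, 2, 0], [3, 2, 1, 3, 2, 0], [3, 3, 3, 1, 3, 0], [0, 3, 2, 2, 0, 0], [3, 2, 1, 0, 0, 0], [3, 3, 3, 1, 1, 0], [3, 3, 3, 1, 1, 0], [3, 0, 2, 0, 2, 0], [3, 0, 2, 0, 2, 0], [2, 2, 3, 3, 2, 0], [2, 3, 1, 2, 3, 0], [2, 0, 3, 3, 0, 0], [2, 0, 3, 3, 0, 0], [1, 0, 2, 0, 3, 0], [2, 1, 1, 2, 3, 0], [2, 2, 0, 1, 0, 0], [2, 3, 3, 3, 1, 0], [2, 1, 0, 0, 3, 0], [3, 1, 2, 1, 2, 0], [3, 1, 2, 1, 2, 0], [3, 2, 3, 2, 1, 0], [3, 1, 1, 3, 2, 0], [3, 3, 2, 0, 0, 0], [1, 3, 1, 2, 2, 0], [0, 1, 0, 1, 2, 0], [0, 3, 3, 3, 0, 0], [0, 3, 3, 3, 0, 0], [0, 0, 2, 2, 3, 0], [0, 0, 2, 2, 3, 0], [1,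 2, 3, 1, 3, 0], [1, 0, 0, 3, 1, 0], [1, 3, 2, 2, 2, 0], [1, 2, 0, 0, 3, 0], [3, 2, 3, 2, 1, 0], [1, 1, 1, 3, 1, 0], [1, 1, 1, 3, 1, 0], [1, 1, 1, 3, 1, 0], [1, 0, 3, 1, 0, 0], [3, 0, 0, 3, 2, 0], [1, 3, 2, 2, 2, 0], [1, 1, 1, 0, 0, 0], [1, 2, 3, 1, 3, 0], [1, 2, 3, 1, 3, 0], [0, 2, 1, 0, 2, 0], [0, 2, 1, 0, 2, 0], [0, 1, 0, 3, 1, 0], [0, 3, 1, 0, 3, 0], [0, 0, 0, 1, 0, 0]], [[0, 0, 0, 0, 1, 0], [1, 0, 2, 1, 0, 0], [0, 2, 3, 2, 0, 0], [0, 0, 0, 0, 2, 0], [0, 2, 1, 3, 0, 0], [0, 1, 0, 2, 3, 0], [1, 1, 2, 3, 2, 0], [0, 3, 3, 0, 2, 0], [0, 0, 2, 3, 1, 0], [0, 0, 2, 3, 1, 0], [0, 2, 1, 0, 3, 0], [0, 2, 1, 0, 3, 0], [0, 2, 1, 0, 3, 0], [0, 0, 2, 2, 1, 0], [0, 3, 0, 3, 2, 0], [0, 0, 1, 2, 1, 0], [0, 0, 1, 2, 1, 0], [2, 3, 3, 3, 1, 0], [2, 0, 2, 0, 2, 0], [2, 1, 1, 2, 3, 0], [2, 1, 1, 2, 3, 0], [2, 1, 1, 2, 3, 0], [1, 0, 2, 0, 3, 0], [1, 2, 1, 2, 1, 0], [1, 2, 1, 2, 1, 0], [1,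 3, 3, 0, 0, 0], [2, 3, 2, 3, 3, 0], [1, 2, 1, 1, 3, 0], [1, 1, 0, 2, 0, 0], [1, 1, 0, 2, 0, 0], [1, 1, 0, 2, 0, 0], [2, 1, 1, 1, 3, 0], [0, 2, 3, 0, 3, 0], [0, 1, 2, 3, 0, 0], [0, 1, 2, 3, 0, 0], [0, 3, 1, 0, 2, 0], [1, 3, 3, 1, 3, 0], [3, 0, 1, 0, 3, 0], [3, 0, 1, 0, 3, 0], [3, 1, 2, 2, 2, 0], [3, 2, 3, 3, 1, 0], [0, 2, 2, 0, 2, 0], [3, 3, 1, 2, 2, 0], [3, 3, 1, 2, 2, 0], [3, 1, 0, 1, 0, 0], [3, 3, 3, 2, 2, 0], [2, 3, 1, 3, 3, 0], [2, 3, 1, 3, 3, 0], [2, 3, 1, 3, 3, 0], [2, 3, 1, 3, 3, 0], [2, 2, 3, 1, 2, 0], [1, 2, 2, 2, 1, 0], [0, 0, 3, 1, 1, 0], [0, 2, 0, 3, 3, 0], [0, 1, 2, 2, 0, 0], [0, 0, 0, 0, 1, 0]], [[0, 0, 0, 0, 0, 1], [0, 0, 0, 0, 0, 1], [0, 0, 0, 0, 0, 1], [0, 0, 0, 0, 0, 1], [0, 0, 0, 0, 0, 1], [0, 0, 0, 0, 0, 1], [0, 0, 0, 0, 0, 1], [0, 0, 0, 0, 0, 1], [0, 0, 0, 0, 0, 1], [0, 0, 0, 0, 0, 1], [0, 0, 0, 0, 0, 1], [0, 0, 0, 0, 0, 1], [0, 0, 0, 0, 0, 1], [0,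 0, 0, 0, 0, 1], [0, 0, 0, 0, 0, 1], [0, 0, 0, 0, 0, 1], [0, 0, 0, 0, 0, 1], [0, 0, 0, 0, 0, 1], [0, 0, 0, 0, 0, 1], [0, 0, 0, 0, 0, 1], [0, 0, 0, 0, 0, 1], [0, 0, 0, 0, 0, 1], [0, 0, 0, 0, 0, 1], [0, 0, 0, 0, 0, 1], [0, 0, 0, 0, 0, 1], [0, 0, 0, 0, 0, 1], [0, 0, 0, 0, 0, 1], [0, 0, 0, 0, 0, 1], [0, 0, 0, 0, 0, 1], [0, 0, 0, 0, 0, 1], [0, 0, 0, 0, 0, 1], [0, 0, 0, 0, 0, 1], [0, 0, 0, 0, 0, 1], [0, 0, 0, 0, 0, 1], [0, 0, 0, 0, 0, 1], [0, 0, 0, 0, 0, 1], [0, 0, 0, 0, 0, 1], [0, 0, 0, 0, 0, 1], [0, 0, 0, 0, 0, 1], [0, 0, 0, 0, 0, 1], [0, 0, 0, 0, 0, 1], [0, 0, 0, 0, 0, 1], [0, 0, 0, 0, 0, 1], [0, 0, 0, 0, 0, 1], [0, 0, 0, 0, 0, 1], [0, 0, 0, 0, 0, 1], [0, 0, 0, 0, 0, 1], [0, 0, 0, 0, 0, 1], [0, 0, 0, 0, 0, 1], [0, 0, 0, 0, 0, 1], [0, 0, 0, 0, 0, 1], [0, 0, 0, 0, 0, 1], [0, 0, 0, 0, 0, 1], [0, 0, 0, 0, 0, 1], [0, 0, 0, 0, 0, 1], [0, 0, 0, 0, 0, 1]]]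

/-- A coded vector. -/
def vec6 (l : List ℕ) : V6 := fun i => dec4 (l.getD i.val 0)

/-- The vectors used. -/
def fiveVec (k : Fin 5) : V6 := vec6 (fiveVecs.getD k.val [])

/-- The intermediate vectors. -/
def tabVec (j : Fin 6) (k : ℕ) : V6 := vec6 ((elevenTab.getD j.val []).getD k [])

theorem tab_step : ∀ j : Fin 6, ∀ n : Fin 11, ∀ k : Fin 5,
    tv (fiveVec k) (tabVec j (5 * n.val + k.val)) = tabVec j (5 * n.val + k.val + 1) := by decide +kernel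

theorem tab_ends : (∀ j : Fin 6, tabVec j 0 = Pi.single j 1 ∧ tabVec j 55 = Pi.single j 1) ∧
    tabVec 0 5 ≠ Pi.single 0 1 := by decide +kernel

theorem fiveVec_supp : ∀ k, kind (fiveVec k) = some 1 := by decide +kernel

namespace Dat

variable {G : Type*} [Group G] [Finite G] {z : G} {Q : Subgroup (centralizer ({z} : Set G))} [Q.Normal]
  (D : Dat z Q) {g : G} {s : Q}

open Std

include D in
theorem exists_inverting (hg : g * z * g⁻¹ = val s) (hs : val s ≠ 1) (hsz : val s ≠ z) :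
    ∃ c, c * D.T.x * c⁻¹ = D.T.x⁻¹ := by
  classical
  by_contra hno
  push Not at hno
  have hlin : ∀ c, c * D.T.x * c⁻¹ = D.T.x := fun c => (D.T.semi c).resolve_right (hno c)
  obtain ⟨hA, -, hcard, -⟩ := D.pair_main hg hs hsz
  have hq : qn (D.π s) = 0 := by
    refine (D.sq_iff s).1 (Subtype.ext (Subtype.ext ?_))
    exact (D.pre' hg).gen.sq
  obtain ⟨-, v, hv, hvq, hvA⟩ := D.T.exists_full
  have hv0 : v ≠ 0 := fun e => hv 0 (congrFun e 0)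
  obtain ⟨c, hc⟩ := D.T.large_trans hq (D.π_ne_zero hs hsz) hA hvq hv0 hvA
  set E : Subgroup ((centralizer ({z} : Set G)) ⧸ Q) :=
    ((((Q.map (centralizer ({z} : Set G)).subtype).map (MulAut.conj g).toMonoidHom ⊓
      centralizer ({z} : Set G)).subgroupOf (centralizer ({z} : Set G))).map (QuotientGroup.mk' Q)).map
        (MulAut.conj c).toMonoidHom with hE
  have hEcard : Nat.card E = 32 := by rw [hE, card_map_of_injective (MulAut.conj c).injective, hcard]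
  have hEsq : ∀ e ∈ E, e * e = 1 := by
    rintro _ ⟨e, he, rfl⟩
    rw [← map_mul, ← pow_two, (D.EE_elementary hg).2 e he, map_one]
  have hEfix : ∀ e ∈ E, D.T.r e v = v := by
    rintro _ ⟨e, he, rfl⟩
    show D.T.r (c * e * c⁻¹) v = v
    rw [← hc, ← r_mul, inv_mul_cancel_right, r_mul, (D.EE_le_stab hg hs hsz he : D.T.r e _ = _)]
  set f := D.T.twistHom v rot5 with hf
  have hfE : ∀ e ∈ E, f * e * f⁻¹ ∈ E := by
    rintro _ ⟨e, he, rfl⟩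
    refine ⟨(c⁻¹ * f * c) * e * (c⁻¹ * f * c)⁻¹, D.EE_normalised hg hs hsz ?_ he, ?_⟩
    · rw [mem_stab, r_mul, r_mul, hc, hf, D.T.twistHom_fix hv, ← hc, ← r_mul, inv_mul_cancel, r_one]
    · show c * (c⁻¹ * f * c * e * (c⁻¹ * f * c)⁻¹) * c⁻¹ = f * (c * e * c⁻¹) * f⁻¹
      group
  have hf5 : f ^ 5 = 1 := by rw [hf, ← map_pow, rot5_spec.1, map_one]
  -- an element of the group of order 32 fixed by the element of order five
  obtain ⟨e, he, he1, hec⟩ : ∃ e ∈ E, e ≠ 1 ∧ f * e = e * f := by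
    haveI : Fact (Nat.Prime 5) := ⟨by norm_num⟩
    haveI : Fintype E := Fintype.ofFinite _
    have hpow : ∀ n, ∀ e ∈ E, f ^ n * e * (f ^ n)⁻¹ ∈ E := by
      intro n
      induction n with
      | zero => intro e he; simpa using he
      | succ n ih =>
        intro e he
        rw [pow_succ', show f * f ^ n * e * (f * f ^ n)⁻¹ = f * (f ^ n * e * (f ^ n)⁻¹) * f⁻¹ by group]
        exact hfE _ (ih e he)
    let σ : Equiv.Perm E :=
      { toFun := fun e => ⟨f * e.1 * f⁻¹, hfE _ e.2⟩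
        invFun := fun e => ⟨f ^ 4 * e.1 * (f ^ 4)⁻¹, hpow 4 _ e.2⟩
        left_inv := fun e => Subtype.ext (by
          show f ^ 4 * (f * e.1 * f⁻¹) * (f ^ 4)⁻¹ = e.1
          rw [show f ^ 4 * (f * e.1 * f⁻¹) * (f ^ 4)⁻¹ = f ^ 5 * e.1 * (f ^ 5)⁻¹ by group, hf5]; group)
        right_inv := fun e => Subtype.ext (by
          show f * (f ^ 4 * e.1 * (f ^ 4)⁻¹) * f⁻¹ = e.1
          rw [show f * (f ^ 4 * e.1 * (f ^ 4)⁻¹) * f⁻¹ = f ^ 5 * e.1 * (f ^ 5)⁻¹ by group, hf5]; group) }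
    have hσ : σ ^ 5 ^ 1 = 1 := by
      refine Equiv.ext fun e => Subtype.ext ?_
      have h : ∀ n, ((σ ^ n) e).1 = f ^ n * e.1 * (f ^ n)⁻¹ := by
        intro n
        induction n with
        | zero => simp
        | succ n ih =>
          rw [pow_succ' σ, Equiv.Perm.mul_apply, pow_succ' f]
          show f * ((σ ^ n) e).1 * f⁻¹ = _
          rw [ih]; group
      rw [pow_one, h, hf5]
      simp
    have h := Equiv.Perm.card_compl_support_modEq (p := 5) (n := 1) hσ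
    rw [← Nat.card_eq_fintype_card, hEcard] at h
    by_contra hex
    push Not at hex
    have hsub : σ.supportᶜ ⊆ {1} := by
      intro u hu
      simp only [Finset.mem_compl, Equiv.Perm.mem_support, not_not] at hu
      rw [Finset.mem_singleton]
      by_contra hu1
      exact hex u.1 u.2 (fun e => hu1 (Subtype.ext e))
        (mul_inv_eq_iff_eq_mul.1 (congrArg Subtype.val hu))
    have h' := Finset.card_le_card hsub
    rw [Finset.card_singleton] at h'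
    unfold Nat.ModEq at h
    omega
  -- it is the transvection at the vector
  let ρ : Fin 6 → Fin 6 → F4 := fun i j => (v i)⁻¹ * D.T.r e (v j • Pi.single j 1) i
  have hexp : ∀ w : V6, w = ∑ j, ((v j)⁻¹ * w j) • (v j • Pi.single j 1) := by
    intro w
    funext i
    simp only [Finset.sum_apply, Pi.smul_apply, Pi.single_apply, smul_eq_mul, mul_ite, mul_one, mul_zero,
      Finset.sum_ite_eq, Finset.mem_univ, if_true]
    rw [mul_comm, ← mul_assoc, mul_inv_cancel₀ (hv i), one_mul]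
  have hre : ∀ w i, D.T.r e w i = v i * ∑ j, (v j)⁻¹ * w j * ρ i j := by
    intro w i
    conv_lhs => rw [hexp w]
    rw [map_sum, Finset.sum_apply, Finset.mul_sum]
    refine Finset.sum_congr rfl fun j _ => ?_
    rw [D.T.semilinear (hlin e), Pi.smul_apply, smul_eq_mul]
    show _ = v i * ((v j)⁻¹ * w j * ((v i)⁻¹ * _))
    field_simp [hv i]
  have hone : ∀ k, D.T.r e (v k • Pi.single k 1) = fun i => v i * ρ i k := fun k => funext fun i => by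
    show _ = v i * ((v i)⁻¹ * _)
    rw [← mul_assoc, mul_inv_cancel₀ (hv i), one_mul]
  have hrow : ∀ i, ∑ j, ρ i j = 1 := by
    intro i
    have h := congrFun (hEfix e he) i
    rw [hre] at h
    refine mul_left_cancel₀ (hv i) ?_
    rw [mul_one]
    conv_rhs => rw [← h]
    exact congrArg _ (Finset.sum_congr rfl fun j _ => by rw [inv_mul_cancel₀ (hv j), one_mul])
  have hshift : ∀ i j, ρ (rot5.1 i) (rot5.1 j) = ρ i j := by
    intro i j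
    have h1 : D.T.r f (v j • Pi.single j 1) = v (rot5.1 j) • Pi.single (rot5.1 j) 1 := by
      rw [hf, twistHom_act]
      funext k
      simp only [twist, Pi.smul_apply, Pi.single_apply, smul_eq_mul, mul_ite, mul_one, mul_zero]
      by_cases hk : k = rot5.1 j
      · subst hk
        rw [Equiv.symm_apply_apply, if_pos rfl, if_pos rfl]
        calc omp (logF (v (rot5.1 j)) - logF (v j)) * v j
            = omp (logF (v (rot5.1 j)) - logF (v j)) * omp (logF (v j)) := by rw [omp_logF _ (hv j)]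
          _ = v (rot5.1 j) := by rw [← omp_add, sub_add_cancel, omp_logF _ (hv _)]
      · rw [if_neg hk, if_neg fun e => hk (by rw [← e, Equiv.apply_symm_apply])]
    have h2 := congrFun (congrArg (fun y => D.T.r y (v j • Pi.single j 1)) hec) (rot5.1 i)
    simp only [r_mul, h1, hone] at h2
    rw [hf, twistHom_act] at h2
    simp only [twist, Equiv.symm_apply_apply] at h2
    refine mul_left_cancel₀ (hv (rot5.1 i)) ?_
    rw [← h2, ← mul_assoc]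
    congr 1
    calc omp (logF (v (rot5.1 i)) - logF (v i)) * v i
        = omp (logF (v (rot5.1 i)) - logF (v i)) * omp (logF (v i)) := by rw [omp_logF _ (hv i)]
      _ = v (rot5.1 i) := by rw [← omp_add, sub_add_cancel, omp_logF _ (hv _)]
  have hsq : ∀ i j, ∑ k, ρ i k * ρ k j = if i = j then 1 else 0 := by
    intro i j
    have h := congrFun (congrArg (fun y => D.T.r y (v j • Pi.single j 1)) (hEsq e he)) i
    simp only [r_mul, r_one, hone, hre] at h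
    refine mul_left_cancel₀ (hv i) ?_
    have h' : ∀ k, (v k)⁻¹ * (v k * ρ k j) * ρ i k = ρ i k * ρ k j := fun k => by
      rw [← mul_assoc ((v k)⁻¹) (v k), inv_mul_cancel₀ (hv k), one_mul, mul_comm]
    simp only [h'] at h
    rw [h]
    simp only [Pi.smul_apply, Pi.single_apply, smul_eq_mul]
    split_ifs with hij
    · rw [hij]
    · simp
  have huni : ∑ k, ρ k 0 * (ρ k 1 * ρ k 1) = 0 := by
    have h := D.T.herm_r (hlin e) (v 0 • Pi.single 0 1) (v 1 • Pi.single 1 1)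
    rw [hone, hone] at h
    simp only [herm] at h
    have hv3 : ∀ k, v k * (v k * v k) = 1 := fun k =>
      (by decide +kernel : ∀ t : F4, t ≠ 0 → t * (t * t) = 1) _ (hv k)
    have h' : ∀ k, v k * ρ k 0 * (v k * ρ k 1 * (v k * ρ k 1)) = ρ k 0 * (ρ k 1 * ρ k 1) := fun k => by
      rw [show v k * ρ k 0 * (v k * ρ k 1 * (v k * ρ k 1)) = (v k * (v k * v k)) * (ρ k 0 * (ρ k 1 * ρ k 1)) by
        ring, hv3, one_mul]
    simp only [h'] at h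
    rw [h]
    refine Finset.sum_eq_zero fun i _ => ?_
    fin_cases i <;> simp
  have hshape := rigid_shape ρ hshift hrow
  set a : Fin 5 → F4 := fun k => ρ 0 ⟨k.val, by omega⟩
  set cc := ρ 5 0
  have htv : ∀ w, D.T.r e w = tv v w := by
    rw [hshape] at hre hsq huni
    rcases cmat_rigid a cc (fun j => hsq 0 j) (by simpa using hsq 5 5) huni with h | h
    · refine absurd (D.T.inj (LinearEquiv.ext fun w => funext fun i => ?_)) he1
      rw [map_one]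
      show D.T.r e w i = w i
      rw [hre]
      simp only [h, mul_ite, mul_one, mul_zero, Finset.sum_ite_eq, Finset.mem_univ, if_true]
      rw [← mul_assoc, mul_inv_cancel₀ (hv i), one_mul]
    · intro w
      funext i
      rw [hre]
      have hinv : ∀ j, (v j)⁻¹ = v j * v j := fun j => inv_eq_of_mul_eq_one_right
        ((by decide +kernel : ∀ t : F4, t ≠ 0 → t * (t * t) = 1) _ (hv j))
      simp only [h, mul_add, mul_ite, mul_one, mul_zero, Finset.sum_add_distrib, Finset.sum_ite_eq,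
        Finset.mem_univ, if_true, tv, herm, Pi.add_apply, Pi.smul_apply, smul_eq_mul]
      congr 1
      · rw [← mul_assoc, mul_inv_cancel₀ (hv i), one_mul]
      · rw [mul_comm]
        congr 1
        exact Finset.sum_congr rfl fun j _ => by rw [hinv, mul_comm]
  -- the transvections used
  have hall : ∀ k, ∃ y, ∀ w, D.T.r y w = tv (fiveVec k) w := by
    intro k
    have hk4 : fiveVec k ∉ D.T.orb ⊤ v2 := by
      intro hin
      obtain ⟨I, hsum, hI, h | h⟩ := D.T.exists_I (le_top : D.T.M ≤ ⊤) v2_sing.1 v2_sing.2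
      · obtain ⟨d, hd, hdk⟩ := D.T.exists_mono (fiveVec_supp k)
        obtain ⟨b, -, hb⟩ := D.T.mem_orb.1 hin
        have h1 : (1 : Fin 5) ∈ I := (hI 1).2 (D.T.mem_orb.2 ⟨d⁻¹ * b, mem_top _, by
          rw [r_mul, hb, ← hdk, ← r_mul, inv_mul_cancel, r_one]⟩)
        exact (by decide +kernel : ∀ I : Finset (Fin 5), 0 ∈ I → ∑ k ∈ I, sizeK k = 378 → 1 ∉ I) I h.1
          (hsum.symm.trans h.2.1) h1
      · exact h.1 ((hI 0).2 (D.T.mem_orb.2 ⟨1, one_mem _, r_one _ _⟩))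
    have hks := (singular_iff (fiveVec k)).2 (by rw [fiveVec_supp]; rfl)
    obtain ⟨b, hb⟩ := D.T.large_trans hvq hv0 hvA hks.1 hks.2 hk4
    refine ⟨b * e * b⁻¹, fun w => ?_⟩
    rw [r_mul, r_mul, htv]
    simp only [tv, map_add, D.T.semilinear (hlin b), hb]
    rw [← r_mul, mul_inv_cancel, r_one]
    congr 2
    rw [← hb]
    conv_rhs => rw [show w = D.T.r b (D.T.r b⁻¹ w) by rw [← r_mul, mul_inv_cancel, r_one]]
    rw [D.T.herm_r (hlin b)]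
  choose y hy using hall
  let P := y 4 * (y 3 * (y 2 * (y 1 * y 0)))
  have hP : ∀ (j : Fin 6) (n : Fin 11), D.T.r P (tabVec j (5 * n.val)) = tabVec j (5 * n.val + 5) := by
    intro j n
    have s0 := tab_step j n 0
    have s1 := tab_step j n 1
    have s2 := tab_step j n 2
    have s3 := tab_step j n 3
    have s4 := tab_step j n 4
    simp only [P, r_mul, hy]
    simp only [show ((0 : Fin 5) : ℕ) = 0 from rfl, show ((1 : Fin 5) : ℕ) = 1 from rfl,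
      show ((2 : Fin 5) : ℕ) = 2 from rfl, show ((3 : Fin 5) : ℕ) = 3 from rfl,
      show ((4 : Fin 5) : ℕ) = 4 from rfl, add_zero, add_assoc] at s0 s1 s2 s3 s4 ⊢
    norm_num at s0 s1 s2 s3 s4 ⊢
    rw [s0, s1, s2, s3, s4]
  have hPpow : ∀ (j : Fin 6) (n : ℕ), n ≤ 11 → D.T.r (P ^ n) (tabVec j 0) = tabVec j (5 * n) := by
    intro j n
    induction n with
    | zero => intro _; rw [pow_zero, r_one]
    | succ n ih =>
      intro hn
      rw [pow_succ', r_mul, ih (by omega)]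
      have := hP j ⟨n, by omega⟩
      exact this.trans (by rw [mul_add, mul_one])
  have hP11 : P ^ 11 = 1 := by
    refine D.T.inj (LinearEquiv.ext fun w => ?_)
    rw [map_one]
    show D.T.r (P ^ 11) w = w
    have hj : ∀ j, D.T.r (P ^ 11) (Pi.single j 1) = Pi.single j 1 := fun j => by
      have h := hPpow j 11 le_rfl
      rw [(tab_ends.1 j).1, (tab_ends.1 j).2] at h
      exact h
    have hw : w = ∑ j, w j • Pi.single j (1 : F4) := by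
      funext i
      simp [Finset.sum_apply, Pi.single_apply]
    conv_lhs => rw [hw]
    conv_rhs => rw [hw]
    rw [map_sum]
    exact Finset.sum_congr rfl fun j _ => by rw [D.T.semilinear (hlin _), hj]
  have hP1 : P ≠ 1 := fun h1 => tab_ends.2 (by
    have h := hPpow 0 1 (by norm_num)
    rw [h1, one_pow, r_one, (tab_ends.1 0).1] at h
    exact h.symm)
  haveI : Fact (Nat.Prime 11) := ⟨by norm_num⟩
  have h11 := orderOf_eq_prime hP11 hP1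
  have hd := orderOf_dvd_natCard P
  rw [h11, D.T.card] at hd
  norm_num at hd

end Dat

end CfsgLib.FiLarge
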