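import Cfsg.Agent.FiLarge.Pair
import Cfsg.Agent.FiLarge.Inverting

/-!
Changing the coordinates of the setting so that a fused central involution has all coordinates one.
-/

set_option autoImplicit false
set_option quotPrecheck false
set_option linter.style.haveILetI false

namespace CfsgLib.FiLarge

open CfsgLib Subgroup

theorem kind_dmul_v2 : ∀ l : Fin 6 → ZMod 3, kind (dmul l v2) = some 0 := by decide +kernel

/-- Multiplication by phases as a linear map. -/
def dmulE (l : Fin 6 → ZMod 3) : V6 ≃ₗ[ZMod 2] V6 where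
  toFun := dmul l
  invFun := dmul (-l)
  map_add' a b := funext fun i => by simp [dmul, mul_add]
  map_smul' c a := funext fun i => by simp [dmul]
  left_inv a := funext fun i => by
    show omp (-l i) * (omp (l i) * a i) = a i
    rw [← mul_assoc, ← omp_add, neg_add_cancel, omp_zero, one_mul]
  right_inv a := funext fun i => by
    show omp (l i) * (omp (-l i) * a i) = a i
    rw [← mul_assoc, ← omp_add, add_neg_cancel, omp_zero, one_mul]

theorem qn_dmul (l : Fin 6 → ZMod 3) (a : V6) : qn (dmul l a) = qn a := by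
  refine Finset.sum_congr rfl fun i _ => ?_
  simp [dmul, omp_ne]

/-- Squaring of the coordinates. -/
def frob (a : V6) : V6 := fun i => a i * a i

theorem f4_add_self : ∀ x : F4, x + x = 0 := by decide +kernel

theorem f4_pow_four : ∀ x : F4, x * x * (x * x) = x := by decide +kernel

theorem f4_sq_add : ∀ x y : F4, (x + y) * (x + y) = x * x + y * y := by decide +kernel

theorem f4_sq_omp : ∀ c : ZMod 3, omp c * omp c = omp (-c) := by decide +kernel

theorem f4_sq_smul : ∀ c : ZMod 2, ∀ x : F4, (c • x) * (c • x) = c • (x * x) := by decide +kernel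

theorem f4_sq_zero : ∀ x : F4, x * x = 0 ↔ x = 0 := by decide +kernel

/-- Squaring of the coordinates as a linear map. -/
def frobE : V6 ≃ₗ[ZMod 2] V6 where
  toFun := frob
  invFun := frob
  map_add' a b := funext fun i => f4_sq_add _ _
  map_smul' c a := funext fun i => f4_sq_smul c (a i)
  left_inv a := funext fun i => f4_pow_four (a i)
  right_inv a := funext fun i => f4_pow_four (a i)

theorem qn_frob (a : V6) : qn (frob a) = qn a :=
  Finset.sum_congr rfl fun i _ => by simp [frob]

namespace Std

variable {C : Type*} [Group C] [Finite C] (T : Std C)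

/-- The action read through a linear change of coordinates. -/
def rConj (φ : V6 ≃ₗ[ZMod 2] V6) : C →* (V6 ≃ₗ[ZMod 2] V6) where
  toFun c := φ.trans ((T.r c).trans φ.symm)
  map_one' := LinearEquiv.ext fun a => by simp
  map_mul' c d := LinearEquiv.ext fun a => by simp

theorem rConj_apply (φ : V6 ≃ₗ[ZMod 2] V6) (c : C) (a : V6) :
    T.rConj φ c a = φ.symm (T.r c (φ a)) := rfl

theorem rConj_inj (φ : V6 ≃ₗ[ZMod 2] V6) : Function.Injective (T.rConj φ) := fun c d h =>
  T.inj (LinearEquiv.ext fun a => φ.symm.injective (by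
    simpa [rConj_apply] using LinearEquiv.congr_fun h (φ.symm a)))

/-- The standard form in twisted coordinates. -/
noncomputable def dtwist (l : Fin 6 → ZMod 3) : Std C where
  r := T.rConj (dmulE l)
  inj := T.rConj_inj _
  inv c a := by
    show qn (dmul (-l) (T.r c (dmul l a))) = qn a
    rw [qn_dmul, T.inv, qn_dmul]
  M := T.M
  idx := T.idx
  x := T.x
  x_mem := T.x_mem
  x_act a := by
    show dmul (-l) (T.r T.x (dmul l a)) = om • a
    rw [T.x_act]
    funext i
    show omp (-l i) * (om * (omp (l i) * a i)) = om * a i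
    rw [← mul_assoc, mul_comm (omp (-l i)) om, mul_assoc, ← mul_assoc (omp (-l i)), ← omp_add,
      neg_add_cancel, omp_zero, one_mul]
  central := T.central
  semi := T.semi
  card := T.card
  diag v hv := by
    obtain ⟨c, hc, h⟩ := T.diag v hv
    refine ⟨c, hc, fun a => ?_⟩
    show dmul (-l) (T.r c (dmul l a)) = dmul v a
    rw [h]
    funext i
    show omp (-l i) * (omp (v i) * (omp (l i) * a i)) = omp (v i) * a i
    rw [← mul_assoc, ← mul_assoc, mul_comm (omp (-l i)), mul_assoc (omp (v i)), ← omp_add,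
      neg_add_cancel, omp_zero, mul_one]
  perm τ hτ := by
    obtain ⟨c, hc, h⟩ := T.perm τ hτ
    obtain ⟨d, hd, hd'⟩ := T.diag (fun i => l i - l (τ i)) (by
      rw [Finset.sum_sub_distrib, Equiv.sum_comp τ l, sub_self])
    refine ⟨d * c, mul_mem hd hc, fun a => ?_⟩
    show dmul (-l) (T.r (d * c) (dmul l a)) = fun i => a (τ i)
    rw [r_mul, h, hd']
    funext i
    show omp (-l i) * (omp (l i - l (τ i)) * (omp (l (τ i)) * a (τ i))) = a (τ i)
    rw [← mul_assoc, ← mul_assoc, ← omp_add, ← omp_add,
      show -l i + (l i - l (τ i)) + l (τ i) = 0 by abel, omp_zero, one_mul]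

/-- The standard form in squared coordinates. -/
noncomputable def ftwist : Std C where
  r := T.rConj frobE
  inj := T.rConj_inj _
  inv c a := by
    show qn (frob (T.r c (frob a))) = qn a
    rw [qn_frob, T.inv, qn_frob]
  M := T.M
  idx := T.idx
  x := T.x⁻¹
  x_mem := inv_mem T.x_mem
  x_act a := by
    show frob (T.r T.x⁻¹ (frob a)) = om • a
    have h : T.r T.x⁻¹ (frob a) = (om * om) • frob a := by
      conv_lhs => rw [show frob a = om • (om * om) • frob a by
        rw [smul_smul, show om * (om * om) = 1 by decide +kernel, one_smul]]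
      rw [← T.x_act, ← r_mul, inv_mul_cancel, r_one]
    rw [h]
    funext i
    show om * om * (a i * a i) * (om * om * (a i * a i)) = om * a i
    calc om * om * (a i * a i) * (om * om * (a i * a i)) =
        (om * om * (om * om)) * (a i * a i * (a i * a i)) := by ring
      _ = om * a i := by rw [f4_pow_four, f4_pow_four]
  central c hc := (show Commute c T.x from T.central c hc).inv_right.eq
  semi c := by
    rw [show c * T.x⁻¹ * c⁻¹ = (c * T.x * c⁻¹)⁻¹ by group]
    rcases T.semi c with h | h
    · exact Or.inl (by rw [h])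
    · exact Or.inr (by rw [h])
  card := T.card
  diag v hv := by
    obtain ⟨c, hc, h⟩ := T.diag (-v) (by rw [← neg_zero, ← hv, ← Finset.sum_neg_distrib]; rfl)
    refine ⟨c, hc, fun a => ?_⟩
    show frob (T.r c (frob a)) = dmul v a
    rw [h]
    funext i
    show omp (-v i) * (a i * a i) * (omp (-v i) * (a i * a i)) = omp (v i) * a i
    calc omp (-v i) * (a i * a i) * (omp (-v i) * (a i * a i)) =
        (omp (-v i) * omp (-v i)) * (a i * a i * (a i * a i)) := by ring
      _ = omp (v i) * a i := by rw [f4_sq_omp, neg_neg, f4_pow_four]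
  perm τ hτ := by
    obtain ⟨c, hc, h⟩ := T.perm τ hτ
    refine ⟨c, hc, fun a => ?_⟩
    show frob (T.r c (frob a)) = fun i => a (τ i)
    rw [h]
    exact funext fun i => f4_pow_four (a (τ i))

theorem dtwist_orb (l : Fin 6 → ZMod 3) {a : V6} (h : a ∈ (T.dtwist l).orb ⊤ v2) :
    dmul l a ∈ T.orb ⊤ v2 := by
  obtain ⟨c, -, hc⟩ := (T.dtwist l).mem_orb.1 h
  obtain ⟨d, -, hd⟩ := T.exists_mono (kind_dmul_v2 l)
  refine T.mem_orb.2 ⟨c * d, mem_top _, ?_⟩
  rw [← hc]
  show _ = dmul l (dmul (-l) (T.r c (dmul l v2)))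
  rw [r_mul, show T.r d v2 = dmul l v2 from hd]
  exact ((dmulE l).right_inv _).symm

theorem ftwist_orb {a : V6} (h : a ∈ T.ftwist.orb ⊤ v2) : frob a ∈ T.orb ⊤ v2 := by
  obtain ⟨c, -, hc⟩ := T.ftwist.mem_orb.1 h
  refine T.mem_orb.2 ⟨c, mem_top _, ?_⟩
  rw [← hc]
  show _ = frob (frob (T.r c (frob v2)))
  rw [show frob v2 = v2 by decide +kernel]
  exact (frobE.left_inv _).symm

end Std

/-- The vector with all coordinates one. -/
def ones : V6 := fun _ => 1

namespace Dat

variable {G : Type*} [Group G] {z : G} {Q : Subgroup (centralizer ({z} : Set G))} [Q.Normal] (D : Dat z Q)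

/-- The setting in twisted coordinates. -/
noncomputable def dtwist [Finite G] (l : Fin 6 → ZMod 3) : Dat z Q where
  pre := D.pre
  cardQ := D.cardQ
  T := D.T.dtwist l
  π a := dmul (-l) (D.π a)
  π_mul a b := by rw [D.π_mul]; exact (dmulE (-l)).map_add _ _
  π_surj v := by
    obtain ⟨a, ha⟩ := D.π_surj (dmul l v)
    exact ⟨a, show dmul (-l) (D.π a) = v by rw [ha]; exact (dmulE l).left_inv v⟩
  π_eq_zero a := by
    rw [← D.π_eq_zero]
    exact (dmulE (-l)).map_eq_zero_iff
  sq_iff a := by rw [qn_dmul]; exact D.sq_iff a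
  comm_iff a b := by
    rw [show dmul (-l) (D.π a) + dmul (-l) (D.π b) = dmul (-l) (D.π a + D.π b) from
      ((dmulE (-l)).map_add _ _).symm, qn_dmul, qn_dmul, qn_dmul]
    exact D.comm_iff a b
  act c a := by
    show dmul (-l) _ = dmul (-l) (D.T.r _ (dmul l (dmul (-l) (D.π a))))
    rw [show dmul l (dmul (-l) (D.π a)) = D.π a from (dmulE l).right_inv _, D.act]

/-- The setting in squared coordinates. -/
noncomputable def ftwist [Finite G] : Dat z Q where
  pre := D.pre
  cardQ := D.cardQ
  T := D.T.ftwist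
  π a := frob (D.π a)
  π_mul a b := by rw [D.π_mul]; exact frobE.map_add _ _
  π_surj v := by
    obtain ⟨a, ha⟩ := D.π_surj (frob v)
    exact ⟨a, show frob (D.π a) = v by rw [ha]; exact frobE.left_inv v⟩
  π_eq_zero a := by
    rw [← D.π_eq_zero]
    exact frobE.map_eq_zero_iff
  sq_iff a := by rw [qn_frob]; exact D.sq_iff a
  comm_iff a b := by
    rw [show frob (D.π a) + frob (D.π b) = frob (D.π a + D.π b) from (frobE.map_add _ _).symm,
      qn_frob, qn_frob, qn_frob]
    exact D.comm_iff a b
  act c a := by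
    show frob _ = frob (D.T.r _ (frob (frob (D.π a))))
    rw [show frob (frob (D.π a)) = D.π a from frobE.left_inv _, D.act]

include D in
/-- A fused central involution may be assumed to have all coordinates one. -/
theorem exists_frame [Finite G] {g : G} {s : Q} (hg : g * z * g⁻¹ = val s) (hs : val s ≠ 1) (hsz : val s ≠ z) :
    ∃ (D' : Dat z Q) (g' : G) (s' : Q), g' * z * g'⁻¹ = val s' ∧ val s' ≠ 1 ∧ val s' ≠ z ∧
      D'.π s' = ones ∧ ones ∉ D'.T.orb ⊤ v2 := by
  classical
  obtain ⟨hA, -, -, -⟩ := D.pair_main hg hs hsz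
  have hq : qn (D.π s) = 0 := by
    refine (D.sq_iff s).1 (Subtype.ext (Subtype.ext ?_))
    exact (D.pre' hg).gen.sq
  obtain ⟨-, v, hv, hvq, hvA⟩ := D.T.exists_full
  obtain ⟨x, hx⟩ := D.T.large_trans hq (D.π_ne_zero hs hsz) hA hvq (fun e => hv 0 (congrFun e 0)) hvA
  obtain ⟨c, rfl⟩ := QuotientGroup.mk_surjective x
  let s' : Q := MulAut.conjNormal c s
  have hval : val s' = (c : G) * val s * (c : G)⁻¹ := rfl
  let l : Fin 6 → ZMod 3 := fun i => logF (v i)
  have hvl : dmul l ones = v := funext fun i => by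
    show omp (logF (v i)) * 1 = v i
    rw [mul_one, omp_logF _ (hv i)]
  refine ⟨D.dtwist l, (c : G) * g, s', ?_, ?_, ?_, ?_, ?_⟩
  · rw [hval, ← hg]; group
  · rw [hval]; exact fun e => hs (conj_eq_one_iff.1 e)
  · rw [hval]
    intro e
    refine hsz ?_
    have hcz : (c : G) * z = z * (c : G) := mem_centralizer_singleton_iff.1 c.2
    rw [mul_inv_eq_iff_eq_mul, ← hcz] at e
    exact mul_left_cancel e
  · show dmul (-l) (D.π s') = ones
    rw [D.act, hx, ← hvl]
    exact (dmulE l).left_inv ones
  · intro h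
    have := D.T.dtwist_orb l h
    rw [hvl] at this
    exact hvA this

end Dat

end CfsgLib.FiLarge
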