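import Cfsg.Agent.FiLarge.Inverting

/-!
The quotient contains no transvection centred at a vector of the large orbit.
-/

set_option autoImplicit false

namespace CfsgLib.FiLarge

open CfsgLib Subgroup

theorem trF_sq : ∀ x y : F4, trF x = trF y → trF (om * x) = trF (om * om * y) → x = y * y := by
  decide +kernel

namespace Std

variable {C : Type*} [Group C] (T : Std C)

theorem herm_r_inv [Finite C] {c : C} (hc : c * T.x * c⁻¹ = T.x⁻¹) (a b : V6) :
    herm (T.r c a) (T.r c b) = herm a b * herm a b := by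
  have h : ∀ u, trF (herm (T.r c u) (T.r c b)) = trF (herm u b) := fun u => by
    rw [← polar_qn, ← polar_qn, ← map_add, T.inv, T.inv, T.inv]
  refine trF_sq _ _ (h a) ?_
  have e : (om * om) * (om * om) = om := by decide +kernel
  have hs := T.semilinear_inv hc (om * om) a
  rw [e] at hs
  rw [← herm_smul, ← herm_smul, ← hs, h]

theorem tv_conj [Finite C] {b e : C} {v : V6} (he : ∀ w, T.r e w = tv v w) (w : V6) :
    T.r (b * e * b⁻¹) w = tv (T.r b v) w := by
  have hw : T.r b (T.r b⁻¹ w) = w := by rw [← r_mul, mul_inv_cancel, r_one]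
  rw [r_mul, r_mul, he]
  show T.r b (T.r b⁻¹ w + herm (T.r b⁻¹ w) v • v) = w + herm w (T.r b v) • T.r b v
  rw [map_add, hw]
  congr 1
  rcases T.semi b with hb | hb
  · rw [T.semilinear hb]
    congr 1
    conv_rhs => rw [← hw]
    rw [T.herm_r hb]
  · rw [T.semilinear_inv hb]
    congr 1
    conv_rhs => rw [← hw]
    rw [T.herm_r_inv hb]

theorem no_tv [Finite C] {v : V6} (hvq : qn v = 0) (hv0 : v ≠ 0) (hvA : v ∉ T.orb ⊤ v2) :
    ¬ ∃ e, ∀ w, T.r e w = tv v w := by
  classical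
  rintro ⟨e, he⟩
  have hall : ∀ k, ∃ y, ∀ w, T.r y w = tv (fiveVec k) w := by
    intro k
    have hk4 : fiveVec k ∉ T.orb ⊤ v2 := by
      intro hin
      obtain ⟨I, hsum, hI, h | h⟩ := T.exists_I (le_top : T.M ≤ ⊤) v2_sing.1 v2_sing.2
      · obtain ⟨d, -, hdk⟩ := T.exists_mono (fiveVec_supp k)
        obtain ⟨b, -, hb⟩ := T.mem_orb.1 hin
        have h1 : (1 : Fin 5) ∈ I := (hI 1).2 (T.mem_orb.2 ⟨d⁻¹ * b, mem_top _, by
          rw [r_mul, hb, ← hdk, ← r_mul, inv_mul_cancel, r_one]⟩)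
        exact (by decide +kernel : ∀ I : Finset (Fin 5), 0 ∈ I → ∑ k ∈ I, sizeK k = 378 → 1 ∉ I) I h.1
          (hsum.symm.trans h.2.1) h1
      · exact h.1 ((hI 0).2 (T.mem_orb.2 ⟨1, one_mem _, r_one _ _⟩))
    have hks := (singular_iff (fiveVec k)).2 (by rw [fiveVec_supp]; rfl)
    obtain ⟨b, hb⟩ := T.large_trans hvq hv0 hvA hks.1 hks.2 hk4
    exact ⟨b * e * b⁻¹, fun w => by rw [T.tv_conj he, hb]⟩
  choose y hy using hall
  have hyx : ∀ k, y k * T.x = T.x * y k := fun k => T.inj (LinearEquiv.ext fun w => by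
    rw [r_mul, r_mul, T.x_act, hy, T.x_act, hy, tv_smul])
  let P := y 4 * (y 3 * (y 2 * (y 1 * y 0)))
  have hP : ∀ (j : Fin 6) (n : Fin 11), T.r P (tabVec j (5 * n.val)) = tabVec j (5 * n.val + 5) := by
    intro j n
    have s0 := tab_step j n 0
    have s1 := tab_step j n 1
    have s2 := tab_step j n 2
    have s3 := tab_step j n 3
    have s4 := tab_step j n 4
    simp only [P, r_mul, hy]
    simp only [show ((0 : Fin 5) : ℕ) = 0 from rfl, show ((1 : Fin 5) : ℕ) = 1 from rfl,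
      show ((2 : Fin 5) : ℕ) = 2 from rfl, show ((3 : Fin 5) : ℕ) = 3 from rfl,
      show ((4 : Fin 5) : ℕ) = 4 from rfl, add_zero, add_assoc] at s0 s1 s2 s3 s4 ⊢
    norm_num at s0 s1 s2 s3 s4 ⊢
    rw [s0, s1, s2, s3, s4]
  have hPpow : ∀ (j : Fin 6) (n : ℕ), n ≤ 11 → T.r (P ^ n) (tabVec j 0) = tabVec j (5 * n) := by
    intro j n
    induction n with
    | zero => intro _; rw [pow_zero, r_one]
    | succ n ih =>
      intro hn
      rw [pow_succ', r_mul, ih (by omega)]
      have := hP j ⟨n, by omega⟩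
      exact this.trans (by rw [mul_add, mul_one])
  have hc : ∀ k, Commute (y k) T.x := hyx
  have hPx : Commute P T.x :=
    (hc 4).mul_left ((hc 3).mul_left ((hc 2).mul_left ((hc 1).mul_left (hc 0))))
  have hPc : P ^ 11 * T.x * (P ^ 11)⁻¹ = T.x := mul_inv_eq_iff_eq_mul.2 (hPx.pow_left 11).eq
  have hP11 : P ^ 11 = 1 := by
    refine T.inj (LinearEquiv.ext fun w => ?_)
    rw [map_one]
    show T.r (P ^ 11) w = w
    have hj : ∀ j, T.r (P ^ 11) (Pi.single j 1) = Pi.single j 1 := fun j => by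
      have h := hPpow j 11 le_rfl
      rw [(tab_ends.1 j).1, (tab_ends.1 j).2] at h
      exact h
    have hw : w = ∑ j, w j • Pi.single j (1 : F4) := by
      funext i
      simp [Finset.sum_apply, Pi.single_apply]
    conv_lhs => rw [hw]
    conv_rhs => rw [hw]
    rw [map_sum]
    exact Finset.sum_congr rfl fun j _ => by rw [T.semilinear hPc, hj]
  have hP1 : P ≠ 1 := fun h1 => tab_ends.2 (by
    have h := hPpow 0 1 (by norm_num)
    rw [h1, one_pow, r_one, (tab_ends.1 0).1] at h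
    exact h.symm)
  haveI : Fact (Nat.Prime 11) := ⟨by norm_num⟩
  have h11 := orderOf_eq_prime hP11 hP1
  have hd := orderOf_dvd_natCard P
  rw [h11, T.card] at hd
  norm_num at hd

end Std

end CfsgLib.FiLarge
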