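import Cfsg.Agent.FiLarge.Frame
import Cfsg.Agent.FiLarge.NoTransvection
import Cfsg.Agent.FiLarge.Candidates

/-!
An explicit involution of the trace, in suitable coordinates.
-/

set_option autoImplicit false
set_option quotPrecheck false
set_option maxRecDepth 100000
set_option maxHeartbeats 2000000

namespace CfsgLib.FiLarge

open CfsgLib Subgroup Eleven

theorem fixed_nontrivial {C : Type*} [Group C] (F : Subgroup C) (hc : ∀ a ∈ F, ∀ b ∈ F, a * b = b * a)
    (hsq : ∀ a ∈ F, a * a = 1) (t : C) (ht : t * t = 1) (hn : ∀ a ∈ F, t * a * t ∈ F) {a : C} (ha : a ∈ F)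
    (ha1 : a ≠ 1) : ∃ b ∈ F, b ≠ 1 ∧ t * b = b * t := by
  have fix : ∀ b, t * b * t = b → t * b = b * t := fun b h => by
    calc t * b = t * b * (t * t) := by rw [ht, mul_one]
      _ = b * t := by rw [← mul_assoc, h]
  by_cases h : a * (t * a * t) = 1
  · refine ⟨a, ha, ha1, fix a ?_⟩
    calc t * a * t = a * a * (t * a * t) := by rw [hsq a ha, one_mul]
      _ = a := by rw [mul_assoc, h, mul_one]
  · refine ⟨_, mul_mem ha (hn a ha), h, fix _ ?_⟩
    calc t * (a * (t * a * t)) * t = t * a * t * (a * (t * t)) := by group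
      _ = a * (t * a * t) := by rw [ht, mul_one]; exact hc _ (hn a ha) _ ha

theorem Std.perm_rep {C : Type*} [Group C] [Finite C] (T : Std C) (τ σ : Fin 6 → Fin 6) (h1 : ∀ i, τ (σ i) = i)
    (h2 : ∀ i, σ (τ i) = i) (hs : Equiv.Perm.sign (⟨τ, σ, h2, h1⟩ : Equiv.Perm (Fin 6)) = 1) :
    ∃ c ∈ T.M, (∀ a, T.r c a = fun i => a (τ i)) ∧ T.Rep c (pmcode τ) := by
  obtain ⟨c, hc, h⟩ := T.perm ⟨τ, σ, h2, h1⟩ hs
  refine ⟨c, hc, h, Std.rep_of_eq ⟨by simp [pmcode], fun x hx => ?_⟩ _ h fun k => ?_⟩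
  · obtain ⟨j, -, rfl⟩ := List.mem_map.1 hx
    exact (dec_enc _).2
  · rw [pmcode, List.getD_eq_getElem _ _ (by simp), List.getElem_map, List.getElem_range, (dec_enc _).1]
    rfl

theorem mapply_one (w : V6) : mapply (fun i j => (if i = j then 1 else 0) + 1) w = tv ones w := by
  funext i
  simp [mapply, tv, herm, ones, mul_add, Finset.sum_add_distrib]

theorem tv_code {C : Type*} [Group C] [Finite C] {T : Std C} {c : C} (h : T.Rep c tvCode) (w : V6) :
    T.r c w = tv ones w := by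
  rw [← mapply_one, h.apply, app_eq]
  let φ : V6 →+ V6 := AddMonoidHom.mk' (mapply fun i j => (if i = j then 1 else 0) + 1) fun a b => funext fun i => by
    simp [mapply, add_mul, Finset.sum_add_distrib]
  have hk : ∀ k, (hk : k < tvCode.length) → φ (dec (2 ^ (0 + k))) = dec tvCode[k] := fun k hk => by
    have hlen : tvCode.length = 12 := by simp [tvCode, mcode]
    simp only [tvCode, mcode, List.getElem_map, List.getElem_range, (dec_enc _).1, zero_add]
    rfl
  rw [dec_appF φ (enc w) tvCode 0 hk, show tvCode.length = 12 by simp [tvCode, mcode]]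
  have hw := (dec_enc w).1
  conv_rhs => rw [← hw, ← dec_bits ⟨enc w, (dec_enc w).2⟩]
  show _ = φ _
  rw [map_sum]
  refine Finset.sum_congr rfl fun k _ => ?_
  rw [zero_add, apply_ite φ, map_zero]

namespace Dat

variable {G : Type*} [Group G] [Finite G] {z : G} {Q : Subgroup (centralizer ({z} : Set G))} [Q.Normal]
  (D : Dat z Q) {g : G} {s : Q}

local notation "EE" => (((Q.map (centralizer ({z} : Set G)).subtype).map (MulAut.conj g).toMonoidHom ⊓
  centralizer ({z} : Set G)).subgroupOf (centralizer ({z} : Set G))).map (QuotientGroup.mk' Q)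

open Std

theorem exists_involution (hg : g * z * g⁻¹ = val s) (hs : val s ≠ 1) (hsz : val s ≠ z)
    (hπ : D.π s = ones) (hones : ones ∉ D.T.orb ⊤ v2) :
    ∃ f ∈ D.T.M, ∃ d, (d = om ∨ d = om * om) ∧ ∀ w, D.T.r f w = mapply (candM 0 1 d 1) w := by
  classical
  obtain ⟨-, -, hcard, -⟩ := D.pair_main hg hs hsz
  haveI hMn : D.T.M.Normal := Subgroup.normal_of_index_eq_two D.T.idx
  set F := EE ⊓ D.T.M with hF
  have hFE : ∀ a ∈ F, a ∈ EE := fun a ha => (Subgroup.mem_inf.1 ha).1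
  have hEc := D.EE_elementary hg
  have hcomm : ∀ a ∈ EE, ∀ b ∈ EE, a * b = b * a := fun a ha b hb =>
    congrArg Subtype.val (hEc.1.1.1 ⟨a, ha⟩ ⟨b, hb⟩)
  have hsq : ∀ a ∈ EE, a * a = 1 := fun a ha => by rw [← pow_two]; exact hEc.2 a ha
  have hnorm : ∀ t, D.T.r t ones = ones → t ∈ D.T.M → ∀ a ∈ F, t * a * t⁻¹ ∈ F := fun t ht htM a ha =>
    Subgroup.mem_inf.2 ⟨D.EE_normalised hg hs hsz (by rw [hπ]; exact ht) (hFE a ha),
      hMn.conj_mem a (Subgroup.mem_inf.1 ha).2 t⟩
  have hFne : F ≠ ⊥ := by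
    intro hbot
    have h1 := Subgroup.relIndex_dvd_index_of_normal D.T.M (EE)
    have h2 : D.T.M.relIndex (EE) * Nat.card F = Nat.card (EE) := by
      have h3 := Subgroup.card_mul_index ((D.T.M).subgroupOf (EE))
      rw [mul_comm, ← Nat.card_congr (Subgroup.subgroupOfEquivOfLe (inf_le_left : F ≤ EE)).toEquiv,
        show F.subgroupOf (EE) = (D.T.M).subgroupOf (EE) from Subgroup.ext fun a =>
          ⟨fun h => (Subgroup.mem_inf.1 (mem_subgroupOf.1 h)).2, fun h => mem_subgroupOf.2 (Subgroup.mem_inf.2 ⟨a.2, mem_subgroupOf.1 h⟩)⟩]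
      exact h3
    rw [hbot, Subgroup.card_bot, mul_one, hcard] at h2
    rw [h2, D.T.idx] at h1
    exact absurd (Nat.le_of_dvd two_pos h1) (by norm_num)
  obtain ⟨a0, ha0, ha01⟩ := (Subgroup.bot_or_exists_ne_one F).resolve_left hFne
  obtain ⟨p, hpM, hp, hpR⟩ := D.T.perm_rep ![1, 0, 3, 2, 4, 5] ![1, 0, 3, 2, 4, 5] (by decide) (by decide)
    (by decide)
  obtain ⟨q, hqM, hq, hqR⟩ := D.T.perm_rep ![2, 1, 0, 3, 5, 4] ![2, 1, 0, 3, 5, 4] (by decide) (by decide)
    (by decide)
  have hpo : D.T.r p ones = ones := by rw [hp]; rfl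
  have hqo : D.T.r q ones = ones := by rw [hq]; rfl
  have hp2 : p * p = 1 := (hpR.mul hpR).elt (by
    have : mul (pmcode ![1, 0, 3, 2, 4, 5]) (pmcode ![1, 0, 3, 2, 4, 5]) = (List.range 12).map fun k => 2 ^ k := by
      decide +kernel
    rw [this]; exact rep_one)
  have hq2 : q * q = 1 := (hqR.mul hqR).elt (by
    have : mul (pmcode ![2, 1, 0, 3, 5, 4]) (pmcode ![2, 1, 0, 3, 5, 4]) = (List.range 12).map fun k => 2 ^ k := by
      decide +kernel
    rw [this]; exact rep_one)
  have hz4 : p * q * (p * q) * (p * q * (p * q)) = 1 :=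
    (((hpR.mul hqR).mul (hpR.mul hqR)).mul ((hpR.mul hqR).mul (hpR.mul hqR))).elt (by
      have : mul (mul (mul (pmcode ![1, 0, 3, 2, 4, 5]) (pmcode ![2, 1, 0, 3, 5, 4]))
          (mul (pmcode ![1, 0, 3, 2, 4, 5]) (pmcode ![2, 1, 0, 3, 5, 4])))
          (mul (mul (pmcode ![1, 0, 3, 2, 4, 5]) (pmcode ![2, 1, 0, 3, 5, 4]))
          (mul (pmcode ![1, 0, 3, 2, 4, 5]) (pmcode ![2, 1, 0, 3, 5, 4]))) =
          (List.range 12).map fun k => 2 ^ k := by decide +kernel
      rw [this]; exact rep_one)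
  set e := p * q * (p * q) with he
  have heo : D.T.r e ones = ones := by simp only [he, r_mul, hpo, hqo]
  have heM : e ∈ D.T.M := mul_mem (mul_mem hpM hqM) (mul_mem hpM hqM)
  have hinv : ∀ t : (centralizer ({z} : Set G)) ⧸ Q, t * t = 1 → t⁻¹ = t := fun t ht =>
    inv_eq_of_mul_eq_one_right ht
  have hn : ∀ t, t * t = 1 → D.T.r t ones = ones → t ∈ D.T.M → ∀ a ∈ F, t * a * t ∈ F := fun t ht hto htM a ha => by
    have := hnorm t hto htM a ha
    rwa [hinv t ht] at this
  obtain ⟨b, hb, hb1, heb⟩ := fixed_nontrivial F (fun a ha b hb => hcomm a (hFE a ha) b (hFE b hb))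
    (fun a ha => hsq a (hFE a ha)) e hz4 (hn e hz4 heo heM) ha0 ha01
  let F1 := F ⊓ centralizer ({e} : Set ((centralizer ({z} : Set G)) ⧸ Q))
  have hF1 : ∀ t, t * t = 1 → D.T.r t ones = ones → t ∈ D.T.M → t * e * t = e⁻¹ →
      ∀ a ∈ F1, t * a * t ∈ F1 := fun t ht hto htM hte a ha => by
    refine Subgroup.mem_inf.2 ⟨hn t ht hto htM a (Subgroup.mem_inf.1 ha).1, mem_centralizer_singleton_iff.2 ?_⟩
    have hae : Commute a e := mem_centralizer_singleton_iff.1 (Subgroup.mem_inf.1 ha).2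
    rw [hinv e hz4] at hte
    have hte' : Commute t e := by
      show t * e = e * t
      calc t * e = t * e * (t * t) := by rw [ht, mul_one]
        _ = e * t := by rw [← mul_assoc, hte]
    exact ((hte'.mul_left hae).mul_left hte').eq
  have hpe : p * e * p = e⁻¹ := by
    rw [he, mul_inv_rev, mul_inv_rev, hinv p hp2, hinv q hq2]
    calc p * (p * q * (p * q)) * p = (p * p) * (q * (p * (q * p))) := by group
      _ = q * p * (q * p) := by rw [hp2, one_mul]; group
  have hqe : q * e * q = e⁻¹ := by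
    rw [he, mul_inv_rev, mul_inv_rev, hinv p hp2, hinv q hq2]
    calc q * (p * q * (p * q)) * q = q * p * (q * p) * (q * q) := by group
      _ = q * p * (q * p) := by rw [hq2, mul_one]
  obtain ⟨b', hb', hb'1, hpb⟩ := fixed_nontrivial F1
    (fun a ha b hb => hcomm a (hFE a (Subgroup.mem_inf.1 ha).1) b (hFE b (Subgroup.mem_inf.1 hb).1))
    (fun a ha => hsq a (hFE a (Subgroup.mem_inf.1 ha).1)) p hp2 (hF1 p hp2 hpo hpM hpe)
    (Subgroup.mem_inf.2 ⟨hb, mem_centralizer_singleton_iff.2 heb.symm⟩) hb1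
  let F2 := F1 ⊓ centralizer ({p} : Set ((centralizer ({z} : Set G)) ⧸ Q))
  have hF2 : ∀ a ∈ F2, q * a * q ∈ F2 := fun a ha => by
    have h1 := hF1 q hq2 hqo hqM hqe a (Subgroup.mem_inf.1 ha).1
    refine Subgroup.mem_inf.2 ⟨h1, mem_centralizer_singleton_iff.2 ?_⟩
    have hc1 : Commute (q * a * q) e := mem_centralizer_singleton_iff.1 (Subgroup.mem_inf.1 h1).2
    have hap : p * a * p = a := by
      rw [show p * a = a * p from (mem_centralizer_singleton_iff.1 (Subgroup.mem_inf.1 ha).2).symm, mul_assoc, hp2,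
        mul_one]
    have h3 : p * (q * a * q) * p = q * a * q := by
      calc p * (q * a * q) * p = p * q * (p * a * p) * (q * p) := by rw [hap]; group
        _ = e * (q * a * q) * e⁻¹ := by
          rw [he, mul_inv_rev, mul_inv_rev, hinv p hp2, hinv q hq2]
          calc p * q * (p * a * p) * (q * p) = p * q * p * (a * (p * (q * p))) := by group
            _ = p * q * (p * q) * (q * a * q) * (q * p * (q * p)) := by
              have : p * q * (p * q) * (q * a * q) * (q * p * (q * p)) =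
                  p * q * p * (q * q) * a * (q * q) * (p * (q * p)) := by group
              rw [this, hq2, mul_one, mul_one]; group
        _ = q * a * q := by rw [← hc1.eq, mul_inv_cancel_right]
    calc q * a * q * p = p * (q * a * q) * p * p := by rw [h3]
      _ = p * (q * a * q) := by rw [mul_assoc _ p p, hp2, mul_one]
  obtain ⟨f, hf, hf1, hqf⟩ := fixed_nontrivial F2
    (fun a ha b hb => hcomm a (hFE a (Subgroup.mem_inf.1 (Subgroup.mem_inf.1 ha).1).1) b
      (hFE b (Subgroup.mem_inf.1 (Subgroup.mem_inf.1 hb).1).1))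
    (fun a ha => hsq a (hFE a (Subgroup.mem_inf.1 (Subgroup.mem_inf.1 ha).1).1)) q hq2 hF2
    (Subgroup.mem_inf.2 ⟨hb', mem_centralizer_singleton_iff.2 hpb.symm⟩) hb'1
  have hfF : f ∈ F := (Subgroup.mem_inf.1 (Subgroup.mem_inf.1 hf).1).1
  have hfM : f ∈ D.T.M := (Subgroup.mem_inf.1 hfF).2
  have hfx : f * D.T.x * f⁻¹ = D.T.x := mul_inv_eq_iff_eq_mul.2 (D.T.central f hfM)
  have hfo : D.T.r f ones = ones := by
    have := D.EE_le_stab hg hs hsz (hFE f hfF)
    rw [hπ] at this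
    exact this
  have hfp : p * f = f * p := (mem_centralizer_singleton_iff.1 (Subgroup.mem_inf.1 hf).2).symm
  have hf2 : f * f = 1 := hsq f (hFE f hfF)
  -- the matrix
  let A : Fin 6 → Fin 6 → F4 := fun i j => D.T.r f (Pi.single j 1) i
  have hA : ∀ w, D.T.r f w = mapply A w := by
    intro w
    funext i
    have hw : w = ∑ j, w j • Pi.single j (1 : F4) := by
      funext k
      simp [Finset.sum_apply, Pi.single_apply]
    conv_lhs => rw [hw]
    rw [map_sum, Finset.sum_apply]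
    exact Finset.sum_congr rfl fun j _ => by rw [D.T.semilinear hfx]; rfl
  have hshift : ∀ (t : (centralizer ({z} : Set G)) ⧸ Q) (τ : Fin 6 → Fin 6), (∀ i, τ (τ i) = i) →
      (∀ a, D.T.r t a = fun i => a (τ i)) → t * f = f * t → ∀ i j, A (τ i) (τ j) = A i j := by
    intro t τ hτ ht htf i j
    have h := congrFun (congrArg (fun y => D.T.r y (Pi.single j 1)) htf) i
    simp only [r_mul, ht] at h
    rw [show (fun k => (Pi.single j (1 : F4) : V6) (τ k)) = Pi.single (τ j) 1 by
      funext k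
      simp only [Pi.single_apply]
      refine if_congr ⟨fun e => ?_, fun e => ?_⟩ rfl rfl
      · rw [← e, hτ]
      · rw [e, hτ]] at h
    show D.T.r f (Pi.single (τ j) 1) (τ i) = _
    have h' := congrFun (congrArg (fun y => D.T.r y (Pi.single (τ j) 1)) htf) i
    simp only [r_mul, ht] at h'
    rw [show (fun k => (Pi.single (τ j) (1 : F4) : V6) (τ k)) = Pi.single j 1 by
      funext k
      simp only [Pi.single_apply]
      refine if_congr ⟨fun e => ?_, fun e => ?_⟩ rfl rfl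
      · rw [← hτ k, e, hτ]
      · rw [e]] at h'
    exact h'
  have s1 := hshift p _ (by decide) hp hfp
  have s2 := hshift q _ (by decide) hq hqf
  have hrow : ∀ i, ∑ j, A i j = 1 := by
    intro i
    have h := congrFun hfo i
    rw [hA] at h
    simpa [mapply, ones] using h
  have hsym : ∀ i j, A j i = A i j * A i j := by
    intro i j
    have h := D.T.herm_r hfx (Pi.single i 1) (D.T.r f (Pi.single j 1))
    rw [← r_mul, hf2, r_one] at h
    have e1 : ∀ (y : V6) (k : Fin 6), herm y (Pi.single k 1) = y k := fun y k => by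
      simp [herm, Pi.single_apply]
    have e2 : ∀ (y : V6) (k : Fin 6), herm (Pi.single k 1) y = y k * y k := fun y k => by
      simp [herm, Pi.single_apply]
    rw [e1, e2] at h
    exact h
  have hshape : A = candM (A 0 0) (A 0 1) (A 0 4) (A 4 4) := by
    have a11 : A 1 1 = A 0 0 := s1 0 0
    have a22 : A 2 2 = A 0 0 := s2 0 0
    have a33 : A 3 3 = A 0 0 := (s1 2 2).trans a22
    have a10 : A 1 0 = A 0 1 := s1 0 1
    have a21 : A 2 1 = A 0 1 := s2 0 1
    have a12 : A 1 2 = A 0 1 := (s2 1 0).trans a10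
    have a03 : A 0 3 = A 0 1 := (s1 1 2).trans a12
    have a30 : A 3 0 = A 0 1 := (s1 2 1).trans a21
    have a23 : A 2 3 = A 0 1 := (s2 0 3).trans a03
    have a32 : A 3 2 = A 0 1 := (s2 3 0).trans a30
    have a20 : A 2 0 = A 0 2 := s2 0 2
    have a13 : A 1 3 = A 0 2 := s1 0 2
    have a31 : A 3 1 = A 0 2 := (s1 2 0).trans a20
    have a14 : A 1 4 = A 0 4 := s1 0 4
    have a25 : A 2 5 = A 0 4 := s2 0 4
    have a35 : A 3 5 = A 0 4 := (s1 2 5).trans a25
    have a15 : A 1 5 = A 0 4 := (s2 1 4).trans a14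
    have a05 : A 0 5 = A 0 4 := (s1 1 5).trans a15
    have a24 : A 2 4 = A 0 4 := (s2 0 5).trans a05
    have a34 : A 3 4 = A 0 4 := (s1 2 4).trans a24
    have a55 : A 5 5 = A 4 4 := s2 4 4
    have a54 : A 5 4 = A 4 5 := s2 4 5
    have hadd : ∀ x y : F4, x + y = 1 → y = x + 1 := by decide +kernel
    have hc : A 0 2 = A 0 0 + 1 := by
      have h := hrow 0
      rw [Fin.sum_univ_six, a03, a05] at h
      refine hadd _ _ ?_
      rw [← h]
      calc A 0 0 + A 0 2 = A 0 0 + A 0 2 + (A 0 1 + A 0 1) + (A 0 4 + A 0 4) := by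
            rw [f4_add_self, f4_add_self, add_zero, add_zero]
        _ = _ := by abel
    have b : ∀ i, A 4 i = A i 4 * A i 4 ∧ A 5 i = A i 5 * A i 5 := fun i => ⟨hsym i 4, hsym i 5⟩
    have hh : A 4 5 = A 4 4 + 1 := by
      have h := hrow 4
      rw [Fin.sum_univ_six, (b 0).1, (b 1).1, (b 2).1, (b 3).1, a14, a24, a34] at h
      refine hadd _ _ ?_
      rw [← h]
      calc A 4 4 + A 4 5 = A 4 4 + A 4 5 + (A 0 4 * A 0 4 + A 0 4 * A 0 4) + (A 0 4 * A 0 4 + A 0 4 * A 0 4) := by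
            rw [f4_add_self, add_zero, add_zero]
        _ = _ := by abel
    funext i j
    fin_cases i <;> fin_cases j <;>
      simp [candM, a11, a22, a33, a10, a21, a12, a03, a30, a23, a32, a20, a13, a31, a14, a25, a35, a15, a05,
        a24, a34, a55, a54, hc, hh, (b 0).1, (b 1).1, (b 2).1, (b 3).1, (b 0).2, (b 1).2, (b 2).2, (b 3).2]
  have ha : A 0 0 * A 0 0 = A 0 0 := (hsym 0 0).symm
  have hbb : A 0 1 * A 0 1 = A 0 1 := (hsym 0 1).symm.trans (s1 0 1)
  have hgg : A 4 4 * A 4 4 = A 4 4 := (hsym 4 4).symm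
  have hfR : D.T.Rep f (mcode (candM (A 0 0) (A 0 1) (A 0 4) (A 4 4))) := by
    refine Std.rep_of_eq (mcode_good _ _ _ _) _ hA fun k => ?_
    rw [mcode, List.getD_eq_getElem _ _ (by simp), List.getElem_map, List.getElem_range, (dec_enc _).1, ← hshape]
  -- conjugates
  have hconj : ∀ k : Fin 7, ∃ c, D.T.Rep c (cjc k (mcode (candM (A 0 0) (A 0 1) (A 0 4) (A 4 4)))) ∧ c ∈ EE := by
    intro k
    have hgd := pmcode_good k
    have hsgn : ∀ k : Fin 7, Equiv.Perm.sign (⟨(aux k).1, (aux k).2, fun i => ((pmcode_good k).2.2 i).2,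
        fun i => ((pmcode_good k).2.2 i).1⟩ : Equiv.Perm (Fin 6)) = 1 ∧
        Equiv.Perm.sign (⟨(aux k).2, (aux k).1, fun i => ((pmcode_good k).2.2 i).1,
        fun i => ((pmcode_good k).2.2 i).2⟩ : Equiv.Perm (Fin 6)) = 1 := by decide +kernel
    obtain ⟨u, huM, hu, huR⟩ := D.T.perm_rep (aux k).1 (aux k).2 _ _ (hsgn k).1
    obtain ⟨w, hwM, hw, hwR⟩ := D.T.perm_rep (aux k).2 (aux k).1 _ _ (hsgn k).2
    have huw : w = u⁻¹ := eq_inv_of_mul_eq_one_right (D.T.inj (LinearEquiv.ext fun a => by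
      rw [r_mul, hw, hu, map_one]
      funext i
      show a ((aux k).2 ((aux k).1 i)) = a i
      rw [(hgd.2.2 i).2]))
    refine ⟨u * f * w, (huR.mul hfR).mul hwR, ?_⟩
    rw [huw]
    exact (Subgroup.mem_inf.1 (hnorm u (by rw [hu]; rfl) huM f hfF)).1
  obtain ⟨c, hcR, hcE⟩ := hconj 0
  rcases cand_cases _ _ (A 0 4) _ ha hbb hgg (((hfR.mul hcR).code (by
      rw [hcomm f (hFE f hfF) c hcE]; exact hcR.mul hfR))) with h | ⟨h1, h2, h3, h4⟩ | ⟨w, -, hw⟩
  · exact absurd (hfR.elt (by rw [h, el_zero]; exact rep_one)) hf1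
  · refine ⟨f, hfM, A 0 4, h4, fun u => ?_⟩
    rw [hA]
    conv_lhs => rw [hshape, h1, h2, h3]
  · exfalso
    have hrep : ∀ l, ∃ c, D.T.Rep c (wcode (mcode (candM (A 0 0) (A 0 1) (A 0 4) (A 4 4))) l) := by
      intro l
      induction l with
      | nil => exact ⟨1, by rw [wcode, el_zero]; exact rep_one⟩
      | cons k ks ih =>
        obtain ⟨c, hc, -⟩ := hconj k
        obtain ⟨d, hd⟩ := ih
        exact ⟨c * d, hc.mul hd⟩
    obtain ⟨y, hy⟩ := hrep w
    rw [hw] at hy
    exact D.T.no_tv (by decide +kernel) (fun e => one_ne_zero (congrFun e 0)) hones ⟨y, tv_code hy⟩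

include D in
/-- Coordinates in which the quotient contains the tabulated involution. -/
theorem exists_coded (hg : g * z * g⁻¹ = val s) (hs : val s ≠ 1) (hsz : val s ≠ z) :
    ∃ D' : Dat z Q, ∃ f ∈ D'.T.M, D'.T.Rep f (gn 2) := by
  obtain ⟨D1, g1, s1, h1, h2, h3, h4, h5⟩ := D.exists_frame hg hs hsz
  obtain ⟨f, hfM, d, hd, hf⟩ := D1.exists_involution h1 h2 h3 h4 h5
  have mk : ∀ (D2 : Dat z Q) (f : _), f ∈ D2.T.M → (∀ w, D2.T.r f w = mapply (candM 0 1 om 1) w) →
      ∃ D' : Dat z Q, ∃ f ∈ D'.T.M, D'.T.Rep f (gn 2) := fun D2 f hfM hf => by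
    refine ⟨D2, f, hfM, ?_⟩
    rw [← good_code.1]
    refine Std.rep_of_eq (mcode_good _ _ _ _) _ hf fun k => ?_
    rw [mcode, List.getD_eq_getElem _ _ (by simp), List.getElem_map, List.getElem_range, (dec_enc _).1]
  rcases hd with rfl | rfl
  · exact mk D1 f hfM hf
  · refine mk D1.ftwist f hfM fun w => ?_
    show frob (D1.T.r f (frob w)) = _
    rw [hf]
    funext i
    simp only [frob, mapply]
    have hs : ∀ u : Fin 6 → F4, (∑ j, u j) * (∑ j, u j) = ∑ j, u j * u j := fun u => by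
      simp only [Fin.sum_univ_six, f4_sq_add]
    rw [hs]
    refine Finset.sum_congr rfl fun j _ => ?_
    calc w j * w j * candM 0 1 (om * om) 1 i j * (w j * w j * candM 0 1 (om * om) 1 i j) =
        (w j * w j * (w j * w j)) * (candM 0 1 (om * om) 1 i j * candM 0 1 (om * om) 1 i j) := by ring
      _ = w j * candM 0 1 om 1 i j := by
        rw [f4_pow_four, cand_frob, show (0 : F4) * 0 = 0 from mul_zero _, show (1 : F4) * 1 = 1 from one_mul _,
          f4_pow_four om]

end Dat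

end CfsgLib.FiLarge
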