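import Cfsg.Agent.FiLarge.Weights

/-!
The elementary abelian group of order 243 over the model and the extension acting on it.
-/

set_option autoImplicit false

namespace CfsgLib.FiLarge

/-- The natural number power indexed by the prime field. -/
def zp {C : Type*} [Group C] (x : C) (c : ZMod 3) : C := x ^ c.val

theorem zp_add {C : Type*} [Group C] {x : C} (hx : x ^ 3 = 1) (a b : ZMod 3) :
    zp x (a + b) = zp x a * zp x b := by
  rw [zp, zp, zp, ← pow_add, ZMod.val_add, ← pow_mod_orderOf, ← pow_mod_orderOf x (a.val + b.val),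
    Nat.mod_mod_of_dvd _ (orderOf_dvd_of_pow_eq_one hx)]

theorem zp_eq {C : Type*} [Group C] {x : C} (hx : x ^ 3 = 1) (hx1 : x ≠ 1) {a b : ZMod 3}
    (h : zp x a = zp x b) : a = b := by
  haveI : Fact (Nat.Prime 3) := ⟨Nat.prime_three⟩
  have ho : orderOf x = 3 := orderOf_eq_prime hx hx1
  exact ZMod.val_injective 3 (pow_injOn_Iio_orderOf (by rw [ho]; exact Set.mem_Iio.2 (ZMod.val_lt a))
    (by rw [ho]; exact Set.mem_Iio.2 (ZMod.val_lt b)) h)

theorem zp_zero {C : Type*} [Group C] (x : C) : zp x 0 = 1 := pow_zero x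

theorem zp_one {C : Type*} [Group C] (x : C) : zp x 1 = x := pow_one x

theorem hd_add (a b : Y) : hd (a + b) = hd a + hd b := rfl

variable {M P : Type*} [Group M] [Group P]

/-- A central cover of a group containing the model. -/
structure Cov (M P : Type*) [Group M] [Group P] where
  /-- The cover. -/
  ψ : M →* P
  surj : Function.Surjective ψ
  /-- The central element. -/
  x : M
  pow3 : x ^ 3 = 1
  ne1 : x ≠ 1
  ker : ∀ m, ψ m = 1 ↔ ∃ c : ZMod 3, m = zp x c
  central : ∀ m, m * x = x * m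
  /-- The model. -/
  L : W → P
  L_add : ∀ a b, L (a + b) = L a * L b
  L_inj : Function.Injective L
  norm : ∀ p : A6, ∃ n, ∀ a, n * L a * n⁻¹ = L (rho p a)

namespace Cov

variable (K : Cov M P)

theorem L_zero : K.L 0 = 1 := by
  have h := K.L_add 0 0
  rw [add_zero] at h
  exact mul_left_cancel (h.symm.trans (mul_one _).symm)

theorem zp_central (c : ZMod 3) (m : M) : m * zp K.x c = zp K.x c * m :=
  (show Commute m K.x from K.central m).pow_right _

theorem ψ_zp (c : ZMod 3) : K.ψ (zp K.x c) = 1 := (K.ker _).2 ⟨c, rfl⟩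

/-- A preimage. -/
noncomputable def lift (a : W) : M := (K.surj (K.L a)).choose

theorem ψ_lift (a : W) : K.ψ (K.lift a) = K.L a := (K.surj (K.L a)).choose_spec

theorem exists_zp {m : M} {a : W} (h : K.ψ m = K.L a) : ∃ c, m = K.lift a * zp K.x c := by
  obtain ⟨c, hc⟩ := (K.ker ((K.lift a)⁻¹ * m)).1 (by rw [map_mul, map_inv, h, K.ψ_lift, inv_mul_cancel])
  exact ⟨c, inv_mul_eq_iff_eq_mul.1 hc⟩

theorem L_comm (a b : W) : K.L a * K.L b = K.L b * K.L a := by
  rw [← K.L_add, add_comm, K.L_add]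

theorem rho_unit_ne : rho g3 (unitW 0) ≠ unitW 0 := by decide +kernel

theorem comm_lift (g h : M) {a b : W} (hg : K.ψ g = K.L a) (hh : K.ψ h = K.L b) :
    g * h = h * g := by
  have hex : ∀ a b : W, ∃ c, K.lift a * K.lift b = zp K.x c * (K.lift b * K.lift a) := by
    intro a b
    obtain ⟨c, hc⟩ := (K.ker (K.lift a * K.lift b * (K.lift b * K.lift a)⁻¹)).1 (by
      simp only [map_mul, map_inv, K.ψ_lift, K.L_comm a b, mul_inv_cancel])
    exact ⟨c, mul_inv_eq_iff_eq_mul.1 hc⟩
  choose f hf using hex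
  have hgen : ∀ a b g h, K.ψ g = K.L a → K.ψ h = K.L b → g * h = zp K.x (f a b) * (h * g) := by
    intro a b g h hg hh
    obtain ⟨s, rfl⟩ := K.exists_zp hg
    obtain ⟨t, rfl⟩ := K.exists_zp hh
    calc K.lift a * zp K.x s * (K.lift b * zp K.x t)
        = K.lift a * (zp K.x s * K.lift b) * zp K.x t := by group
      _ = K.lift a * K.lift b * (zp K.x s * zp K.x t) := by rw [← K.zp_central]; group
      _ = zp K.x (f a b) * (K.lift b * (K.lift a * (zp K.x s * zp K.x t))) := by rw [hf]; group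
      _ = zp K.x (f a b) * (K.lift b * (K.lift a * (zp K.x t * zp K.x s))) := by
          rw [K.zp_central t (zp K.x s)]
      _ = zp K.x (f a b) * (K.lift b * ((K.lift a * zp K.x t) * zp K.x s)) := by group
      _ = _ := by rw [K.zp_central t (K.lift a)]; group
  have huniq : ∀ {u v : ZMod 3} {m : M}, zp K.x u * m = zp K.x v * m → u = v := fun h =>
    zp_eq K.pow3 K.ne1 (mul_right_cancel h)
  have fadd : ∀ a a' b, f (a + a') b = f a b + f a' b := by
    intro a a' b
    refine huniq (m := K.lift b * (K.lift a * K.lift a')) ?_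
    rw [← hgen (a + a') b _ _ (by rw [map_mul, K.ψ_lift, K.ψ_lift, K.L_add]) (K.ψ_lift b)]
    calc K.lift a * K.lift a' * K.lift b = K.lift a * (K.lift a' * K.lift b) := mul_assoc _ _ _
      _ = K.lift a * zp K.x (f a' b) * (K.lift b * K.lift a') := by rw [hf]; group
      _ = zp K.x (f a' b) * (K.lift a * K.lift b) * K.lift a' := by rw [K.zp_central]; group
      _ = zp K.x (f a' b) * zp K.x (f a b) * (K.lift b * (K.lift a * K.lift a')) := by rw [hf]; group
      _ = _ := by rw [← zp_add K.pow3, add_comm (f a' b)]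
  have fself : ∀ a, f a a = 0 := fun a => huniq (m := K.lift a * K.lift a)
    (by rw [← hf, zp_zero, one_mul])
  have fswap : ∀ a b, f b a = -f a b := by
    intro a b
    have h := fself (a + b)
    have e : ∀ c, f c (a + b) = f c a + f c b := by
      intro c
      have h1 : ∀ u v, f u v + f v u = 0 := by
        intro u v
        refine huniq (m := K.lift v * K.lift u) ?_
        rw [zp_add K.pow3, K.zp_central (f v u) (zp K.x (f u v)), mul_assoc, ← hf u v, zp_zero, one_mul,
          ← hf v u]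
      linear_combination h1 c (a + b) - fadd a b c - h1 c a - h1 c b
    rw [fadd, e, e, fself, fself] at h
    linear_combination h
  have finv : ∀ p a b, f (rho p a) (rho p b) = f a b := by
    intro p a b
    obtain ⟨n', hn'⟩ := K.norm p
    obtain ⟨n, rfl⟩ := K.surj n'
    have h1 := hgen (rho p a) (rho p b) (n * K.lift a * n⁻¹) (n * K.lift b * n⁻¹)
      (by rw [map_mul, map_mul, map_inv, K.ψ_lift, hn']) (by rw [map_mul, map_mul, map_inv, K.ψ_lift, hn'])
    refine huniq (m := n * (K.lift b * K.lift a) * n⁻¹) ?_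
    calc zp K.x (f (rho p a) (rho p b)) * (n * (K.lift b * K.lift a) * n⁻¹)
        = zp K.x (f (rho p a) (rho p b)) * (n * K.lift b * n⁻¹ * (n * K.lift a * n⁻¹)) := by group
      _ = n * (K.lift a * K.lift b) * n⁻¹ := by rw [← h1]; group
      _ = n * zp K.x (f a b) * (K.lift b * K.lift a) * n⁻¹ := by rw [hf]; group
      _ = _ := by rw [K.zp_central (f a b) n]; group
  have fadd' : ∀ a b b', f a (b + b') = f a b + f a b' := fun a b b' => by
    rw [fswap, fadd, fswap a b, fswap a b']; ring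
  have fsmul : ∀ (c : ZMod 3) a b, f (c • a) b = c * f a b := fun c a b =>
    map_smul ((AddMonoidHom.mk' (fun u => f u b) fun u v => fadd u v b).toZModLinearMap 3) c a
  have fsmul' : ∀ (c : ZMod 3) a b, f a (c • b) = c * f a b := fun c a b =>
    map_smul ((AddMonoidHom.mk' (fun u => f a u) fun u v => fadd' a u v).toZModLinearMap 3) c b
  let cc : Fin 6 → ZMod 3 := ![f (unitW 0) (unitW 1), f (unitW 0) (unitW 2), f (unitW 0) (unitW 3),
    f (unitW 1) (unitW 2), f (unitW 1) (unitW 3), f (unitW 2) (unitW 3)]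
  have halt : ∀ a b, f a b = altForm cc a b := by
    intro a b
    conv_lhs => rw [expand a, expand b]
    simp only [fadd, fadd', fsmul, fsmul', fself]
    rw [fswap (unitW 0) (unitW 1), fswap (unitW 0) (unitW 2), fswap (unitW 0) (unitW 3),
      fswap (unitW 1) (unitW 2), fswap (unitW 1) (unitW 3), fswap (unitW 2) (unitW 3)]
    simp only [altForm, cc, Matrix.cons_val]
    ring
  have hc : cc = 0 := by
    by_contra hne
    exact no_invariant_form cc hne fun i j =>
      ⟨by rw [← halt, ← halt, finv], by rw [← halt, ← halt, finv]⟩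
  rw [hgen a b g h hg hh, halt, hc, show altForm 0 a b = 0 by simp [altForm], zp_zero, one_mul]

theorem cube_lift (g : M) {a : W} (hg : K.ψ g = K.L a) : g ^ 3 = 1 := by
  have hex : ∀ a, ∃ c, K.lift a ^ 3 = zp K.x c := by
    intro a
    refine (K.ker _).1 ?_
    rw [map_pow, K.ψ_lift, pow_succ, pow_two, ← K.L_add, ← K.L_add]
    convert K.L_zero using 2
    funext i
    simp only [Pi.add_apply, Pi.zero_apply]
    generalize a i = t
    revert t
    decide
  choose t ht using hex
  have hgen : ∀ g a, K.ψ g = K.L a → g ^ 3 = zp K.x (t a) := by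
    intro g a hg
    obtain ⟨s, rfl⟩ := K.exists_zp hg
    rw [(show Commute (K.lift a) (zp K.x s) from K.zp_central s _).mul_pow, ht,
      show zp K.x s ^ 3 = (K.x ^ 3) ^ s.val from by rw [zp, ← pow_mul, ← pow_mul, mul_comm],
      K.pow3, one_pow, mul_one]
  have tadd : ∀ a b, t (a + b) = t a + t b := by
    intro a b
    refine zp_eq K.pow3 K.ne1 ?_
    rw [zp_add K.pow3, ← hgen (K.lift a * K.lift b) (a + b) (by rw [map_mul, K.ψ_lift, K.ψ_lift, K.L_add]),
      (show Commute (K.lift a) (K.lift b) from K.comm_lift _ _ (K.ψ_lift a) (K.ψ_lift b)).mul_pow, ht, ht]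
  have tinv : ∀ p a, t (rho p a) = t a := by
    intro p a
    obtain ⟨n', hn'⟩ := K.norm p
    obtain ⟨n, rfl⟩ := K.surj n'
    refine zp_eq K.pow3 K.ne1 ?_
    rw [← hgen (n * K.lift a * n⁻¹) (rho p a) (by rw [map_mul, map_mul, map_inv, K.ψ_lift, hn']), conj_pow, ht,
      K.zp_central, mul_inv_cancel_right]
  let l : W := fun i => t (unitW i)
  have htl : ∀ a, t a = dotW l a := by
    intro a
    conv_lhs => rw [expand a]
    have hs : ∀ (c : ZMod 3) u, t (c • u) = c * t u := fun c u =>
      map_smul ((AddMonoidHom.mk' t tadd).toZModLinearMap 3) c u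
    simp only [tadd, hs, dotW, l, Fin.sum_univ_four]
    ring
  have hl : l = 0 := by
    by_contra hne
    exact no_invariant_functional l hne
      ⟨fun i => Or.inl (by rw [← htl, ← htl, tinv]), fun i => Or.inl (by rw [← htl, ← htl, tinv])⟩
  rw [hgen g a hg, htl, hl, show dotW 0 a = 0 by simp [dotW], zp_zero]

/-- The group of order 243. -/
noncomputable def phi (y : Y) : M :=
  zp (K.lift (unitW 0)) (y 0) * zp (K.lift (unitW 1)) (y 1) * zp (K.lift (unitW 2)) (y 2) *
    zp (K.lift (unitW 3)) (y 3) * zp K.x (y 4)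

theorem L_zp (c : ZMod 3) (a : W) : zp (K.L a) c = K.L (c • a) := by
  rcases (by decide : ∀ c : ZMod 3, c = 0 ∨ c = 1 ∨ c = 2) c with rfl | rfl | rfl
  · rw [zp_zero, zero_smul, K.L_zero]
  · rw [zp_one, one_smul]
  · rw [show zp (K.L a) 2 = K.L a ^ 2 from rfl, pow_two, ← K.L_add, two_smul]

theorem ψ_phi (y : Y) : K.ψ (K.phi y) = K.L (hd y) := by
  have h : ∀ (m : M) (c : ZMod 3), K.ψ (zp m c) = zp (K.ψ m) c := fun m c => map_pow _ _ _
  simp only [phi, map_mul, K.ψ_zp, mul_one, h, K.ψ_lift, K.L_zp, ← K.L_add]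
  congr 1
  conv_rhs => rw [expand (hd y)]
  rfl

theorem phi_add (y z : Y) : K.phi (y + z) = K.phi y * K.phi z := by
  let A : Subgroup M := Subgroup.closure ({m | ∃ a, K.ψ m = K.L a})
  have hcomm : ∀ a ∈ {m | ∃ a, K.ψ m = K.L a}, ∀ b ∈ {m | ∃ a, K.ψ m = K.L a}, a * b = b * a :=
    fun a ⟨u, hu⟩ b ⟨v, hv⟩ => K.comm_lift a b hu hv
  letI : CommGroup A := Subgroup.closureCommGroupOfComm hcomm
  let u : Fin 4 → A := fun i => ⟨K.lift (unitW i), Subgroup.subset_closure ⟨_, K.ψ_lift _⟩⟩
  let xA : A := ⟨K.x, Subgroup.subset_closure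
    ⟨0, by rw [K.L_zero]; exact (K.ker _).2 ⟨1, (zp_one _).symm⟩⟩⟩
  let Φ : Y → A := fun y => zp (u 0) (y 0) * zp (u 1) (y 1) * zp (u 2) (y 2) * zp (u 3) (y 3) * zp xA (y 4)
  have hΦ : ∀ y, (Φ y : M) = K.phi y := fun y => rfl
  have hu : ∀ i, u i ^ 3 = 1 := fun i => Subtype.ext (K.cube_lift _ (K.ψ_lift _))
  have hx : xA ^ 3 = 1 := Subtype.ext K.pow3
  have h : Φ (y + z) = Φ y * Φ z := by
    simp only [Φ, Pi.add_apply, zp_add (hu 0), zp_add (hu 1), zp_add (hu 2), zp_add (hu 3), zp_add hx]
    ac_rfl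
  exact congrArg Subtype.val h

theorem phi_x : K.phi xY = K.x := by
  simp [phi, xY, zp_zero, zp_one, Pi.single_apply]

theorem phi_inj : Function.Injective K.phi := by
  intro y z h
  have h1 : hd y = hd z := K.L_inj (by rw [← K.ψ_phi, h, K.ψ_phi])
  have h0 : ∀ i : Fin 4, y i.castSucc = z i.castSucc := fun i => congrFun h1 i
  have h4 : y 4 = z 4 := by
    unfold phi at h
    rw [show y 0 = z 0 from h0 0, show y 1 = z 1 from h0 1, show y 2 = z 2 from h0 2,
      show y 3 = z 3 from h0 3] at h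
    exact zp_eq K.pow3 K.ne1 (mul_left_cancel h)
  funext i
  exact Fin.lastCases h4 h0 i

theorem exists_phi {m : M} {a : W} (h : K.ψ m = K.L a) : ∃ y, K.phi y = m := by
  let y0 : Y := ![a 0, a 1, a 2, a 3, 0]
  have hy : hd y0 = a := by
    funext i
    fin_cases i <;> rfl
  obtain ⟨c, hc⟩ := (K.ker ((K.phi y0)⁻¹ * m)).1
    (by rw [map_mul, map_inv, K.ψ_phi, hy, h, inv_mul_cancel])
  refine ⟨y0 + c • xY, ?_⟩
  have hcx : K.phi (c • xY) = zp K.x c := by
    simp [phi, xY, zp_zero, Pi.single_apply]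
  rw [K.phi_add, hcx, inv_mul_eq_iff_eq_mul.1 hc]

/-- The extension. -/
def gam : Subgroup (M × A6) where
  carrier := {u | ∀ a, K.ψ u.1 * K.L a * (K.ψ u.1)⁻¹ = K.L (rho u.2 a)}
  one_mem' := fun a => by simp
  mul_mem' := fun {u v} hu hv a => by
    simp only [Prod.fst_mul, Prod.snd_mul, map_mul, Equiv.Perm.mul_apply]
    rw [← hu, ← hv]
    group
  inv_mem' := fun {u} hu a => by
    simp only [Prod.fst_inv, Prod.snd_inv, map_inv, inv_inv]
    have h := hu ((rho u.2)⁻¹ a)
    rw [Equiv.Perm.coe_inv, Equiv.apply_symm_apply] at h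
    rw [← h, Equiv.Perm.coe_inv]
    group

theorem exists_move (g : K.gam) (y : Y) : ∃ z, K.phi z = g.1.1 * K.phi y * (g.1.1)⁻¹ :=
  K.exists_phi (a := rho g.1.2 (hd y)) (by rw [map_mul, map_mul, map_inv, K.ψ_phi]; exact g.2 _)

/-- The permutation of the group of order 243. -/
noncomputable def move (g : K.gam) (y : Y) : Y := (K.exists_move g y).choose

theorem phi_move (g : K.gam) (y : Y) : K.phi (K.move g y) = g.1.1 * K.phi y * (g.1.1)⁻¹ :=
  (K.exists_move g y).choose_spec

theorem move_mul (g h : K.gam) (y : Y) : K.move (g * h) y = K.move g (K.move h y) :=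
  K.phi_inj (by
    simp only [phi_move]
    show g.1.1 * h.1.1 * K.phi y * (g.1.1 * h.1.1)⁻¹ = _
    group)

theorem move_one (y : Y) : K.move 1 y = y := K.phi_inj (by simp [phi_move])

/-- The extension acting on the group of order 243. -/
noncomputable def ext : Ext K.gam where
  f :=
    { toFun := fun g =>
        { toFun := K.move g
          invFun := K.move g⁻¹
          left_inv := fun y => by rw [← move_mul, inv_mul_cancel, move_one]
          right_inv := fun y => by rw [← move_mul, mul_inv_cancel, move_one] }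
      map_one' := Equiv.ext K.move_one
      map_mul' := fun g h => Equiv.ext (K.move_mul g h) }
  p := (MonoidHom.snd M A6).comp K.gam.subtype
  surj := fun p => by
    obtain ⟨n', hn'⟩ := K.norm p
    obtain ⟨n, rfl⟩ := K.surj n'
    exact ⟨⟨(n, p), hn'⟩, rfl⟩
  add := fun g a b => K.phi_inj (by
    show K.phi (K.move g (a + b)) = K.phi (K.move g a + K.move g b)
    rw [K.phi_add]
    simp only [phi_move, K.phi_add]
    group)
  fix := fun g => K.phi_inj (by
    show K.phi (K.move g xY) = _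
    rw [phi_move, K.phi_x, K.central, mul_inv_cancel_right])
  head := fun g y => K.L_inj (by
    show K.L (hd (K.move g y)) = K.L (rho g.1.2 (hd y))
    rw [← K.ψ_phi, phi_move, map_mul, map_mul, map_inv, K.ψ_phi]
    exact g.2 _)

end Cov

end CfsgLib.FiLarge
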