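import Mathlib.LinearAlgebra.Pi
import Mathlib.Data.ZMod.Basic
import Mathlib.Algebra.Module.LinearMap.End
import Mathlib.SetTheory.Cardinal.Finite
import Mathlib.Tactic

/-!
Weight projections for an elementary abelian group of order 243 acting on a binary space which
carries a commuting structure of vector space over the field of four elements.
-/

set_option autoImplicit false

namespace CfsgLib.FiLarge

/-- The group of exponent three. -/
abbrev Y : Type := Fin 5 → ZMod 3

/-- The pairing. -/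
def dot5 (l y : Y) : ZMod 3 := ∑ i, l i * y i

theorem dot5_add (l a b : Y) : dot5 l (a + b) = dot5 l a + dot5 l b := by
  simp [dot5, mul_add, Finset.sum_add_distrib]

theorem add_dot5 (l m a : Y) : dot5 (l + m) a = dot5 l a + dot5 m a := by
  simp [dot5, add_mul, Finset.sum_add_distrib]

theorem sub_dot5 (l m a : Y) : dot5 (l - m) a = dot5 l a - dot5 m a := by
  simp [dot5, sub_mul, Finset.sum_sub_distrib]

theorem neg_dot5 (l a : Y) : dot5 (-l) a = -dot5 l a := by simp [dot5]

theorem dot5_single (l : Y) (i : Fin 5) : dot5 l (Pi.single i 1) = l i := by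
  simp [dot5, Pi.single_apply]

theorem dot5_sum {ι : Type*} (s : Finset ι) (c : ι → ZMod 3) (l : Y) (v : ι → Y) :
    dot5 l (∑ i ∈ s, c i • v i) = ∑ i ∈ s, c i * dot5 l (v i) := by
  simp only [dot5, Finset.sum_apply, Pi.smul_apply, smul_eq_mul, Finset.mul_sum]
  rw [Finset.sum_comm]
  exact Finset.sum_congr rfl fun i _ => Finset.sum_congr rfl fun j _ => by ring

variable {U : Type*} [AddCommGroup U] [Module (ZMod 2) U]

/-- An action together with a scalar of order three. -/
structure Wt (U : Type*) [AddCommGroup U] [Module (ZMod 2) U] where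
  /-- The scalar. -/
  w : Module.End (ZMod 2) U
  /-- The action. -/
  act : Y → Module.End (ZMod 2) U
  rel : ∀ v : U, w (w v) + w v + v = 0
  act_zero : ∀ v : U, act 0 v = v
  act_add : ∀ a b v, act (a + b) v = act a (act b v)
  comm : ∀ a v, w (act a v) = act a (w v)

namespace Wt

variable (D : Wt U)

theorem add_self (v : U) : v + v = 0 := by
  rw [← two_smul (ZMod 2) v, show (2 : ZMod 2) = 0 by decide, zero_smul]

theorem w_w (v : U) : D.w (D.w v) = D.w v + v := by
  have h := D.rel v
  rw [add_assoc] at h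
  rw [← add_zero (D.w (D.w v)), ← add_self (D.w v + v), ← add_assoc, h, zero_add]

theorem w_cube (v : U) : D.w (D.w (D.w v)) = v := by
  rw [D.w_w (D.w v), D.w_w]
  calc D.w v + v + D.w v = v + (D.w v + D.w v) := by abel
    _ = v := by rw [add_self, add_zero]

/-- A power of the scalar. -/
def pw (c : ZMod 3) : Module.End (ZMod 2) U :=
  if c = 0 then 1 else if c = 1 then D.w else D.w * D.w

theorem pw_zero (v : U) : D.pw 0 v = v := by simp [pw]
theorem pw_one (v : U) : D.pw 1 v = D.w v := by simp [pw]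
theorem pw_two (v : U) : D.pw 2 v = D.w (D.w v) := by
  simp [pw, show (2 : ZMod 3) ≠ 0 by decide, show (2 : ZMod 3) ≠ 1 by decide]

theorem pw_add (a b : ZMod 3) (v : U) : D.pw (a + b) v = D.pw a (D.pw b v) := by
  have hc : ∀ c : ZMod 3, c = 0 ∨ c = 1 ∨ c = 2 := by decide
  rcases hc a with rfl | rfl | rfl <;> rcases hc b with rfl | rfl | rfl <;>
    simp only [add_zero, zero_add, show (1 : ZMod 3) + 1 = 2 by decide, show (1 : ZMod 3) + 2 = 0 by decide,
      show (2 : ZMod 3) + 1 = 0 by decide, show (2 : ZMod 3) + 2 = 1 by decide,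
      D.pw_zero, D.pw_one, D.pw_two, D.w_cube]

theorem pw_comm (c : ZMod 3) (a : Y) (v : U) : D.pw c (D.act a v) = D.act a (D.pw c v) := by
  have hc : ∀ c : ZMod 3, c = 0 ∨ c = 1 ∨ c = 2 := by decide
  rcases hc c with rfl | rfl | rfl <;> simp only [D.pw_zero, D.pw_one, D.pw_two, D.comm]

theorem pw_fix {c : ZMod 3} (hc0 : c ≠ 0) {v : U} (h : D.pw c v = v) : v = 0 := by
  have hc : c = 1 ∨ c = 2 := by
    clear h
    revert hc0; revert c; decide
  have h1 : D.w v = v := by
    rcases hc with rfl | rfl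
    · rwa [D.pw_one] at h
    · rw [D.pw_two] at h
      calc D.w v = D.w (D.w (D.w v)) := by rw [h]
        _ = v := D.w_cube v
  have h2 := D.rel v
  rwa [h1, h1, add_self, zero_add] at h2

/-- The projection of a weight. -/
noncomputable def proj (l : Y) : Module.End (ZMod 2) U := ∑ y : Y, D.pw (-dot5 l y) * D.act y

theorem proj_apply (l : Y) (v : U) : D.proj l v = ∑ y : Y, D.pw (-dot5 l y) (D.act y v) := by
  simp [proj, LinearMap.sum_apply]

theorem act_proj (b l : Y) (v : U) : D.act b (D.proj l v) = D.pw (dot5 l b) (D.proj l v) := by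
  rw [proj_apply, map_sum, map_sum]
  refine (Equiv.sum_comp (Equiv.addLeft (-b)) _).symm.trans (Finset.sum_congr rfl fun y _ => ?_)
  simp only [Equiv.coe_addLeft]
  rw [← D.pw_comm, ← D.act_add, ← D.pw_add, add_neg_cancel_left]
  congr 2
  rw [dot5_add, show dot5 l (-b) = -dot5 l b by simp [dot5]]
  ring

theorem sum_pw (d : Y) (hd : d ≠ 0) (v : U) : ∑ y : Y, D.pw (dot5 d y) v = 0 := by
  obtain ⟨i, hi⟩ := Function.ne_iff.1 hd
  refine D.pw_fix hi ?_
  rw [map_sum]
  refine Eq.trans (Finset.sum_congr rfl fun y _ => ?_)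
    (Equiv.sum_comp (Equiv.addLeft (Pi.single i 1)) fun y => D.pw (dot5 d y) v)
  rw [← D.pw_add, Equiv.coe_addLeft, dot5_add, dot5_single]

theorem card_Y_odd (v : U) : ∑ _y : Y, v = v := by
  rw [Finset.sum_const, Finset.card_univ, show Fintype.card Y = 243 by simp]
  rw [show (243 : ℕ) • v = 121 • (v + v) + v by rw [smul_add, ← add_smul, ← succ_nsmul],
    add_self, smul_zero, zero_add]

theorem proj_proj (l m : Y) (v : U) : D.proj l (D.proj m v) = if l = m then D.proj m v else 0 := by
  rw [proj_apply]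
  have h : ∀ y, D.pw (-dot5 l y) (D.act y (D.proj m v)) = D.pw (dot5 (m - l) y) (D.proj m v) := by
    intro y
    rw [D.act_proj, ← D.pw_add, sub_dot5]
    congr 2
    ring
  simp only [h]
  split_ifs with e
  · subst e
    simp only [sub_self, show ∀ y, dot5 0 y = 0 by simp [dot5], D.pw_zero, card_Y_odd]
  · exact D.sum_pw _ (sub_ne_zero.2 (Ne.symm e)) _

theorem sum_proj (v : U) : ∑ l : Y, D.proj l v = v := by
  simp only [proj_apply]
  rw [Finset.sum_comm, Finset.sum_eq_single (0 : Y)]
  · simp only [show ∀ l, dot5 l 0 = 0 by simp [dot5], neg_zero, D.pw_zero, D.act_zero, card_Y_odd]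
  · intro y _ hy
    have h : ∀ l : Y, -dot5 l y = dot5 (-y) l := fun l => by simp [dot5, mul_comm]
    simp only [h]
    exact D.sum_pw _ (neg_ne_zero.2 hy) _
  · simp

theorem proj_w (l : Y) (v : U) : D.proj l (D.w v) = D.w (D.proj l v) := by
  rw [proj_apply, proj_apply, map_sum]
  refine Finset.sum_congr rfl fun y _ => ?_
  rw [← D.comm, ← D.pw_one, ← D.pw_add, add_comm, D.pw_add, D.pw_one]

open Classical in
/-- The weights. -/
noncomputable def wts : Finset Y := Finset.univ.filter fun l => D.proj l ≠ 0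

theorem mem_wts {l : Y} : l ∈ D.wts ↔ D.proj l ≠ 0 := by simp [wts]

theorem exists_wt_ne {v : U} (hv : v ≠ 0) : ∃ l ∈ D.wts, D.proj l v ≠ 0 := by
  by_contra h
  push Not at h
  refine hv ((D.sum_proj v).symm.trans (Finset.sum_eq_zero fun l _ => ?_))
  by_cases hl : l ∈ D.wts
  · exact h l hl
  · rw [not_not.1 (mt D.mem_wts.2 hl), LinearMap.zero_apply]

theorem eq_of_dot {v : U} {y : Y} (h : ∀ l ∈ D.wts, dot5 l y = 0) : D.act y v = v := by
  conv_lhs => rw [← D.sum_proj v, map_sum]
  refine Eq.trans (Finset.sum_congr rfl fun l _ => ?_) (D.sum_proj v)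
  by_cases hl : l ∈ D.wts
  · rw [D.act_proj, h l hl, D.pw_zero]
  · simp [not_not.1 (mt D.mem_wts.2 hl)]

theorem four_le_card [Finite U] {l : Y} (hl : l ∈ D.wts) :
    4 ≤ Nat.card (LinearMap.range (D.proj l)) := by
  obtain ⟨u, hu⟩ : ∃ u, D.proj l u ≠ 0 := by
    by_contra h
    push Not at h
    exact D.mem_wts.1 hl (LinearMap.ext h)
  set v := D.proj l u
  have hw : D.w v ∈ LinearMap.range (D.proj l) := ⟨D.w u, D.proj_w l u⟩
  have hne : D.w v ≠ v := fun e => hu (D.pw_fix one_ne_zero (by rw [D.pw_one, e]))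
  have hw0 : D.w v ≠ 0 := fun e => hu (by rw [← D.w_cube v, e, map_zero, map_zero])
  have hs : D.w v + v ≠ 0 := fun e => hne (by
    rw [← add_zero (D.w v), ← add_self v, ← add_assoc, e, zero_add])
  have hsub : ({0, v, D.w v, D.w v + v} : Set U) ⊆ (LinearMap.range (D.proj l) : Set U) := by
    rintro a (rfl | rfl | rfl | rfl)
    exacts [zero_mem _, ⟨u, rfl⟩, hw, add_mem hw ⟨u, rfl⟩]
  calc 4 = ({0, v, D.w v, D.w v + v} : Set U).ncard := by
        rw [Set.ncard_insert_of_notMem, Set.ncard_insert_of_notMem, Set.ncard_pair]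
        · intro e
          exact hu (left_eq_add.1 e)
        · simp only [Set.mem_insert_iff, Set.mem_singleton_iff, not_or]
          exact ⟨Ne.symm hne, fun e => hw0 (by simpa using e.symm)⟩
        · simp only [Set.mem_insert_iff, Set.mem_singleton_iff, not_or]
          exact ⟨Ne.symm hu, Ne.symm hw0, Ne.symm hs⟩
    _ ≤ _ := by
        exact (Set.ncard_le_ncard hsub (Set.toFinite _)).trans_eq (Nat.card_coe_set_eq _).symm

theorem prod_card_le [Finite U] (S : Finset Y) :
    ∏ l ∈ S, Nat.card (LinearMap.range (D.proj l)) ≤ Nat.card U := by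
  classical
  rw [← Finset.prod_coe_sort S, ← Nat.card_pi]
  let f : (∀ l : S, LinearMap.range (D.proj l.1)) → U := fun a => ∑ l : S, (a l : U)
  refine Nat.card_le_card_of_injective f fun a b h => funext fun m => Subtype.ext ?_
  have hp : ∀ c : ∀ l : S, LinearMap.range (D.proj l.1), D.proj m.1 (f c) = c m := by
    intro c
    rw [show f c = ∑ l : S, (c l : U) from rfl, map_sum, Finset.sum_eq_single m]
    · obtain ⟨u, hu⟩ := (c m).2
      rw [← hu, D.proj_proj, if_pos rfl]
    · intro l _ hlm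
      obtain ⟨u, hu⟩ := (c l).2
      rw [← hu, D.proj_proj, if_neg fun e => hlm (Subtype.ext e.symm)]
    · simp
  rw [← hp a, h, hp b]

theorem four_pow_le [Finite U] {S : Finset Y} (hS : S ⊆ D.wts) : 4 ^ S.card ≤ Nat.card U :=
  le_trans (Finset.pow_card_le_prod _ _ _ fun _ hl => D.four_le_card (hS hl)) (D.prod_card_le S)

theorem card_range_eq [Finite U] {n : ℕ} (hU : Nat.card U = 4 ^ n) (hn : D.wts.card = n) {l : Y}
    (hl : l ∈ D.wts) : Nat.card (LinearMap.range (D.proj l)) = 4 := by
  classical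
  refine le_antisymm ?_ (D.four_le_card hl)
  have h := D.prod_card_le D.wts
  rw [← Finset.mul_prod_erase _ _ hl, hU, ← hn, ← Finset.card_erase_add_one hl, pow_succ'] at h
  refine Nat.le_of_mul_le_mul_right (le_trans ?_ h) (by positivity : 0 < 4 ^ (D.wts.erase l).card)
  exact Nat.mul_le_mul_left _ (Finset.pow_card_le_prod _ _ _ fun m hm =>
    D.four_le_card (Finset.mem_of_mem_erase hm))

/-- An operator intertwining two weight spaces. -/
theorem map_proj {f : Y ≃ Y} {g : Module.End (ZMod 2) U} (hg : ∀ v, g (D.w v) = D.w (g v))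
    (hf : ∀ y v, g (D.act y v) = D.act (f y) (g v)) {l m : Y}
    (hm : ∀ y, dot5 m (f y) = dot5 l y) (v : U) : g (D.proj l v) = D.proj m (g v) := by
  rw [proj_apply, proj_apply, map_sum]
  conv_rhs => rw [← Equiv.sum_comp f]
  refine Finset.sum_congr rfl fun y _ => ?_
  rw [hm, ← hf]
  have hc : ∀ c : ZMod 3, c = 0 ∨ c = 1 ∨ c = 2 := by decide
  rcases hc (-dot5 l y) with e | e | e <;> simp only [e, D.pw_zero, D.pw_one, D.pw_two, hg]

/-- An operator exchanging a weight with its negative. -/
theorem map_proj_neg {g : Module.End (ZMod 2) U} (hg : ∀ v, g (D.w v) = D.w (D.w (g v)))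
    (hf : ∀ y v, g (D.act y v) = D.act y (g v)) (l : Y) (v : U) :
    g (D.proj l v) = D.proj (-l) (g v) := by
  rw [proj_apply, proj_apply, map_sum]
  refine Finset.sum_congr rfl fun y _ => ?_
  rw [← hf, neg_dot5, neg_neg]
  have hc : ∀ c : ZMod 3, c = 0 ∨ c = 1 ∨ c = 2 := by decide
  rcases hc (dot5 l y) with e | e | e <;> simp only [e, neg_zero, show -(1 : ZMod 3) = 2 by decide,
    show -(2 : ZMod 3) = 1 by decide, D.pw_zero, D.pw_one, D.pw_two, hg, D.w_cube]

end Wt

end CfsgLib.FiLarge
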