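import Cfsg.Agent.FiLarge.Codes
import Cfsg.Agent.FiLarge.SylowTables

/-!
Kernel checks of the tables of the Sylow subgroup.
-/

set_option autoImplicit false
set_option maxRecDepth 1000000

namespace CfsgLib.FiLarge.Eleven

/-- An element of the table. -/
def el (i : ℕ) : List ℕ := elems.getD i []

/-- A generator. -/
def gn (j : ℕ) : List ℕ := gens.getD j []

/-- An involution of the table. -/
def iv (a : ℕ) : List ℕ := el (invol.getD a 0)

/-- Vectors of a basis dual to the chosen basis of the plane. -/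
def dualCodes : List ℕ := [2, 1, 8, 4, 512, 256]

theorem lens : elems.length = 128 ∧ gens.length = 9 ∧ parents.length = 127 ∧ invol.length = 35 ∧
    adj.length = 35 ∧ bIdx.length = 16 ∧ eIdx.length = 16 ∧ steps.length = 14 := by decide +kernel

theorem good_el : ∀ i : Fin 128, Good (el i.val) := by decide +kernel

theorem el_zero : el 0 = (List.range 12).map fun k => 2 ^ k := by decide +kernel

theorem elems_nodup : elems.Nodup := by decide +kernel

theorem parent_ok : ∀ i : Fin 127,
    (parents.getD i.val (0, 0)).1 ≤ i.val ∧ (parents.getD i.val (0, 0)).2 < 4 ∧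
      el (i.val + 1) = mul (el (parents.getD i.val (0, 0)).1) (gn (parents.getD i.val (0, 0)).2) := by
  decide +kernel

theorem closed : ∀ i : Fin 128, ∀ j : Fin 4, mul (el i.val) (gn j.val) ∈ elems := by decide +kernel

theorem gen_sq : ∀ j : Fin 4, mul (gn j.val) (gn j.val) = el 0 := by decide +kernel

theorem aux_conj : mul auxPerm (gn 2) = mul (gn 3) auxPerm := by decide +kernel

theorem invol_ok : ∀ i : Fin 128, mul (el i.val) (el i.val) = el 0 → i.val = 0 ∨ i.val ∈ invol := by
  decide +kernel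

theorem invol_lt : invol.Nodup ∧ ∀ a : Fin 35, 0 < invol.getD a.val 0 ∧ invol.getD a.val 0 < 128 := by
  decide +kernel

theorem adj_ok : ∀ a b : Fin 35, mul (iv a.val) (iv b.val) = mul (iv b.val) (iv a.val) →
    (adj.getD a.val 0).testBit b.val = true := by decide +kernel

/-- The number of set bits below 35. -/
def pop (m : ℕ) : ℕ := ((List.range 35).filter fun i => m.testBit i).length

/-- Clique search with pruning. -/
def srch : ℕ → ℕ → ℕ → ℕ → Bool
  | 0, _, cur, cand => decide (pop (cur ||| cand) < 15) || ((cur ||| cand) ||| bMask == bMask) ||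
      ((cur ||| cand) ||| eMask == eMask)
  | fuel + 1, v, cur, cand =>
    if decide (pop (cur ||| cand) < 15) || ((cur ||| cand) ||| bMask == bMask) ||
        ((cur ||| cand) ||| eMask == eMask) then true
    else if cand.testBit v then
      srch fuel (v + 1) (cur ||| 2 ^ v) ((cand ^^^ 2 ^ v) &&& adj.getD v 0) &&
        srch fuel (v + 1) cur (cand ^^^ 2 ^ v)
    else srch fuel (v + 1) cur cand

theorem srch_ok : srch 35 0 0 (2 ^ 35 - 1) = true := by decide +kernel

theorem mask_ok : (∀ a : Fin 35, bMask.testBit a.val = true → invol.getD a.val 0 ∈ bIdx) ∧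
    (∀ a : Fin 35, eMask.testBit a.val = true → invol.getD a.val 0 ∈ eIdx) ∧
    pop bMask = 15 ∧ pop eMask = 15 ∧ bIdx.Nodup ∧ eIdx.Nodup ∧
    (∀ i ∈ bIdx, i < 128) ∧ (∀ i ∈ eIdx, i < 128) := by decide +kernel

/-- Membership of a code in the plane. -/
def inL (x : ℕ) : Bool :=
  x % 4 == x / 16 % 4 && x / 4 % 4 == x / 64 % 4 && x / 256 % 4 == x / 1024 % 4

/-- A basis of the plane over two elements. -/
def lBasis : List ℕ := [17, 34, 68, 136, 1280, 2560]

theorem d4_inj : ∀ a b : Fin 4, d4 a.val = d4 b.val → a = b := by decide +kernel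

theorem inL_iff (x : Fin 4096) : inL x.val = true ↔
    dec x.val 0 = dec x.val 2 ∧ dec x.val 1 = dec x.val 3 ∧ dec x.val 4 = dec x.val 5 := by
  have hd : ∀ a b : ℕ, d4 (a % 4) = d4 (b % 4) ↔ a % 4 = b % 4 := fun a b =>
    ⟨fun h => congrArg Fin.val (d4_inj ⟨a % 4, Nat.mod_lt _ (by norm_num)⟩ ⟨b % 4, Nat.mod_lt _ (by norm_num)⟩ h),
      fun h => by rw [h]⟩
  simp only [inL, dec_coord, hd, Bool.and_eq_true, beq_iff_eq, and_assoc]
  norm_num

theorem inL_param (x : Fin 4096) (h : inL x.val = true) :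
    ∃ t : Fin 64, x.val = 17 * (t.val % 4) + 68 * (t.val / 4 % 4) + 1280 * (t.val / 16) := by
  simp only [inL, Bool.and_eq_true, beq_iff_eq] at h
  have := x.2
  refine ⟨⟨x.val % 4 + 4 * (x.val / 4 % 4) + 16 * (x.val / 256 % 4), by omega⟩, ?_⟩
  have h1 : ∀ a b c : ℕ, a < 4 → b < 4 → (a + 4 * b + 16 * c) % 4 = a ∧
      (a + 4 * b + 16 * c) / 4 % 4 = b ∧ (a + 4 * b + 16 * c) / 16 = c := fun a b c ha hb => by omega
  obtain ⟨e1, e2, e3⟩ := h1 (x.val % 4) (x.val / 4 % 4) (x.val / 256 % 4) (Nat.mod_lt _ (by norm_num))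
    (Nat.mod_lt _ (by norm_num))
  simp only [e1, e2, e3]
  obtain ⟨X, hX⟩ : ∃ X, X = x.val := ⟨_, rfl⟩
  rw [← hX] at h this ⊢
  have a1 : X = 4 * (X / 4) + X % 4 := (Nat.div_add_mod X 4).symm
  have a2 : X / 4 = 4 * (X / 16) + X / 4 % 4 := by omega
  have a3 : X / 16 = 4 * (X / 64) + X / 16 % 4 := by omega
  have a4 : X / 64 = 4 * (X / 256) + X / 64 % 4 := by omega
  have a5 : X / 256 = 4 * (X / 1024) + X / 256 % 4 := by omega
  have a6 : X / 1024 % 4 = X / 1024 := by omega
  omega

/-- The subgroup fixing the plane fixes exactly the plane: the first half. -/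
theorem bFix_fwd : (List.range 4096).all (fun x =>
    inL x || !(bIdx.all fun i => Nat.beq (app (el i) x) x)) = true := by decide +kernel

theorem bFix_back : ∀ t : Fin 64, ∀ i ∈ bIdx,
    app (el i) (17 * (t.val % 4) + 68 * (t.val / 4 % 4) + 1280 * (t.val / 16)) =
      17 * (t.val % 4) + 68 * (t.val / 4 % 4) + 1280 * (t.val / 16) := by decide +kernel

theorem bFix_ok (x : Fin 4096) : (∀ i ∈ bIdx, app (el i) x.val = x.val) ↔ inL x.val = true := by
  constructor
  · intro h
    have hx := List.all_eq_true.1 bFix_fwd x.val (List.mem_range.2 x.2)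
    simp only [Bool.or_eq_true, Bool.not_eq_true', List.all_eq_false, Nat.beq_eq] at hx
    exact hx.resolve_right fun ⟨i, hi, hne⟩ => hne (h i hi)
  · intro h
    obtain ⟨t, ht⟩ := inL_param x h
    rw [ht]
    exact bFix_back t

/-- The second subgroup fixes only four vectors. -/
theorem eFix_fwd : (List.range 4096).all (fun x =>
    !(eIdx.all fun i => Nat.beq (app (el i) x) x) || lineFix.contains x) = true := by decide +kernel

theorem eFix_ok (x : Fin 4096) (h : ∀ i ∈ eIdx, app (el i) x.val = x.val) : x.val ∈ lineFix := by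
  have hx := List.all_eq_true.1 eFix_fwd x.val (List.mem_range.2 x.2)
  simp only [Bool.or_eq_true, Bool.not_eq_true', List.all_eq_false, Nat.beq_eq, List.contains_iff_mem] at hx
  exact hx.resolve_left fun ⟨i, hi, hne⟩ => hne (h i hi)

theorem lineFix_len : lineFix.length = 4 := by decide +kernel

theorem stab_ok : ∀ j : Fin 9, ∀ x ∈ lBasis, inL (app (gn j.val) x) = true := by decide +kernel

theorem step_ok : ∀ k : Fin 14,
    ((steps.getD k.val (0, 0, 0)).2.1 = bIdx.getD 1 0 ∨
      ∃ l : Fin 14, l < k ∧ (steps.getD l.val (0, 0, 0)).1 = (steps.getD k.val (0, 0, 0)).2.1) ∧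
      (steps.getD k.val (0, 0, 0)).2.2 < 9 ∧ (steps.getD k.val (0, 0, 0)).2.1 < 128 ∧
      mul (gn (steps.getD k.val (0, 0, 0)).2.2) (el (steps.getD k.val (0, 0, 0)).2.1) =
        mul (el (steps.getD k.val (0, 0, 0)).1) (gn (steps.getD k.val (0, 0, 0)).2.2) := by
  decide +kernel

theorem step_cover : ∀ i ∈ bIdx, i = 0 ∨ i = bIdx.getD 1 0 ∨
    ∃ k : Fin 14, (steps.getD k.val (0, 0, 0)).1 = i := by decide +kernel

/-- A permutation of the table. -/
def ptab (a : ℕ) (i : Fin 6) : Fin 6 := Fin.ofNat 6 ((permTab.getD a []).getD i.val 0)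

/-- The codes of the permutations of the table. -/
def pcode (a : ℕ) : List ℕ :=
  [gn 0, gn 1, auxPerm, gn 4, gn 5, gn 6, gn 7].getD a []

/-- The inverse of a permutation of the table. -/
def pinv (a : ℕ) (i : Fin 6) : Fin 6 := Fin.ofNat 6 ((permTab.getD a []).idxOf i.val)

theorem ptab_inv : ∀ a : Fin 7, ∀ i, ptab a.val (pinv a.val i) = i ∧ pinv a.val (ptab a.val i) = i := by
  decide +kernel

theorem ptab_sign : ∀ a : Fin 7, Equiv.Perm.sign (⟨ptab a.val, pinv a.val, fun i => (ptab_inv a i).2,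
    fun i => (ptab_inv a i).1⟩ : Equiv.Perm (Fin 6)) = 1 := by decide +kernel

theorem pcode_ok : ∀ a : Fin 7, Good (pcode a.val) ∧ ∀ k : Fin 12,
    (fun i => dec (2 ^ k.val) (ptab a.val i)) = dec ((pcode a.val).getD k.val 0) := by decide +kernel

/-- The phases of the last generator. -/
def phase : Fin 6 → ZMod 3 := ![0, 1, 0, 1, 2, 2]

theorem diag_ok : ∑ i, phase i = 0 ∧ Good (gn 8) ∧ ∀ k : Fin 12,
    dmul phase (dec (2 ^ k.val)) = dec ((gn 8).getD k.val 0) := by decide +kernel

theorem plane_gen_aux : ∀ t : Fin 64,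
    let x := 17 * (t.val % 4) + 68 * (t.val / 4 % 4) + 1280 * (t.val / 16)
    ∑ k : Fin 6, (if x.testBit ([0, 1, 2, 3, 8, 9].getD k.val 0) then dec (lBasis.getD k.val 0) else 0) =
      dec x := by decide +kernel

theorem plane_gen (x : Fin 4096) (h : inL x.val = true) :
    ∑ k : Fin 6, (if x.val.testBit ([0, 1, 2, 3, 8, 9].getD k.val 0) then dec (lBasis.getD k.val 0) else 0) =
      dec x.val := by
  obtain ⟨t, ht⟩ := inL_param x h
  rw [ht]
  exact plane_gen_aux t

theorem basis_inL : ∀ x ∈ lBasis, inL x = true ∧ x < 4096 := by decide +kernel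

theorem plane_singular_aux : ∀ t : Fin 64,
    qn (dec (17 * (t.val % 4) + 68 * (t.val / 4 % 4) + 1280 * (t.val / 16))) = 0 := by decide +kernel

theorem plane_singular (x : Fin 4096) (h : inL x.val = true) : qn (dec x.val) = 0 := by
  obtain ⟨t, ht⟩ := inL_param x h
  rw [ht]
  exact plane_singular_aux t

theorem dual_ok : ∀ flip : Fin 6 → Bool, ∃ v : Fin 4096,
    v.val = (List.range 6).foldl (fun acc k => if flip (Fin.ofNat 6 k) then acc ^^^ dualCodes.getD k 0 else acc) 0 ∧
      ∀ k : Fin 6, qn (dec v.val + dec (lBasis.getD k.val 0)) + qn (dec v.val) + qn (dec (lBasis.getD k.val 0)) =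
        if flip k then 1 else 0 := by
  have h : ∀ flip : Fin 6 → Bool, ∀ n : ℕ,
      n = (List.range 6).foldl (fun acc k => if flip (Fin.ofNat 6 k) then acc ^^^ dualCodes.getD k 0 else acc) 0 →
      n < 4096 ∧ ∀ k : Fin 6, qn (dec n + dec (lBasis.getD k.val 0)) + qn (dec n) + qn (dec (lBasis.getD k.val 0)) =
        if flip k then 1 else 0 := by
    have h' : ∀ flip : Fin 6 → Bool,
        let n := (List.range 6).foldl (fun acc k => if flip (Fin.ofNat 6 k) then acc ^^^ dualCodes.getD k 0 else acc) 0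
        n < 4096 ∧ ∀ k : Fin 6, qn (dec n + dec (lBasis.getD k.val 0)) + qn (dec n) + qn (dec (lBasis.getD k.val 0)) =
          if flip k then 1 else 0 := by decide +kernel
    rintro flip n rfl
    exact h' flip
  intro flip
  exact ⟨⟨_, (h flip _ rfl).1⟩, rfl, (h flip _ rfl).2⟩

end CfsgLib.FiLarge.Eleven
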