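import Cfsg.Agent.FiLarge.SylowChecks

/-!
Sets of pairwise commuting involutions of the Sylow subgroup with at least fifteen members.
-/

set_option autoImplicit false

namespace CfsgLib.FiLarge.Eleven

/-- All members are in the bit set. -/
def Sub (S : Finset (Fin 35)) (m : ℕ) : Prop := ∀ a ∈ S, m.testBit a.val = true

theorem card_le_pop {S : Finset (Fin 35)} {m : ℕ} (h : Sub S m) : S.card ≤ pop m := by
  have h1 : (S.map ⟨Fin.val, Fin.val_injective⟩) ⊆ ((List.range 35).filter fun i => m.testBit i).toFinset := by
    intro x hx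
    obtain ⟨a, ha, rfl⟩ := Finset.mem_map.1 hx
    simp only [List.mem_toFinset, List.mem_filter, List.mem_range, Function.Embedding.coeFn_mk]
    exact ⟨a.2, h a ha⟩
  rw [← Finset.card_map ⟨Fin.val, Fin.val_injective⟩]
  refine (Finset.card_le_card h1).trans ?_
  rw [List.toFinset_card_of_nodup (List.nodup_range.filter _)]
  exact le_rfl

theorem sub_or {S : Finset (Fin 35)} {x m : ℕ} (h : Sub S x) (he : (x ||| m == m) = true) : Sub S m := by
  intro a ha
  rw [← beq_iff_eq.1 he, Nat.testBit_or, h a ha, Bool.true_or]

theorem srch_sound (S : Finset (Fin 35))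
    (hS : ∀ a ∈ S, ∀ b ∈ S, (adj.getD a.val 0).testBit b.val = true) :
    ∀ fuel v cur cand, srch fuel v cur cand = true → Sub S (cur ||| cand) →
      S.card < 15 ∨ Sub S bMask ∨ Sub S eMask := by
  have stop : ∀ x : ℕ, (decide (pop x < 15) || (x ||| bMask == bMask) || (x ||| eMask == eMask)) = true →
      Sub S x → S.card < 15 ∨ Sub S bMask ∨ Sub S eMask := by
    intro x h hs
    simp only [Bool.or_eq_true, decide_eq_true_eq] at h
    rcases h with (h | h) | h
    exacts [Or.inl ((card_le_pop hs).trans_lt h), Or.inr (Or.inl (sub_or hs h)), Or.inr (Or.inr (sub_or hs h))]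
  intro fuel
  induction fuel with
  | zero => exact fun v cur cand h hs => stop _ h hs
  | succ fuel ih =>
    intro v cur cand h hs
    simp only [srch] at h
    split_ifs at h with hstop hv
    · exact stop _ hstop hs
    · simp only [Bool.and_eq_true] at h
      by_cases hin : ∃ a ∈ S, a.val = v ∧ cur.testBit v = false
      · obtain ⟨a, haS, hav, -⟩ := hin
        refine ih _ _ _ h.1 fun b hb => ?_
        have hb' := hs b hb
        simp only [Nat.testBit_or, Bool.or_eq_true] at hb' ⊢
        rcases hb' with hb' | hb'
        · exact Or.inl (Or.inl hb')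
        · by_cases hbv : v = b.val
          · exact Or.inl (Or.inr (by rw [hbv, Nat.testBit_two_pow_self]))
          · refine Or.inr ?_
            have hab := hS a haS b hb
            rw [hav] at hab
            rw [Nat.testBit_and, hab, Bool.and_true, Nat.testBit_xor, hb', Nat.testBit_two_pow_of_ne hbv]
            rfl
      · refine ih _ _ _ h.2 fun b hb => ?_
        have hb' := hs b hb
        simp only [Nat.testBit_or, Bool.or_eq_true] at hb' ⊢
        rcases hb' with hb' | hb'
        · exact Or.inl hb'
        · by_cases hbv : v = b.val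
          · by_cases hc : cur.testBit v = true
            · exact Or.inl (hbv ▸ hc)
            · exact absurd ⟨b, hb, hbv.symm, by simpa using hc⟩ hin
          · exact Or.inr (by simp [Nat.testBit_xor, Nat.testBit_two_pow, hbv, hb'])
    · exact ih _ _ _ h hs

theorem clique_cases (S : Finset (Fin 35))
    (hS : ∀ a ∈ S, ∀ b ∈ S, (adj.getD a.val 0).testBit b.val = true) :
    S.card < 15 ∨ Sub S bMask ∨ Sub S eMask :=
  srch_sound S hS 35 0 0 _ srch_ok fun a _ => by
    rw [Nat.testBit_or, Nat.testBit_two_pow_sub_one]
    simp [a.2]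

theorem clique_le (S : Finset (Fin 35))
    (hS : ∀ a ∈ S, ∀ b ∈ S, (adj.getD a.val 0).testBit b.val = true) : S.card ≤ 15 := by
  rcases clique_cases S hS with h | h | h
  · omega
  · exact (card_le_pop h).trans mask_ok.2.2.1.le
  · exact (card_le_pop h).trans mask_ok.2.2.2.1.le

end CfsgLib.FiLarge.Eleven
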