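import Cfsg.Agent.FiLarge.Identify
import Cfsg.Agent.FiLarge.SylowSearch

/-!
The Sylow 2-subgroup of the linear part of the quotient and its elementary abelian subgroups.
-/

set_option autoImplicit false
set_option maxRecDepth 100000
set_option maxHeartbeats 1000000

namespace CfsgLib.FiLarge

open CfsgLib Subgroup Eleven

theorem card_split_inf {C : Type*} [Group C] (B M : Subgroup C) :
    M.relIndex B * Nat.card ↥(B ⊓ M) = Nat.card B := by
  have h := Subgroup.card_mul_index (M.subgroupOf B)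
  rw [mul_comm, ← Nat.card_congr (Subgroup.subgroupOfEquivOfLe (inf_le_left : B ⊓ M ≤ B)).toEquiv,
    show (B ⊓ M).subgroupOf B = M.subgroupOf B from Subgroup.ext fun a =>
      ⟨fun h => (Subgroup.mem_inf.1 (mem_subgroupOf.1 h)).2,
        fun h => mem_subgroupOf.2 (Subgroup.mem_inf.2 ⟨a.2, mem_subgroupOf.1 h⟩)⟩]
  exact h

namespace Std

/-- A vector of the plane. -/
def InL (a : V6) : Prop := a 0 = a 2 ∧ a 1 = a 3 ∧ a 4 = a 5

theorem vec_code (a : V6) : ∃ x : Fin 4096, dec x.val = a ∧ enc a = x.val :=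
  ⟨⟨enc a, (dec_enc a).2⟩, (dec_enc a).1, rfl⟩

theorem inL_enc (a : V6) : InL a ↔ inL (enc a) = true := by
  obtain ⟨x, rfl, hx⟩ := vec_code a
  rw [hx]
  exact (inL_iff x).symm

theorem inL_dec {x : ℕ} (hx : x < 4096) (h : inL x = true) : InL (dec x) :=
  (inL_iff ⟨x, hx⟩).1 h

theorem inL_add {a b : V6} (ha : InL a) (hb : InL b) : InL (a + b) :=
  ⟨by simp [ha.1, hb.1], by simp [ha.2.1, hb.2.1], by simp [ha.2.2, hb.2.2]⟩

theorem inL_smul {a : V6} (c : F4) (ha : InL a) : InL (c • a) :=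
  ⟨by simp [ha.1], by simp [ha.2.1], by simp [ha.2.2]⟩

theorem qn_inL {a : V6} (ha : InL a) : qn a = 0 := by
  obtain ⟨x, rfl, hx⟩ := vec_code a
  have h := (inL_enc _).1 ha
  rw [hx] at h
  exact plane_singular x h

variable {C : Type*} [Group C] [Finite C] (T : Std C)

theorem x_ne_inv : T.x ≠ T.x⁻¹ := by
  intro h
  have h1 : T.x * T.x = 1 := mul_eq_one_iff_eq_inv.2 h
  have h2 := congrArg (fun y => T.r y (fun _ => 1) 0) h1
  simp only [r_mul, x_act, r_one, Pi.smul_apply, smul_eq_mul, mul_one] at h2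
  exact absurd h2 (by decide +kernel)

/-- The stabiliser of the plane. -/
def planeStab : Subgroup C where
  carrier := {c | ∀ a, InL a ↔ InL (T.r c a)}
  one_mem' a := by rw [r_one]
  mul_mem' {c d} hc hd a := by rw [r_mul]; exact (hd a).trans (hc _)
  inv_mem' {c} hc a := by
    have := hc (T.r c⁻¹ a)
    rw [← r_mul, mul_inv_cancel, r_one] at this
    exact this.symm

/-- The pointwise stabiliser of the plane. -/
def planeFix : Subgroup C where
  carrier := {c | ∀ a, InL a → T.r c a = a}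
  one_mem' a _ := T.r_one a
  mul_mem' {c d} hc hd a ha := by rw [r_mul, hd a ha, hc a ha]
  inv_mem' {c} hc a ha := by
    conv_lhs => rw [← hc a ha]
    rw [← r_mul, inv_mul_cancel, r_one]

theorem herm_plane {a : V6} (h : ∀ b, InL b → herm a b = 0) : InL a := by
  have hadd : ∀ x y : F4, x + y = 0 → x = y := by decide +kernel
  have h1 := h ![1, 0, 1, 0, 0, 0] ⟨rfl, rfl, rfl⟩
  have h2 := h ![0, 1, 0, 1, 0, 0] ⟨rfl, rfl, rfl⟩
  have h3 := h ![0, 0, 0, 0, 1, 1] ⟨rfl, rfl, rfl⟩
  simp [herm, Fin.sum_univ_six] at h1 h2 h3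
  exact ⟨hadd _ _ h1, hadd _ _ h2, hadd _ _ h3⟩

theorem planeFix_linear {c : C} (hc : c ∈ T.planeFix) : c * T.x * c⁻¹ = T.x := by
  refine (T.semi c).resolve_right fun h => ?_
  have hl : InL (fun _ => (1 : F4)) := ⟨rfl, rfl, rfl⟩
  have e := congrFun (T.semilinear_inv h om (fun _ => 1)) 0
  rw [hc _ (inL_smul om hl), hc _ hl] at e
  simp only [Pi.smul_apply, smul_eq_mul, mul_one] at e
  exact absurd e (by decide +kernel)

theorem planeFix_sq {c : C} (hc : c ∈ T.planeFix) : c * c = 1 := by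
  refine T.inj (LinearEquiv.ext fun a => ?_)
  rw [r_mul, map_one]
  show _ = a
  have hl : InL (T.r c a + a) := by
    refine herm_plane fun b hb => ?_
    rw [herm_add]
    have h := T.herm_r (T.planeFix_linear hc) a b
    rw [hc b hb] at h
    rw [h, f4_add_self]
  have h := hc _ hl
  rw [map_add] at h
  have h2 : ∀ u v w : V6, u + v = v + w → u = w := fun u v w e => add_right_cancel (e.trans (add_comm v w))
  exact h2 _ _ _ h

/-- Elements commuting with the scalar form the linear part. -/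
theorem linear_mem (hinv : ∃ u, u * T.x * u⁻¹ = T.x⁻¹) {c : C} (hc : c * T.x * c⁻¹ = T.x) : c ∈ T.M := by
  obtain ⟨u, hu⟩ := hinv
  by_contra hcM
  have hM : ∀ m ∈ T.M, m * T.x * m⁻¹ = T.x := fun m hm => mul_inv_eq_iff_eq_mul.2 (T.central m hm)
  have huM : u ∉ T.M := fun h => T.x_ne_inv ((hM u h).symm.trans hu)
  have huc : u * c ∈ T.M := (mul_mem_iff_of_index_two T.idx).2 ⟨fun h => absurd h huM, fun h => absurd h hcM⟩
  refine T.x_ne_inv ((hM _ huc).symm.trans ?_)
  rw [← hu]
  conv_rhs => rw [← hc]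
  group

variable {T}

section tables

variable (hf : ∃ f ∈ T.M, T.Rep f (gn 2))
include hf

theorem gen_real : ∀ j : Fin 9, ∃ c ∈ T.M, T.Rep c (gn j.val) := by
  have hp : ∀ a : Fin 7, ∃ c ∈ T.M, T.Rep c (pcode a.val) := by
    intro a
    obtain ⟨c, hc, h⟩ := T.perm _ (ptab_sign a)
    refine ⟨c, hc, Std.rep_of_eq (pcode_ok a).1 _ h fun k => ?_⟩
    exact (pcode_ok a).2 k
  intro j
  fin_cases j
  · exact hp 0
  · exact hp 1
  · exact hf
  · obtain ⟨f, hfM, hfR⟩ := hf
    have hgd := pmcode_good 6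
    obtain ⟨u, huM, -, huR⟩ := T.perm_rep (aux 6).1 (aux 6).2 (fun i => ((pmcode_good 6).2.2 i).1)
      (fun i => ((pmcode_good 6).2.2 i).2) (by decide +kernel)
    obtain ⟨w, hwM, -, hwR⟩ := T.perm_rep (aux 6).2 (aux 6).1 (fun i => ((pmcode_good 6).2.2 i).2)
      (fun i => ((pmcode_good 6).2.2 i).1) (by decide +kernel)
    refine ⟨u * f * w, mul_mem (mul_mem huM hfM) hwM, ?_⟩
    have := (huR.mul hfR).mul hwR
    rw [show mul (mul (pmcode (aux 6).1) (gn 2)) (pmcode (aux 6).2) = gn 3 from good_code.2] at this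
    exact this
  · exact hp 3
  · exact hp 4
  · exact hp 5
  · exact hp 6
  · obtain ⟨c, hc, h⟩ := T.diag phase diag_ok.1
    exact ⟨c, hc, Std.rep_of_eq diag_ok.2.1 _ h diag_ok.2.2⟩

theorem el_real : ∀ i : ℕ, i < 128 → ∃ c ∈ T.M, T.Rep c (el i) := by
  intro i
  induction i using Nat.strong_induction_on with
  | _ i ih =>
    intro hi
    rcases i with _ | k
    · exact ⟨1, one_mem _, by rw [el_zero]; exact rep_one⟩
    · obtain ⟨hp, hj, he⟩ := parent_ok ⟨k, by omega⟩
      obtain ⟨a, ha, haR⟩ := ih _ (Nat.lt_succ_of_le hp) (by simp only at hp ⊢; omega)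
      obtain ⟨b, hb, hbR⟩ := gen_real hf ⟨(parents.getD k (0, 0)).2, by simp only at hj; omega⟩
      exact ⟨a * b, mul_mem ha hb, he ▸ haR.mul hbR⟩

/-- A tabulated element. -/
noncomputable def elt (i : Fin 128) : C := (el_real hf i.val i.2).choose

theorem elt_rep (i : Fin 128) : T.Rep (elt hf i) (el i.val) := (el_real hf i.val i.2).choose_spec.2

theorem elt_mem (i : Fin 128) : elt hf i ∈ T.M := (el_real hf i.val i.2).choose_spec.1

theorem elt_inj : Function.Injective (elt hf) := by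
  intro a b h
  have e := (elt_rep hf a).code (h ▸ elt_rep hf b)
  refine Fin.ext ?_
  have hl := lens.1
  simp only [el, List.getD_eq_getElem _ _ (show a.val < elems.length by omega),
    List.getD_eq_getElem _ _ (show b.val < elems.length by omega)] at e
  exact (elems_nodup.getElem_inj_iff).1 e

theorem elt_of_code {c : C} {M : List ℕ} (hc : T.Rep c M) (hM : M ∈ elems) : ∃ i, elt hf i = c := by
  obtain ⟨n, hn, rfl⟩ := List.getElem_of_mem hM
  refine ⟨⟨n, lens.1 ▸ hn⟩, (elt_rep hf _).elt ?_⟩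
  simp only [el, List.getD_eq_getElem _ _ hn]
  exact hc

/-- The Sylow subgroup of the linear part. -/
noncomputable def syl : Subgroup C :=
  closure (Set.range fun j : Fin 4 => (gen_real hf ⟨j.val, by omega⟩).choose)

theorem syl_eq {c : C} : c ∈ syl hf ↔ ∃ i, elt hf i = c := by
  constructor
  · intro hc
    have step : ∀ (c : C) (j : Fin 4), (∃ i, elt hf i = c) →
        ∃ i, elt hf i = c * (gen_real hf ⟨j.val, by omega⟩).choose := by
      rintro c j ⟨i, rfl⟩
      exact elt_of_code hf ((elt_rep hf i).mul (gen_real hf ⟨j.val, by omega⟩).choose_spec.2) (closed i j)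
    induction hc using Subgroup.closure_induction_right with
    | one => exact ⟨0, (elt_rep hf 0).elt (by rw [show ((0 : Fin 128) : ℕ) = 0 from rfl, el_zero]; exact rep_one)⟩
    | mul_right a ha b hb ih =>
      obtain ⟨j, rfl⟩ := hb
      exact step a j ih
    | mul_inv_cancel a ha b hb ih =>
      obtain ⟨j, rfl⟩ := hb
      have hinv : ((gen_real hf ⟨j.val, by omega⟩).choose)⁻¹ = (gen_real hf ⟨j.val, by omega⟩).choose := by
        refine inv_eq_of_mul_eq_one_right ?_
        have h := (gen_real hf ⟨j.val, by omega⟩).choose_spec.2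
        refine (h.mul h).elt ?_
        rw [gen_sq, el_zero]
        exact rep_one
      rw [hinv]
      exact step a j ih
  · rintro ⟨i, rfl⟩
    obtain ⟨i, hi⟩ := i
    induction i using Nat.strong_induction_on with
    | _ i ih =>
      rcases i with _ | k
      · rw [show elt hf ⟨0, hi⟩ = 1 from (elt_rep hf _).elt (by rw [el_zero]; exact rep_one)]
        exact one_mem _
      · obtain ⟨hp, hj, he⟩ := parent_ok ⟨k, by omega⟩
        simp only at hp hj he
        have hp' : (parents.getD k (0, 0)).1 < 128 := by omega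
        have hg := (gen_real hf ⟨(parents.getD k (0, 0)).2, by omega⟩).choose_spec.2
        rw [(elt_rep hf ⟨k + 1, hi⟩).elt (he ▸ (elt_rep hf ⟨_, hp'⟩).mul hg)]
        exact mul_mem (ih _ (Nat.lt_succ_of_le hp) hp') (subset_closure ⟨⟨_, hj⟩, rfl⟩)

theorem syl_le : syl hf ≤ T.M := fun c hc => by
  obtain ⟨i, rfl⟩ := (syl_eq hf).1 hc
  exact elt_mem hf i

theorem syl_card : Nat.card (syl hf) = 2 ^ 7 := by
  have : Nat.card (syl hf) = Nat.card (Fin 128) := by
    refine (Nat.card_congr (Equiv.ofBijective (fun i => (⟨elt hf i, (syl_eq hf).2 ⟨i, rfl⟩⟩ : syl hf)) ⟨?_, ?_⟩)).symm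
    · exact fun a b h => elt_inj hf (congrArg Subtype.val h)
    · rintro ⟨c, hc⟩
      obtain ⟨i, rfl⟩ := (syl_eq hf).1 hc
      exact ⟨i, rfl⟩
  rw [this, Nat.card_fin]
  norm_num

theorem exists_conj_le_syl {R : Subgroup C} (hR : IsPGroup 2 R) (hRM : R ≤ T.M) :
    ∃ m ∈ T.M, ∀ x ∈ R, m * x * m⁻¹ ∈ syl hf := by
  haveI : Fact (Nat.Prime 2) := ⟨Nat.prime_two⟩
  have hfact : (Nat.card T.M).factorization 2 = 7 := by
    rw [card_M, show 9797760 = 2 ^ 7 * 76545 by norm_num, Nat.factorization_mul (by norm_num) (by norm_num),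
      Finsupp.add_apply, Nat.Prime.factorization_pow Nat.prime_two, Finsupp.single_eq_same,
      Nat.factorization_eq_zero_of_not_dvd (by norm_num), add_zero]
  let P : Sylow 2 T.M := Sylow.ofCard ((syl hf).subgroupOf T.M) (by
    rw [Nat.card_congr (subgroupOfEquivOfLe (syl_le hf)).toEquiv, syl_card, hfact])
  obtain ⟨P', hP'⟩ := (hR.comap_subtype (K := T.M)).exists_le_sylow
  obtain ⟨m, hm⟩ := MulAction.exists_smul_eq T.M P' P
  refine ⟨m.1, m.2, fun x hx => ?_⟩
  have h1 : m * ⟨x, hRM hx⟩ * m⁻¹ ∈ (m • P' : Sylow 2 T.M) :=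
    ⟨⟨x, hRM hx⟩, hP' (mem_subgroupOf.2 hx), rfl⟩
  rw [hm] at h1
  exact h1

/-- Elementary abelian subgroups of the Sylow subgroup. -/
theorem elem_cases {B : Subgroup C} (hB : B ≤ syl hf) (hc : ∀ a ∈ B, ∀ b ∈ B, a * b = b * a)
    (hs : ∀ a ∈ B, a * a = 1) :
    Nat.card B ≤ 16 ∧ (Nat.card B = 16 →
      (∀ i : Fin 128, i.val ∈ bIdx → elt hf i ∈ B) ∨ ∀ i : Fin 128, i.val ∈ eIdx → elt hf i ∈ B) := by
  classical
  have h0 : elt hf 0 = 1 := (elt_rep hf 0).elt (by rw [show ((0 : Fin 128) : ℕ) = 0 from rfl, el_zero]; exact rep_one)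
  let ix : Fin 35 → Fin 128 := fun a => ⟨invol.getD a.val 0, (invol_lt.2 a).2⟩
  have hix : Function.Injective ix := by
    intro a b h
    have e := congrArg Fin.val h
    simp only [ix] at e
    have hl := lens.2.2.2.1
    rw [List.getD_eq_getElem _ _ (by omega), List.getD_eq_getElem _ _ (by omega)] at e
    exact Fin.ext (invol_lt.1.getElem_inj_iff.1 e)
  let S : Finset (Fin 35) := Finset.univ.filter fun a => elt hf (ix a) ∈ B
  have hadj : ∀ a ∈ S, ∀ b ∈ S, (adj.getD a.val 0).testBit b.val = true := by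
    intro a ha b hb
    refine adj_ok a b ?_
    have ha' := (Finset.mem_filter.1 ha).2
    have hb' := (Finset.mem_filter.1 hb).2
    have h1 := (elt_rep hf (ix a)).mul (elt_rep hf (ix b))
    rw [hc _ ha' _ hb'] at h1
    exact h1.code ((elt_rep hf (ix b)).mul (elt_rep hf (ix a)))
  have hcard : Nat.card B = S.card + 1 := by
    haveI : Finite B := by
      refine Finite.of_injective (fun b : B => ((syl_eq hf).1 (hB b.2)).choose) fun b b' h => Subtype.ext ?_
      rw [← ((syl_eq hf).1 (hB b.2)).choose_spec, ← ((syl_eq hf).1 (hB b'.2)).choose_spec]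
      exact congrArg _ h
    let emb : Option S → B := fun o => o.elim 1 fun a => ⟨elt hf (ix a.1), (Finset.mem_filter.1 a.2).2⟩
    have hbij : Function.Bijective emb := by
      have hne : ∀ a : Fin 35, elt hf (ix a) ≠ 1 := fun a e =>
        (invol_lt.2 a).1.ne' (congrArg Fin.val (elt_inj hf (e.trans h0.symm)))
      constructor
      · rintro (_ | a) (_ | b) h
        · rfl
        · exact absurd (congrArg Subtype.val h).symm (hne b.1)
        · exact absurd (congrArg Subtype.val h) (hne a.1)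
        · exact congrArg some (Subtype.ext (hix (elt_inj hf (congrArg Subtype.val h))))
      · rintro ⟨b, hb⟩
        obtain ⟨i, rfl⟩ := (syl_eq hf).1 (hB hb)
        have hsq : Eleven.mul (el i.val) (el i.val) = el 0 := by
          have h1 := (elt_rep hf i).mul (elt_rep hf i)
          rw [hs _ hb, ← h0] at h1
          exact h1.code (elt_rep hf 0)
        rcases invol_ok i hsq with h | h
        · exact ⟨none, Subtype.ext (h0.symm.trans (congrArg (elt hf) (show (0 : Fin 128) = i from Fin.ext h.symm)))⟩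
        · obtain ⟨n, hn, hni⟩ := List.getElem_of_mem h
          have hni' : ix ⟨n, lens.2.2.2.1 ▸ hn⟩ = i := Fin.ext (by
            show invol.getD n 0 = i.val
            rw [List.getD_eq_getElem _ _ hn, hni])
          exact ⟨some ⟨⟨n, lens.2.2.2.1 ▸ hn⟩, Finset.mem_filter.2 ⟨Finset.mem_univ _, by rw [hni']; exact hb⟩⟩,
            Subtype.ext (congrArg (elt hf) hni')⟩
    rw [← Nat.card_congr (Equiv.ofBijective emb hbij), Nat.card_eq_fintype_card, Fintype.card_option,
      Fintype.card_coe]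
  have hle := clique_le S hadj
  refine ⟨by omega, fun h16 => ?_⟩
  have full : ∀ (m : ℕ) (l : List ℕ), Sub S m → (∀ a : Fin 35, m.testBit a.val = true → invol.getD a.val 0 ∈ l) →
      0 ∈ l → l.Nodup → l.length = 16 → ∀ i : Fin 128, i.val ∈ l → elt hf i ∈ B := by
    intro m l hsub hml h0l hnd hlen i hi
    by_contra hiB
    have hsubset : insert 0 (S.image fun a => (ix a).val) ⊆ l.toFinset.erase i.val := by
      intro x hx
      rw [Finset.mem_erase, List.mem_toFinset]
      rcases Finset.mem_insert.1 hx with rfl | hx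
      · refine ⟨fun e => hiB ?_, h0l⟩
        rw [show i = 0 from Fin.ext e.symm, h0]
        exact one_mem _
      · obtain ⟨a, ha, rfl⟩ := Finset.mem_image.1 hx
        exact ⟨fun e => hiB (Fin.ext e ▸ (Finset.mem_filter.1 ha).2), hml a (hsub a ha)⟩
    have h1 := Finset.card_le_card hsubset
    rw [Finset.card_erase_of_mem (List.mem_toFinset.2 hi), List.toFinset_card_of_nodup hnd, hlen,
      Finset.card_insert_of_notMem, Finset.card_image_of_injective (f := fun a => (ix a).val) _ (fun a b e => hix (Fin.ext e))] at h1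
    · omega
    · intro hx
      obtain ⟨a, -, ha⟩ := Finset.mem_image.1 hx
      exact (invol_lt.2 a).1.ne' ha
  rcases clique_cases S hadj with h | h | h
  · omega
  · exact Or.inl (full _ _ h mask_ok.1 (by decide) mask_ok.2.2.2.2.1 lens.2.2.2.2.2.1)
  · exact Or.inr (full _ _ h mask_ok.2.1 (by decide) mask_ok.2.2.2.2.2.1 lens.2.2.2.2.2.2.1)

theorem elt_planeFix (i : Fin 128) (hi : i.val ∈ bIdx) : elt hf i ∈ T.planeFix := by
  intro a ha
  rw [(elt_rep hf i).apply, (bFix_ok ⟨enc a, (dec_enc a).2⟩).2 ((inL_enc a).1 ha) i.val hi, (dec_enc a).1]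

theorem fixed_small {B : Subgroup C} {a : V6} (ha : ∀ b ∈ B, T.r b a = a) :
    ((∀ i : Fin 128, i.val ∈ bIdx → elt hf i ∈ B) → InL a) ∧
      ((∀ i : Fin 128, i.val ∈ eIdx → elt hf i ∈ B) → enc a ∈ lineFix) := by
  have key : ∀ i : Fin 128, elt hf i ∈ B → app (el i.val) (enc a) = enc a := by
    intro i hi
    refine dec_inj (app_lt (good_el i).2) (dec_enc a).2 ?_
    rw [← (elt_rep hf i).app (dec_enc a).2, (dec_enc a).1]
    exact ha _ hi
  constructor
  · intro h
    rw [inL_enc]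
    refine (bFix_ok ⟨enc a, (dec_enc a).2⟩).1 fun i hi => key ⟨i, ?_⟩ (h _ hi)
    exact mask_ok.2.2.2.2.2.2.1 i hi
  · intro h
    refine eFix_ok ⟨enc a, (dec_enc a).2⟩ fun i hi => key ⟨i, ?_⟩ (h _ hi)
    exact mask_ok.2.2.2.2.2.2.2 i hi

theorem planeFix_card (hinv : ∃ u, u * T.x * u⁻¹ = T.x⁻¹) :
    Nat.card T.planeFix = 16 ∧ T.planeFix ≤ syl hf ∧ ∀ c ∈ T.planeFix, ∃ i : Fin 128, i.val ∈ bIdx ∧ elt hf i = c := by
  classical
  have hM : T.planeFix ≤ T.M := fun c hc => T.linear_mem hinv (T.planeFix_linear hc)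
  have hcomm : ∀ a ∈ T.planeFix, ∀ b ∈ T.planeFix, a * b = b * a := fun a ha b hb => by
    calc a * b = (a * b)⁻¹ := (inv_eq_of_mul_eq_one_right (T.planeFix_sq (mul_mem ha hb))).symm
      _ = b⁻¹ * a⁻¹ := mul_inv_rev a b
      _ = b * a := by
        rw [inv_eq_of_mul_eq_one_right (T.planeFix_sq ha), inv_eq_of_mul_eq_one_right (T.planeFix_sq hb)]
  have h2 : IsPGroup 2 T.planeFix := fun c => ⟨1, Subtype.ext (by
    rw [pow_one, pow_two]; exact T.planeFix_sq c.2)⟩
  obtain ⟨m, -, hm⟩ := exists_conj_le_syl hf h2 hM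
  let B := T.planeFix.map (MulAut.conj m).toMonoidHom
  have hB : B ≤ syl hf := by
    rintro _ ⟨x, hx, rfl⟩
    exact hm x hx
  have hle := (elem_cases hf hB
    (by
      rintro _ ⟨a, ha, rfl⟩ _ ⟨b, hb, rfl⟩
      rw [← map_mul, hcomm a ha b hb, map_mul])
    (by
      rintro _ ⟨a, ha, rfl⟩
      rw [← map_mul, T.planeFix_sq ha, map_one])).1
  rw [card_map_of_injective (MulAut.conj m).injective] at hle
  let j : {i : Fin 128 // i.val ∈ bIdx} → T.planeFix := fun i => ⟨elt hf i.1, elt_planeFix hf i.1 i.2⟩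
  have hj : Function.Injective j := fun a b h => Subtype.ext (elt_inj hf (congrArg Subtype.val h))
  have h16 : Nat.card {i : Fin 128 // i.val ∈ bIdx} = 16 := by
    rw [Nat.card_eq_fintype_card]
    decide +kernel
  have hge := Nat.card_le_card_of_injective j hj
  rw [h16] at hge
  have hc16 : Nat.card T.planeFix = 16 := le_antisymm hle hge
  have hbij : Function.Bijective j := (Nat.bijective_iff_injective_and_card j).2 ⟨hj, h16.trans hc16.symm⟩
  have hrep : ∀ c ∈ T.planeFix, ∃ i : Fin 128, i.val ∈ bIdx ∧ elt hf i = c := fun c hc => by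
    obtain ⟨i, hi⟩ := hbij.2 ⟨c, hc⟩
    exact ⟨i.1, i.2, congrArg Subtype.val hi⟩
  refine ⟨hc16, fun c hc => ?_, hrep⟩
  obtain ⟨i, -, hi⟩ := hrep c hc
  exact (syl_eq hf).2 ⟨i, hi⟩

/-- A property of elements fixing the plane pointwise that is preserved by conjugation within the
stabiliser of the plane holds for all of them or none. -/
theorem planeFix_spread (hinv : ∃ u, u * T.x * u⁻¹ = T.x⁻¹) :
    ∃ b1 ∈ T.planeFix, b1 ≠ 1 ∧ ∀ P : C → Prop,
      (∀ g ∈ T.planeStab, ∀ b ∈ T.planeFix, P b → P (g * b * g⁻¹)) →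
        P b1 → ∀ b ∈ T.planeFix, b ≠ 1 → P b := by
  classical
  have hlt : ∀ i ∈ bIdx, i < 128 := mask_ok.2.2.2.2.2.2.1
  have hb : bIdx.getD 1 0 ∈ bIdx ∧ bIdx.getD 1 0 ≠ 0 := by decide +kernel
  let i1 : Fin 128 := ⟨bIdx.getD 1 0, hlt _ hb.1⟩
  have h0 : elt hf 0 = 1 := (elt_rep hf 0).elt (by rw [show ((0 : Fin 128) : ℕ) = 0 from rfl, el_zero]; exact rep_one)
  refine ⟨elt hf i1, elt_planeFix hf i1 hb.1, fun e => hb.2 (congrArg Fin.val (elt_inj hf (e.trans h0.symm))),
    fun P hP h1 b hbP hb1 => ?_⟩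
  have hgen : ∀ j : Fin 9, ∀ c, T.Rep c (gn j.val) → c ∈ T.planeStab := by
    intro j c hc
    have himg : ∀ a, InL a → InL (T.r c a) := by
      intro a ha
      obtain ⟨x, rfl, hx⟩ := vec_code a
      have hxL := (inL_enc _).1 ha
      rw [hx] at hxL
      rw [← plane_gen x hxL, map_sum]
      refine Finset.sum_induction _ InL (fun a b => inL_add) ⟨rfl, rfl, rfl⟩ fun k _ => ?_
      split
      · have hk : lBasis.getD k.val 0 ∈ lBasis := by fin_cases k <;> decide
        rw [hc.app (basis_inL _ hk).2]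
        exact inL_dec (app_lt hc.1.2) (stab_ok j _ hk)
      · rw [map_zero]; exact ⟨rfl, rfl, rfl⟩
    intro a
    refine ⟨himg a, fun ha => ?_⟩
    let σ : {a : V6 // InL a} → {a : V6 // InL a} := fun v => ⟨T.r c v.1, himg v.1 v.2⟩
    have hσ : Function.Injective σ := fun u v e => Subtype.ext ((T.r c).injective (congrArg Subtype.val e))
    obtain ⟨v, hv⟩ := (Finite.injective_iff_surjective.1 hσ) ⟨T.r c a, ha⟩
    rw [← (T.r c).injective (congrArg Subtype.val hv)]
    exact v.2
  have hstep : ∀ (n : ℕ) (k : Fin 14), k.val = n → ∃ h : (steps.getD k.val (0, 0, 0)).1 < 128,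
      elt hf ⟨_, h⟩ ∈ T.planeFix ∧ P (elt hf ⟨_, h⟩) := by
    intro n
    induction n using Nat.strong_induction_on with
    | _ n ih =>
      intro k hkn
      obtain ⟨hsrc, hj, hlt2, hmul⟩ := step_ok k
      set i := (steps.getD k.val (0, 0, 0)).1 with hi
      set p := (steps.getD k.val (0, 0, 0)).2.1
      have hp : elt hf ⟨p, hlt2⟩ ∈ T.planeFix ∧ P (elt hf ⟨p, hlt2⟩) := by
        rcases hsrc with h | ⟨l, hl, hle⟩
        · rw [show (⟨p, hlt2⟩ : Fin 128) = i1 from Fin.ext h]
          exact ⟨elt_planeFix hf i1 hb.1, h1⟩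
        · obtain ⟨h, hh⟩ := ih l.val (hkn ▸ hl) l rfl
          rw [show (⟨p, hlt2⟩ : Fin 128) = ⟨_, h⟩ from Fin.ext hle.symm]
          exact hh
      have hi128 : i < 128 := by
        have : ∀ k : Fin 14, (steps.getD k.val (0, 0, 0)).1 < 128 := by decide +kernel
        exact this k
      obtain ⟨c, -, hc⟩ := gen_real hf ⟨_, hj⟩
      have hcj : elt hf ⟨i, hi128⟩ = c * elt hf ⟨p, hlt2⟩ * c⁻¹ := by
        rw [eq_mul_inv_iff_mul_eq]
        refine ((elt_rep hf ⟨i, hi128⟩).mul hc).elt ?_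
        have := hc.mul (elt_rep hf ⟨p, hlt2⟩)
        rw [hmul] at this
        exact this
      have hcs := hgen ⟨_, hj⟩ c hc
      refine ⟨hi128, ?_, ?_⟩
      · intro a ha
        rw [hcj, r_mul, r_mul, hp.1 _ ((inv_mem hcs a).1 ha), ← r_mul, mul_inv_cancel, r_one]
      · rw [hcj]; exact hP c hcs _ hp.1 hp.2
  obtain ⟨i, hi, rfl⟩ := (planeFix_card hf hinv).2.2 b hbP
  rcases step_cover i.val hi with h | h | ⟨k, hk⟩
  · exact absurd (by rw [show i = 0 from Fin.ext h, h0]) hb1
  · rw [show i = i1 from Fin.ext h]; exact h1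
  · obtain ⟨h', hh⟩ := hstep k.val k rfl
    rw [show i = ⟨_, h'⟩ from Fin.ext hk.symm]
    exact hh.2

end tables

end Std

end CfsgLib.FiLarge
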