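import Mathlib.Data.List.Basic

/-!
Tables for the embedded monomial subgroup: unipotent and Levi matrices, and words in two
generators of the alternating group of degree six (0 and 1 name the generators).
-/

namespace CfsgLib.FiLarge

/-- The nilpotent parts of the four commuting unipotent matrices. -/
def nilCodes : List (List (List Nat)) := [[[3, 4, 0, 0], [5, 6, 0, 0], [0, 0, 6, 8], [0, 0, 7, 3]], [[6, 8, 6, 8], [7, 3, 7, 3], [6, 8, 0, 0], [7, 3, 0, 0]], [[0, 0, 6, 8], [0, 0, 7, 3], [6, 8, 0, 0], [7, 3, 0, 0]], [[3, 4, 7, 3], [5, 6, 2, 5], [8, 1, 3, 4], [3, 4, 5, 6]]]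

/-- The two Levi matrices. -/
def leviCodes : List (List (List Nat)) := [[[2, 5, 1, 0], [4, 2, 0, 1], [2, 0, 2, 7], [0, 2, 8, 2]], [[4, 4, 8, 3], [7, 4, 1, 8], [7, 2, 7, 4], [3, 7, 7, 7]]]

/-- The words. -/
def altWords : List (List Nat) := [[], [1, 1, 0, 1, 0, 1, 1], [1, 0, 0, 1, 1, 0, 1, 1, 0, 0, 1], [1, 0, 1, 0, 0, 1, 0, 1, 1], [1, 0, 1, 0, 1, 1, 1], [1, 1, 1, 0, 1, 0, 0, 1, 0, 1], [1, 1, 1, 0, 1, 0], [0, 0, 1, 1, 1, 0, 1, 1, 0], [0, 1, 0, 1], [1, 1, 0, 1, 0, 0, 1, 0], [0, 0, 1, 0, 1, 1, 1, 0, 0], [0, 1, 0, 0, 1, 0, 1, 1, 0, 1, 0], [1, 1, 1, 0, 1, 0, 0, 1, 0], [0, 1, 0, 0, 1, 0, 1, 1, 1], [1, 0, 1, 0, 0, 1, 0, 1, 1, 0, 1, 0], [0, 1, 0, 1, 1, 1, 1], [1], [1,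 1, 1, 0, 1, 0, 1, 1], [0, 1, 1, 0, 1, 1, 1, 0, 0, 1], [0, 1, 0, 1, 1, 0, 1, 0], [1, 1, 0, 1, 0, 1, 1, 1], [1, 0, 1, 0, 1], [1, 1, 1, 1, 0, 1, 0], [1, 0, 0, 1, 1, 1, 0, 1, 1, 0], [1, 1, 0, 1, 0, 1], [0, 1, 0], [0, 1, 1, 1, 0, 1, 0, 1, 1, 0], [0, 1, 1, 0, 0, 1, 0, 1, 1, 0, 0], [0, 1, 1, 0, 1, 1, 1, 0, 0], [1, 0, 1, 0, 0, 1, 0, 1, 1, 1], [1, 1, 1, 1, 0, 1, 0, 1, 1], [1, 0, 1, 0, 1, 1, 1, 1], [1, 1], [0, 0, 1, 1, 0, 1, 1, 0, 0], [0, 1, 0, 0, 1, 0, 1], [1, 0, 1, 0, 1, 1, 0, 1, 0], [1, 0, 0, 1, 1, 0, 1, 1, 0, 0], [1, 0, 1, 0, 0, 1, 0, 1], [1, 1, 0, 1, 0, 1, 1, 0, 1, 0], [0, 0, 1, 1, 1, 0, 1, 0, 0], [1, 1, 1, 0, 1, 0, 1], [1, 0, 1, 0], [0, 1, 1, 0, 1, 1, 1, 1, 0], [0, 0,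 1, 0, 0, 1, 1, 0, 1, 0, 0], [0, 1, 0, 0, 1, 0], [1, 1, 1], [0, 1, 0, 1, 1], [1, 1, 0, 1, 0, 1, 1, 1, 1], [1, 1, 1, 1], [1, 0, 1, 0, 1, 1], [0, 0, 1, 1, 0, 1, 1, 0, 0, 1], [0, 1, 0, 0, 1, 0, 1, 1], [0, 1, 0, 1, 1, 1], [1, 1, 0, 1, 0, 0, 1, 0, 1], [1, 1, 0, 1, 0], [1, 0, 0, 1, 1, 1, 0, 1, 0, 0], [1, 1, 1, 1, 0, 1, 0, 1], [1, 0, 1, 0, 0, 1, 0], [0, 1, 0, 0, 1, 0, 0, 1, 0], [0, 0, 1, 0, 1, 1, 0, 0, 1, 0, 0], [1, 1, 1, 0, 1, 0, 0, 1], [1, 0, 0, 1, 0, 1, 1, 1, 0], [1, 0, 1, 0, 0, 1, 0, 1, 1, 0, 1], [1, 1, 0, 1, 0, 1, 0, 0], [0, 1], [0, 1, 1, 1, 0, 1, 0, 1, 1], [1, 0, 0, 1, 1, 0, 1, 1, 0], [0, 0, 1, 0, 1, 1, 0, 1, 0], [1, 1, 0, 1, 0, 1, 1, 0, 1], [1, 1, 1, 1, 0, 0], [1,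 0, 1, 0, 1, 1, 0, 0], [1, 0, 1, 1, 1, 0, 0, 1, 0, 1, 0], [0], [1, 1, 0, 1, 0, 1, 1, 0], [1, 1, 0, 1, 1, 1, 0, 0, 1, 0, 1], [1, 1, 0, 0, 1, 0, 1, 1, 0], [1, 1, 0, 1, 1, 1, 0], [1, 1, 1, 0, 1, 0, 0, 1, 1], [0, 1, 1, 1, 0, 1, 0], [1, 1, 1, 0, 1, 1, 0], [0, 0, 1, 0, 1], [1, 0, 0, 1, 0, 1, 1, 0, 0], [1, 0, 1, 1, 1, 0, 0], [1, 1, 0, 1, 0, 0, 1, 1, 0], [1, 0, 1, 0, 0, 1, 0, 1, 1, 0], [1, 0, 1, 0, 1, 1, 1, 0], [1, 1, 0, 0, 1, 0, 1, 1, 0, 1], [1, 0, 1, 1, 1, 1, 0], [0, 0, 1, 0], [1, 1, 1, 0, 1, 1, 0, 0, 1, 0], [1, 0, 1, 1, 0, 1, 1, 0], [1, 1, 0, 0, 1, 0, 1, 0, 0], [0, 1, 1], [1, 0, 0, 1, 1, 1, 0, 0], [1, 1, 0, 1, 1, 0, 0], [1, 1, 1, 1, 0, 0, 1, 0, 1, 0], [1, 1, 1, 0, 1, 0,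 0], [0, 1, 1, 1, 0, 1, 0, 1], [0, 1, 0, 1, 0], [1, 1, 0, 1, 1, 1, 0, 0, 1, 0], [1, 0, 1, 1, 0, 1, 0, 0], [1, 0, 0, 1, 1, 0, 1, 1, 0, 1], [1, 0, 0, 1, 1, 0, 1, 0, 0], [0, 0, 1, 1, 0, 1, 1, 1, 1, 0], [0, 0, 1, 0, 0, 1, 0], [0, 0, 1, 0, 1, 1], [0, 1, 1, 1], [1, 0, 1, 0, 0, 1, 1, 0, 0], [1, 1, 0, 1, 0, 0, 1, 0, 0], [0, 0, 1, 0, 1, 1, 1], [1, 0, 0, 1, 0, 1, 1, 0, 0, 1], [0, 1, 1, 1, 1], [1, 1, 1, 1, 0, 0, 1], [1, 1, 0, 1, 1, 0, 0, 1], [1, 0, 1, 1, 1, 0, 0, 1], [0, 1, 1, 0, 1, 0], [1, 0, 1, 0, 1, 1, 0, 0, 1], [1, 0, 0, 1, 1, 0, 0, 1, 0, 0], [1, 1, 1, 0, 0, 1, 0, 0], [1, 0, 1, 1, 0, 0, 1, 0, 0], [0, 0], [1, 1, 0, 1, 0, 1, 1, 0, 0], [1, 1, 0, 1, 1, 1, 0, 0, 1, 0, 1, 0],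 [0, 1, 1, 0, 0, 1, 0, 1, 1, 0], [0, 1, 1, 0, 1, 1, 1, 0], [1, 1, 0, 0, 1, 0, 1, 1, 1, 0], [0, 0, 1, 1, 1, 0, 1, 0], [0, 1, 1, 1, 0, 1, 1, 0], [1, 0, 1], [0, 1, 0, 0, 1, 0, 1, 1, 0, 0], [0, 1, 0, 1, 1, 1, 0, 0], [1, 0, 0, 1, 0, 1, 1, 0, 1, 0], [0, 1, 1, 1, 0, 1, 0, 0, 1], [1, 0, 0, 1, 0, 1, 1, 1], [1, 1, 0, 0, 1, 0, 1, 1, 0, 0, 1], [1, 0, 1, 1, 1, 1], [0, 0, 1], [1, 1, 1, 0, 1, 1, 0, 0, 1], [1, 1, 0, 1, 1, 1, 0, 0, 1], [1, 0, 1, 1, 0, 1, 0], [1, 1, 0, 1, 0, 1, 1, 0, 0, 1], [0, 1, 1, 1, 1, 0, 0], [1, 1, 1, 1, 0, 0, 1, 0, 0], [1, 1, 0, 1, 1, 0, 0, 1, 0, 0], [0, 1, 0, 1, 1, 1, 1, 0], [1, 0], [1, 1, 1, 0, 1, 0, 1, 1, 0], [1, 1, 0, 0, 1, 0, 1, 1, 0, 0], [1, 1, 0, 1, 1,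 1, 0, 0], [1, 1, 1, 0, 1, 0, 0, 1, 1, 0], [0, 1, 1, 0, 0, 1, 0, 1, 0, 0], [0, 1, 0, 1, 1, 0, 1, 1, 0], [0, 0, 1, 1], [0, 1, 1, 0, 1, 1, 0, 0], [1, 0, 0, 1, 0, 1], [1, 1, 1, 1, 0, 1, 1, 0], [0, 1, 1, 0, 1, 1, 1, 0, 0, 1, 0], [0, 1, 0, 1, 1, 0, 1, 0, 0], [1, 1, 0, 1, 0, 1, 1, 1, 0], [0, 1, 1, 1, 0, 1, 0, 0], [1, 1, 1, 0, 1, 1, 0, 0], [0, 0, 1, 0, 1, 0], [1, 1, 0, 1, 1, 1, 1, 0], [0, 1, 0, 0, 1, 1, 0, 1, 0, 0], [1, 0, 0, 1, 0], [0, 0, 1, 1, 1], [1, 0, 1, 1], [1, 1, 1, 0, 0, 1, 0, 1, 0, 0], [1, 0, 1, 0, 1, 0], [1, 1, 1, 1, 0, 1, 0, 0], [0, 1, 1, 0, 1, 1, 0, 0, 1], [1, 0, 0, 1, 0, 1, 1], [1, 0, 1, 1, 1], [1, 1, 0, 1, 0, 0, 1, 1, 0, 0], [0, 0, 1, 1, 0, 1, 0], [0, 1, 0,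 1, 1, 1, 0, 0, 1], [1, 1, 0, 1, 1, 0, 1, 0, 0], [0, 1, 1, 1, 0, 0, 1, 0, 0], [1, 0, 0, 1, 0, 0, 1, 0], [0, 1, 0, 1, 1, 0, 0, 1, 0, 0], [0, 0, 1, 1, 0, 0, 1, 0, 1, 1], [0, 0, 1, 1, 0, 1, 1, 1], [0, 1, 1, 0, 0, 1, 0, 1, 1, 1], [0, 1, 0, 1, 1, 1, 1, 0, 0], [1, 0, 0], [1, 1, 1, 0, 1, 0, 1, 1, 0, 0], [0, 1, 1, 0, 1, 1, 1, 1], [0, 0, 1, 0, 0, 1, 1, 0, 1, 0], [0, 1, 0, 0, 1], [1, 1, 0, 1], [1, 0, 0, 1, 1, 1, 0, 1, 0], [0, 1, 1, 0, 1, 1, 0, 1, 0], [1, 1, 0, 1, 0, 1, 0], [0, 1, 0, 0], [1, 0, 1, 1, 0, 1, 1, 0, 0, 1], [1, 1, 0, 0, 1, 0, 1, 1], [1, 1, 0, 1, 1, 1], [1, 1, 1, 0, 1, 0, 0, 1, 1, 0, 0], [1, 0, 0, 1, 1, 0, 1, 0], [0, 0, 1, 1, 0, 1, 1, 1, 1], [0, 0, 1, 0, 0, 1], [1,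 0, 1, 1, 1, 0, 0, 1, 0, 0], [0, 1, 1, 0, 1], [0, 0, 1, 1, 0, 1, 1, 0, 1, 0], [0, 1, 1, 0, 0, 1, 0, 1, 1], [0, 1, 1, 0, 1, 1, 1], [1, 1, 0, 0, 1, 0, 1, 1, 1], [1, 0, 1, 1, 1, 1, 0, 0], [0, 0, 1, 0, 0], [1, 1, 1, 0, 1, 1, 0, 0, 1, 0, 0], [1, 1, 0, 1, 1, 1, 1], [0, 1, 0, 0, 1, 1, 0, 1, 0], [1, 0, 0, 1], [0, 0, 1, 1, 0, 1], [0, 1, 0, 1, 1, 1, 0, 0, 1, 0, 0], [1, 1, 0, 1, 1, 0, 1, 0], [0, 0, 1, 1, 0, 0, 1, 0, 1], [1, 0, 1, 0, 1, 1, 1, 1, 0], [1, 1, 0], [1, 0, 1, 1, 0, 1, 1, 0, 0], [1, 1, 0, 0, 1, 0, 1], [0, 1, 1, 0], [0, 1, 1, 0, 0, 1, 0, 1], [0, 1, 0, 1, 1, 0, 1, 1, 0, 0], [0, 0, 1, 1, 0], [0, 0, 1, 0, 0, 1, 1], [1, 0, 0, 1, 1], [0, 1, 0, 0, 1, 1], [0, 0, 1, 1, 0, 1,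 1], [0, 1, 0, 0, 1, 0, 1, 0], [1, 0, 1, 0, 1, 1, 0, 1, 0, 0], [1, 0, 0, 1, 1, 1], [1, 1, 0, 1, 1], [1, 1, 1, 1, 0, 0, 1, 0, 1, 0, 0], [0, 1, 1, 0, 1, 1], [1, 0, 0, 1, 0, 1, 0], [1, 1, 1, 1, 0, 1, 1, 0, 0], [0, 0, 1, 1, 0, 0, 1, 0], [1, 1, 0, 0, 1, 0], [0, 1, 1, 0, 0, 1, 0], [1, 1, 1, 0, 1], [0, 0, 1, 1, 1, 0, 1, 1], [0, 1, 0, 1, 0, 0], [0, 0, 1, 0, 0, 1, 1, 0, 1, 1], [0, 1, 0, 1, 1, 0, 1], [1, 0, 0, 1, 1, 0, 1, 1, 1], [0, 0, 1, 1, 0, 0, 1, 0, 1, 0], [0, 0, 1, 0, 1, 1, 0, 1, 1], [1, 1, 0, 0], [1, 0, 1, 0, 0, 1], [0, 1, 0, 0, 1, 0, 0, 1], [0, 0, 1, 0, 1, 1, 0, 0, 1, 0], [1, 0, 0, 1, 1, 0, 1, 1], [0, 0, 1, 0, 1, 1, 0, 1], [0, 1, 0, 0, 1, 1, 0, 1, 1, 1], [0, 1, 1, 1,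 0, 1], [1, 1, 1, 0, 1, 1], [0, 0, 1, 0, 1, 0, 0], [1, 0, 1, 1, 0, 1, 1], [1, 1, 0, 0, 1, 0, 1, 0], [0, 1, 1, 0, 0], [1, 0, 0, 1, 1, 0, 0, 1, 0], [1, 1, 1, 0, 0, 1, 0], [1, 0, 1, 1, 0, 0, 1, 0], [0, 0, 1, 1, 1, 0, 1], [0, 1, 1, 1, 0, 1, 1], [1, 0, 1, 0, 0], [0, 1, 0, 0, 1, 1, 0, 1, 1], [1, 0, 1, 1, 0, 1], [1, 0, 0, 1, 1, 0, 1, 1, 0, 1, 0], [0, 1, 1, 0, 0, 1, 0, 1, 0], [0, 1, 0, 1, 1, 0, 1, 1], [0, 0, 1, 1, 0, 0], [0, 1, 1, 1, 0, 0, 1, 0], [1, 0, 0, 1, 0, 0, 1], [0, 1, 0, 1, 1, 0, 0, 1, 0], [0, 1, 1, 0, 1, 1, 1, 1, 0, 0], [0, 0, 1, 0, 0, 1, 1, 0, 1], [0, 1, 0, 0, 1, 0, 0], [1, 0, 0, 1, 1, 0, 1], [0, 0, 1, 1, 0, 1, 1, 1, 1, 0, 0], [0, 0, 1, 0, 0, 1, 0, 0], [1, 1, 0,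 1, 1, 1, 1, 0, 0], [0, 1, 0, 0, 1, 1, 0, 1], [1, 0, 0, 1, 0, 0], [0, 0, 1, 1, 0, 0, 1], [1, 1, 0, 0, 1], [0, 1, 1, 0, 0, 1], [1, 1, 1, 0], [0, 1, 0, 1, 1, 0], [0, 1, 1, 1, 0, 0, 1, 0, 1], [0, 0, 1, 0, 1, 1, 0], [0, 1, 1, 1, 0], [1, 0, 1, 0, 0, 1, 1], [0, 0, 1, 1, 1, 0], [1, 0, 1, 1, 0], [1, 1, 1, 0, 0, 1, 0, 1], [0, 0, 1, 0, 0, 1, 1, 0], [1, 0, 0, 1, 1, 0], [0, 1, 0, 0, 1, 1, 0], [1, 1, 0, 1, 0, 0, 1], [0, 0, 1, 0, 1, 1, 1, 0], [0, 1, 0, 0, 1, 0, 1, 1, 0, 1], [1, 0, 1, 0, 1, 0, 0], [1, 1, 1, 1, 0, 1], [1, 0, 0, 1, 1, 1, 0, 1, 1], [0, 0, 1, 1, 0, 1, 1, 0], [0, 1, 0, 0, 1, 0, 1, 0, 0], [1, 0, 1, 0, 1, 1, 0, 1], [1, 1, 1, 0, 0], [0, 1, 0, 1, 1, 0, 0], [0, 1, 1, 1, 0,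 0, 1, 0, 1, 0], [1, 1, 1, 1, 0], [1, 0, 1, 0, 1, 1, 0], [1, 0, 1, 1, 1, 0, 0, 1, 0, 1], [1, 0, 0, 1, 0, 1, 1, 0], [1, 0, 1, 1, 1, 0], [1, 1, 0, 1, 0, 0, 1, 1], [1, 0, 0, 1, 1, 1, 0], [1, 1, 0, 1, 1, 0], [1, 1, 1, 1, 0, 0, 1, 0, 1], [0, 0, 1, 0, 1, 1, 0, 0], [0, 1, 1, 1, 0, 0], [1, 0, 1, 0, 0, 1, 1, 0], [0, 1, 0, 0, 1, 0, 1, 1, 0], [0, 1, 0, 1, 1, 1, 0], [1, 0, 0, 1, 0, 1, 1, 0, 1], [0, 1, 1, 1, 1, 0], [1, 1, 1, 1, 0, 0, 1, 0], [1, 1, 0, 1, 1, 0, 0, 1, 0], [0, 1, 1, 0, 1, 1, 0], [1, 0, 0, 1, 0, 1, 0, 0], [1, 1, 1, 1, 0, 1, 1], [0, 0, 1, 1, 1, 0, 0], [1, 0, 1, 1, 0, 0], [1, 1, 1, 0, 0, 1, 0, 1, 0], [1, 1, 0, 1, 0, 0], [1, 0, 0, 1, 1, 1, 0, 1], [0, 1, 1, 0, 1, 1, 0,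 1], [1, 0, 1, 1, 1, 0, 0, 1, 0], [0, 1, 1, 0, 1, 0, 0], [0, 0, 1, 1, 0, 1, 1, 0, 1], [0, 0, 1, 1, 0, 1, 0, 0], [0, 1, 0, 1, 1, 1, 0, 0, 1, 0], [1, 1, 0, 1, 1, 0, 1], [0, 0, 1, 0, 0, 1, 1, 0, 0], [1, 0, 0, 1, 1, 0, 0], [0, 1, 0, 0, 1, 1, 0, 0], [1, 0, 1, 0, 0, 1, 0, 0], [0, 1, 0, 0, 1, 0, 0, 1, 0, 0], [0, 0, 1, 0, 1, 1, 0, 0, 1], [1, 0, 0, 1, 1, 0, 0, 1], [1, 1, 1, 0, 0, 1], [1, 0, 1, 1, 0, 0, 1], [0, 1, 1, 1, 0, 0, 1], [1, 0, 0, 1, 0, 0, 1, 0, 0], [0, 1, 0, 1, 1, 0, 0, 1], [0, 0, 1, 1, 0, 0, 1, 0, 0], [1, 1, 0, 0, 1, 0, 0], [0, 1, 1, 0, 0, 1, 0, 0]]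

end CfsgLib.FiLarge
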