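import Cfsg.Agent.FiLarge.Model
import Cfsg.Agent.FiLarge.Proj

/-!
A set of at most twelve weights permuted through the alternating group of degree six consists of
six weights with sum zero and their negatives.
-/

set_option autoImplicit false
set_option maxRecDepth 100000

namespace CfsgLib.FiLarge

/-- The leading four coordinates. -/
def hd (y : Y) : W := fun i => y i.castSucc

/-- The last unit vector. -/
def xY : Y := Pi.single 4 1

/-- Pullback of functionals on the heart. -/
def pullW (p : A6) (l : W) : W := fun i => dotW l (rho p (unitW i))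

theorem dot5_split (l y : Y) : dot5 l y = dotW (hd l) (hd y) + l 4 * y 4 := by
  simp [dot5, dotW, hd, Fin.sum_univ_castSucc, Fin.last]

theorem dotW_expand (l : W) (p : A6) (y : W) : dotW l (rho p y) = dotW (pullW p l) y := by
  conv_lhs => rw [expand y]
  simp only [rho_add, rho_smul]
  simp only [dotW, pullW, Pi.add_apply, Pi.smul_apply, smul_eq_mul, Fin.sum_univ_four]
  ring

/-- The pullback along a word. -/
def pullWord : List Bool → W → W
  | [], l => l
  | g :: w, l => pullW (if g then g5 else g3) (pullWord w l)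

/-- Words whose images of a nonzero functional take eleven values. -/
def orbWords : List (List Bool) :=
  ([[], [1], [1, 1], [1, 1, 1], [1, 1, 1, 1], [0, 0, 1, 1, 0], [0, 1, 1, 0, 0], [0, 0, 1, 0], [0, 1, 0, 0],
    [0, 0], [1, 0, 1, 1], [1, 1, 0, 1], [0, 1, 0], [0, 1, 1, 1, 0], [0, 0, 1, 1, 1], [0, 1, 1, 1, 1]] :
      List (List ℕ)).map fun w => w.map fun g => g == 1

theorem orbit_large : ∀ l : W, l ≠ 0 → 11 ≤ ((orbWords.map fun w => pullWord w l).toFinset).card := by
  decide +kernel

/-- Five words of three-cycles. -/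
def threeWords : List (List ℕ) :=
  [[1, 1, 1, 1, 0, 0, 1, 0, 0], [1, 0, 1, 1, 1, 0], [1, 0, 0, 1, 0, 1, 1, 0], [1, 1, 1, 0, 1, 0, 0, 1, 0, 1],
    [1, 1, 1, 1, 0, 1]]

/-- The difference with a permuted vector. -/
def difV (c : Fin 6 → ZMod 3) (w : List ℕ) : Fin 6 → ZMod 3 := fun i => c i - c (wordFun w i)

/-- At most two nonzero entries, but one. -/
def smallV (d : Fin 6 → ZMod 3) : Prop := ∃ a b, d a ≠ 0 ∧ a ≠ b ∧ ∀ k, k ≠ a → k ≠ b → d k = 0

instance (d : Fin 6 → ZMod 3) : Decidable (smallV d) := by unfold smallV; infer_instance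

theorem small_exists : ∀ c : Fin 6 → ZMod 3, (∀ i, c i = c 0) ∨ ∃ u ∈ threeWords, smallV (difV c u) := by
  decide +kernel

/-- An extension of the alternating group acting on the group of order 243. -/
structure Ext (Γ : Type*) [Group Γ] where
  /-- The action. -/
  f : Γ →* Equiv.Perm Y
  /-- The projection. -/
  p : Γ →* A6
  surj : Function.Surjective p
  add : ∀ g a b, f g (a + b) = f g a + f g b
  fix : ∀ g, f g xY = xY
  head : ∀ g y, hd (f g y) = rho (p g) (hd y)

namespace Ext

variable {Γ : Type*} [Group Γ] (E : Ext Γ)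

/-- Pullback of functionals. -/
def pull (g : Γ) (l : Y) : Y := fun i => dot5 l (E.f g (Pi.single i 1))

theorem dot_pull (g : Γ) (l y : Y) : dot5 (E.pull g l) y = dot5 l (E.f g y) := by
  let φ : Y →ₗ[ZMod 3] ZMod 3 :=
    (AddMonoidHom.mk' (fun a => dot5 l (E.f g a)) fun a b => by rw [E.add, dot5_add]).toZModLinearMap 3
  show _ = φ y
  conv_rhs => rw [pi_eq_sum_univ' y]
  rw [map_sum]
  exact Finset.sum_congr rfl fun i _ => by rw [map_smul, smul_eq_mul, mul_comm]; rfl

theorem ext_dot {l m : Y} (h : ∀ y, dot5 l y = dot5 m y) : l = m := by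
  funext i
  simpa [dot5_single] using h (Pi.single i 1)

theorem pull_mul (g h : Γ) (l : Y) : E.pull (g * h) l = E.pull h (E.pull g l) :=
  ext_dot fun y => by rw [dot_pull, dot_pull, dot_pull, map_mul, Equiv.Perm.mul_apply]

theorem pull_one (l : Y) : E.pull 1 l = l := ext_dot fun y => by rw [dot_pull, map_one]; rfl

theorem pull_last (g : Γ) (l : Y) : E.pull g l 4 = l 4 := by
  show dot5 l (E.f g xY) = _
  rw [E.fix]
  exact dot5_single l 4

theorem pull_hd (g : Γ) (l : Y) (hl : l 4 = 0) : hd (E.pull g l) = pullW (E.p g) (hd l) := by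
  funext i
  show dot5 l (E.f g (Pi.single i.castSucc 1)) = _
  rw [dot5_split, hl, zero_mul, add_zero, E.head]
  congr 2
  funext j
  simp [hd, unitW, Pi.single_apply, Fin.castSucc_inj]

theorem pull_sum (g : Γ) (c : Fin 6 → ZMod 3) (v : Fin 6 → Y) :
    E.pull g (∑ i, c i • v i) = ∑ i, c i • E.pull g (v i) := by
  funext j
  simp only [pull, Finset.sum_apply, Pi.smul_apply, smul_eq_mul, dot5, Finset.sum_mul, Finset.mul_sum]
  rw [Finset.sum_comm]
  exact Finset.sum_congr rfl fun i _ => Finset.sum_congr rfl fun k _ => by ring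

theorem six (S : Finset Y) (hinv : ∀ g, ∀ l ∈ S, E.pull g l ∈ S) (hneg : ∀ l ∈ S, -l ∈ S)
    (hcard : S.card ≤ 12) (hfaith : ∀ y, (∀ l ∈ S, dot5 l y = 0) → y = 0) :
    (∀ l ∈ S, l 4 ≠ 0) ∧ ∃ e : Fin 6 → Y, Function.Injective e ∧ (∀ i, e i ∈ S ∧ e i 4 = 1) ∧
      (∀ l ∈ S, l 4 = 1 → ∃ i, e i = l) ∧ (∀ τ : A6, ∃ g, ∀ i, E.pull g (e (τ.1 i)) = e i) ∧
      ∀ v : Fin 6 → ZMod 3, ∑ i, v i = 0 → ∃ y, ∀ i, dot5 (e i) y = v i := by
  classical
  set T := S.filter fun l => l 4 = 1 with hT
  set T0 := S.filter fun l => l 4 = 0 with hT0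
  have hc3 : ∀ a : ZMod 3, a = 0 ∨ a = 1 ∨ -a = 1 := by decide
  have hsum : 2 * T.card + T0.card ≤ S.card := by
    have h1 : Disjoint T (T.image Neg.neg) := Finset.disjoint_left.2 fun l hl h => by
      obtain ⟨m, hm, rfl⟩ := Finset.mem_image.1 h
      have e1 := (Finset.mem_filter.1 hl).2
      rw [Pi.neg_apply, (Finset.mem_filter.1 hm).2] at e1
      exact absurd e1 (by decide)
    have h2 : Disjoint (T ∪ T.image Neg.neg) T0 := Finset.disjoint_left.2 fun l hl h => by
      have e0 := (Finset.mem_filter.1 h).2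
      rcases Finset.mem_union.1 hl with h' | h'
      · rw [(Finset.mem_filter.1 h').2] at e0
        exact absurd e0 (by decide)
      · obtain ⟨m, hm, rfl⟩ := Finset.mem_image.1 h'
        rw [Pi.neg_apply, (Finset.mem_filter.1 hm).2] at e0
        exact absurd e0 (by decide)
    have h3 : T ∪ T.image Neg.neg ∪ T0 ⊆ S := by
      refine Finset.union_subset (Finset.union_subset (Finset.filter_subset _ _) ?_)
        (Finset.filter_subset _ _)
      intro l hl
      obtain ⟨m, hm, rfl⟩ := Finset.mem_image.1 hl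
      exact hneg m (Finset.mem_filter.1 hm).1
    have h4 := Finset.card_le_card h3
    rw [Finset.card_union_of_disjoint h2, Finset.card_union_of_disjoint h1,
      Finset.card_image_of_injective _ neg_injective] at h4
    omega
  have hTne : T.Nonempty := by
    by_contra h
    rw [Finset.not_nonempty_iff_eq_empty, Finset.filter_eq_empty_iff] at h
    have h' := hfaith xY fun l hl => by
      rcases hc3 (l 4) with e | e | e
      · exact (dot5_single l 4).trans e
      · exact absurd e (h hl)
      · exact absurd e (h (hneg l hl))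
    exact absurd (congrFun h' 4) (by simp [xY])
  have h10 : T0.card ≤ 10 := by have := hTne.card_pos; omega
  -- weights vanishing on the central element are trivial
  have hzero : ∀ l ∈ S, l 4 = 0 → hd l = 0 := by
    intro l hl hl4
    by_contra hne
    set S0 := T0.image hd
    have hst : ∀ u ∈ S0, ∀ p : A6, pullW p u ∈ S0 := by
      intro u hu p
      obtain ⟨m, hm, rfl⟩ := Finset.mem_image.1 hu
      obtain ⟨g, rfl⟩ := E.surj p
      obtain ⟨hmS, hm4⟩ := Finset.mem_filter.1 hm
      exact Finset.mem_image.2 ⟨E.pull g m, Finset.mem_filter.2 ⟨hinv g m hmS, by rw [pull_last, hm4]⟩,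
        E.pull_hd g m hm4⟩
    have hw : ∀ w : List Bool, pullWord w (hd l) ∈ S0 := by
      intro w
      induction w with
      | nil => exact Finset.mem_image.2 ⟨l, Finset.mem_filter.2 ⟨hl, hl4⟩, rfl⟩
      | cons g w ih => exact hst _ ih _
    have h2 := Finset.card_le_card (show (orbWords.map fun w => pullWord w (hd l)).toFinset ⊆ S0 from
      fun x hx => by
        obtain ⟨w, -, rfl⟩ := List.mem_map.1 (List.mem_toFinset.1 hx)
        exact hw w)
    have h3 := orbit_large _ hne
    have h4 : S0.card ≤ T0.card := Finset.card_image_le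
    omega
  -- the permutations of the weights
  have hmem : ∀ g, ∀ l ∈ T, E.pull g l ∈ T := fun g l hl =>
    Finset.mem_filter.2 ⟨hinv g l (Finset.mem_filter.1 hl).1,
      by rw [pull_last, (Finset.mem_filter.1 hl).2]⟩
  let ψ : Γ →* Equiv.Perm T :=
    { toFun := fun g =>
        { toFun := fun l => ⟨E.pull g⁻¹ l.1, hmem _ _ l.2⟩
          invFun := fun l => ⟨E.pull g l.1, hmem _ _ l.2⟩
          left_inv := fun l => Subtype.ext (by simp only [← pull_mul, inv_mul_cancel, pull_one])
          right_inv := fun l => Subtype.ext (by simp only [← pull_mul, mul_inv_cancel, pull_one]) }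
      map_one' := Equiv.ext fun l => Subtype.ext (by simp [pull_one])
      map_mul' := fun a b => Equiv.ext fun l => Subtype.ext (by simp [pull_mul]) }
  haveI : IsSimpleGroup A6 := alternatingGroup.isSimpleGroup (by simp)
  haveI hn : (ψ.ker.map E.p).Normal := Subgroup.Normal.map inferInstance _ E.surj
  have hker : ψ.ker ≤ E.p.ker := by
    rcases IsSimpleGroup.eq_bot_or_eq_top_of_normal _ hn with h | h
    · exact fun g hg => (Subgroup.eq_bot_iff_forall _).1 h _ (Subgroup.mem_map_of_mem _ hg)
    exfalso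
    have hfix : ∀ q : A6, ∃ g, E.p g = q ∧ ∀ l ∈ T, E.pull g l = l := by
      intro q
      obtain ⟨g, hg, rfl⟩ : q ∈ ψ.ker.map E.p := h ▸ Subgroup.mem_top q
      refine ⟨g, rfl, fun l hl => ?_⟩
      have := congrArg Subtype.val (Equiv.ext_iff.1 (inv_mem hg : ψ g⁻¹ = 1) ⟨l, hl⟩)
      simpa [ψ] using this
    have hone : ∀ l ∈ T, ∀ m ∈ T, l = m := by
      intro l hl m hm
      have h4 : (l - m) 4 = 0 := by
        rw [Pi.sub_apply, (Finset.mem_filter.1 hl).2, (Finset.mem_filter.1 hm).2, sub_self]
      have hq : ∀ q : A6, pullW q (hd (l - m)) = hd (l - m) := by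
        intro q
        obtain ⟨g, rfl, hg⟩ := hfix q
        rw [← E.pull_hd g _ h4]
        congr 1
        funext i
        have e1 := congrFun (hg l hl) i
        have e2 := congrFun (hg m hm) i
        simp only [pull] at e1 e2 ⊢
        rw [sub_dot5, e1, e2]
        rfl
      have hz : hd (l - m) = 0 := by
        by_contra hne
        refine no_invariant_functional _ hne ⟨fun i => Or.inl ?_, fun i => Or.inl ?_⟩ <;>
        · rw [dotW_expand, hq]
      funext i
      refine sub_eq_zero.1 (?_ : (l - m) i = 0)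
      exact Fin.lastCases h4 (fun j => congrFun hz j) i
    obtain ⟨l, hl⟩ := hTne
    have hl4 := (Finset.mem_filter.1 hl).2
    let y0 : Y := Pi.single 0 1 - l 0 • xY
    have hy : y0 = 0 := hfaith y0 fun m hm => by
      have hd0 : dot5 m y0 = m 0 - l 0 * m 4 := by
        simp [y0, dot5, xY, Pi.single_apply, mul_sub, Finset.sum_sub_distrib, mul_comm]
      rcases hc3 (m 4) with e | e | e
      · rw [hd0, e, mul_zero, sub_zero]
        exact congrFun (hzero m hm e) 0
      · rw [hd0, hone m (Finset.mem_filter.2 ⟨hm, e⟩) l hl, hl4, mul_one, sub_self]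
      · have := hone (-m) (Finset.mem_filter.2 ⟨hneg m hm, e⟩) l hl
        rw [hd0, ← this, Pi.neg_apply, show m 4 = -1 by rw [← e, neg_neg]]
        ring
    exact absurd (congrFun hy 0) (by simp [y0, xY])
  have hidx : 360 ∣ Nat.card ψ.range := by
    rw [← Subgroup.index_ker]
    refine dvd_trans (dvd_of_eq ?_) (Subgroup.index_dvd_of_le hker)
    rw [Subgroup.index_ker, MonoidHom.range_eq_top.2 E.surj, Subgroup.card_top, card_A6]
  have hTcard : T.card = 6 := by
    refine le_antisymm (by omega) ?_
    by_contra hlt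
    have h1 : 360 ≤ Nat.card ψ.range := Nat.le_of_dvd Nat.card_pos hidx
    have h2 := Nat.card_le_card_of_injective _ (Subtype.val_injective : Function.Injective (Subtype.val : ψ.range → _))
    rw [Nat.card_perm, Nat.card_eq_finsetCard] at h2
    have h3 : T.card.factorial ≤ (5).factorial := Nat.factorial_le (by omega)
    simp [Nat.factorial] at h3
    omega
  have hlast : ∀ l ∈ S, l 4 ≠ 0 := by
    intro l hl h4
    have : 0 < T0.card := Finset.card_pos.2 ⟨l, Finset.mem_filter.2 ⟨hl, h4⟩⟩
    omega
  let ε : T ≃ Fin 6 := T.equivFinOfCardEq hTcard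
  let e : Fin 6 → Y := fun i => (ε.symm i).1
  have he : Function.Injective e := Subtype.val_injective.comp ε.symm.injective
  have hperm : ∀ τ : A6, ∃ g, ∀ i, E.pull g (e (τ.1 i)) = e i := by
    intro τ
    let θ := ε.permCongrHom.toMonoidHom.comp ψ
    have hle : alternatingGroup (Fin 6) ≤ θ.range := by
      refine Equiv.Perm.alternatingGroup_le_of_index_le_two ?_
      have hc : Nat.card θ.range = Nat.card ψ.range := by
        show Nat.card (ε.permCongrHom.toMonoidHom.comp ψ).range = _
        rw [MonoidHom.range_comp]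
        exact Subgroup.card_map_of_injective ε.permCongrHom.injective
      have h1 : Nat.card θ.range * θ.range.index = 720 := by
        rw [Subgroup.card_mul_index, Nat.card_perm, Nat.card_eq_fintype_card, Fintype.card_fin]
        rfl
      have h2 : 360 ≤ Nat.card θ.range := hc ▸ Nat.le_of_dvd Nat.card_pos hidx
      nlinarith
    obtain ⟨g, hg⟩ := hle τ.2
    refine ⟨g, fun i => ?_⟩
    rw [← hg]
    have h : ∀ l : T, E.pull g (ψ g l).1 = l.1 := fun l => by
      show E.pull g (E.pull g⁻¹ l.1) = _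
      rw [← pull_mul, inv_mul_cancel, pull_one]
    simpa [θ, e, Equiv.permCongrHom, Equiv.permCongr_apply] using h (ε.symm i)
  refine ⟨hlast, e, he, fun i => ⟨(Finset.mem_filter.1 (ε.symm i).2).1,
    (Finset.mem_filter.1 (ε.symm i).2).2⟩, fun l hl hl4 => ⟨ε ⟨l, Finset.mem_filter.2 ⟨hl, hl4⟩⟩,
      by simp [e]⟩, hperm, ?_⟩
  let R : (Fin 6 → ZMod 3) → Y := fun c => ∑ i, c i • e i
  have hRsub : ∀ c d, R (fun i => c i - d i) = R c - R d := fun c d => by
    simp [R, sub_smul, Finset.sum_sub_distrib]
  have hsm : ∀ d, R d = 0 → ¬ smallV d := by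
    rintro d hd ⟨a, b, ha, hab, hk⟩
    have hd' : d a • e a + d b • e b = 0 := by
      rw [← hd]
      refine Eq.trans ?_ (Finset.sum_subset (Finset.subset_univ {a, b}) fun k _ hk' => ?_)
      · rw [Finset.sum_pair hab]
      · simp only [Finset.mem_insert, Finset.mem_singleton, not_or] at hk'
        rw [hk k hk'.1 hk'.2, zero_smul]
    have h4 := congrFun hd' 4
    simp only [Pi.add_apply, Pi.smul_apply, smul_eq_mul, (Finset.mem_filter.1 (ε.symm a).2).2,
      (Finset.mem_filter.1 (ε.symm b).2).2, e, mul_one, Pi.zero_apply] at h4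
    rw [eq_neg_of_add_eq_zero_right h4, neg_smul, ← sub_eq_add_neg, ← smul_sub, smul_eq_zero] at hd'
    exact hab (he (sub_eq_zero.1 (hd'.resolve_left ha)))
  have hdif : ∀ d u, R d = 0 → R (difV d u) = 0 := by
    intro d u hd
    obtain ⟨g, hg⟩ := hperm (wordElt u)
    have h1 : R (fun i => d ((wordElt u).1 i)) = 0 := by
      have h3 : E.pull g (R d) = 0 := by
        rw [hd]
        funext i
        simp [pull, dot5]
      rw [← h3, E.pull_sum, ← Equiv.sum_comp (wordElt u).1 fun i => d i • E.pull g (e i)]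
      exact Finset.sum_congr rfl fun i _ => by rw [hg i]
    have h2 := hRsub d fun i => d ((wordElt u).1 i)
    rw [hd, h1, sub_zero] at h2
    rw [← h2]
    congr 1
    funext i
    simp only [difV, wordElt_apply]
  obtain ⟨a, b, hab, hRab⟩ : ∃ a b : Fin 6 → ZMod 3, a ≠ b ∧ R a = R b := by
    by_contra h
    push Not at h
    have := Fintype.card_le_of_injective R fun a b hR => by
      by_contra hne
      exact h a b hne hR
    simp at this
  have hc0 : R (fun i => a i - b i) = 0 := by rw [hRsub, hRab, sub_self]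
  have hone : ∑ i, e i = 0 := by
    rcases small_exists (fun i => a i - b i) with h | ⟨u, -, h⟩
    · have hne : a 0 - b 0 ≠ 0 := fun h0 => hab (funext fun i => sub_eq_zero.1 ((h i).trans h0))
      have h' : (a 0 - b 0) • ∑ i, e i = 0 := by
        rw [Finset.smul_sum, ← hc0]
        exact Finset.sum_congr rfl fun i _ => by rw [← h i]
      exact (smul_eq_zero.1 h').resolve_left hne
    · exact absurd h (hsm _ (hdif _ u hc0))
  intro v hv
  let I := Finset.univ.image fun y : Y => fun i => dot5 (e i) y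
  have hinj : Function.Injective fun y : Y => fun i => dot5 (e i) y := by
    intro y y' h
    refine sub_eq_zero.1 (hfaith (y - y') fun l hl => ?_)
    have hi : ∀ i, dot5 (e i) (y - y') = 0 := fun i => by
      have e1 : dot5 (e i) y = dot5 (e i) y' := congrFun h i
      have e2 := dot5_add (e i) (y - y') y'
      rw [sub_add_cancel, e1] at e2
      exact right_eq_add.1 e2 |>.symm ▸ rfl
    rcases hc3 (l 4) with e0 | e0 | e0
    · exact absurd e0 (hlast l hl)
    · obtain ⟨i, rfl⟩ : ∃ i, e i = l := ⟨ε ⟨l, Finset.mem_filter.2 ⟨hl, e0⟩⟩, by simp [e]⟩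
      exact hi i
    · obtain ⟨i, hi'⟩ : ∃ i, e i = -l := ⟨ε ⟨-l, Finset.mem_filter.2 ⟨hneg l hl, e0⟩⟩, by simp [e]⟩
      have := hi i
      rwa [hi', neg_dot5, neg_eq_zero] at this
  have hsub : I ⊆ Finset.univ.filter fun w : Fin 6 → ZMod 3 => ∑ i, w i = 0 := by
    intro w hw
    obtain ⟨y, -, rfl⟩ := Finset.mem_image.1 hw
    refine Finset.mem_filter.2 ⟨Finset.mem_univ _, ?_⟩
    have : dot5 (∑ i, e i) y = ∑ i, dot5 (e i) y := by
      simp only [dot5, Finset.sum_apply, Finset.sum_mul]
      exact Finset.sum_comm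
    rw [← this, hone]
    simp [dot5]
  have heq : I = Finset.univ.filter fun w : Fin 6 → ZMod 3 => ∑ i, w i = 0 := by
    refine Finset.eq_of_subset_of_card_le hsub ?_
    rw [Finset.card_image_of_injective _ hinj]
    decide +kernel
  have : v ∈ I := heq ▸ Finset.mem_filter.2 ⟨Finset.mem_univ _, hv⟩
  obtain ⟨y, -, hy⟩ := Finset.mem_image.1 this
  exact ⟨y, congrFun hy⟩

end Ext

end CfsgLib.FiLarge
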